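import Cfsg.Agent.Lib.SectionalThree.Main

/-!
# A small derived subgroup and a large centre

If all essential subgroups are normal of index `p`, the centre has index `p ^ 2` and the derived subgroup has
order `p`, then the core is nontrivial: either the `p`-th powers of the centre or the fixed line of the
essential automisers is invariant.
-/

set_option autoImplicit false
set_option linter.style.haveILetI false
set_option linter.unusedSectionVars false
set_option maxHeartbeats 1000000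

namespace Cfsg.Agent.Lib.SectionalThree

open Cfsg Cfsg.FusionSystem Cfsg.Agent.Lib Cfsg.Agent.Lib.FS Cfsg.Agent.Lib.EssentialRankThree
open Cfsg.Agent.Lib.Resistant67 (conjN conjN_apply conjN_pow_eq_one aut_mem_frattini)
open Cfsg.Agent.Lib.EssentialRankThree.Units (GV dd dd_apply)
open scoped commutatorElement

universe u

variable {p : ℕ} [Fact p.Prime]

/-- A group of sectional rank above two has an elementary section of order at least `p ^ 3`. -/
theorem exists_section {G : Type u} [Group G] [Finite G] (hG : IsPGroup p G) (h : ¬ SectionalPRankLE p 2 G) :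
    ∃ H K : Subgroup G, K ≤ H ∧ (∀ x ∈ H, ∀ y ∈ H, ⁅x, y⁆ ∈ K) ∧ (∀ x ∈ H, x ^ p ∈ K) ∧
      p ^ 3 * Nat.card K ≤ Nat.card H := by
  simp only [SectionalPRankLE, PRankLE, not_forall, exists_prop, not_le] at h
  obtain ⟨H, N, hN, A, hA, hAp, hlt⟩ := h
  haveI := hN
  set q := QuotientGroup.mk' N
  refine ⟨(A.comap q).map H.subtype, N.map H.subtype, Subgroup.map_mono fun x hx => ?_, ?_, ?_, ?_⟩
  · rw [Subgroup.mem_comap, show q x = 1 from (QuotientGroup.eq_one_iff x).2 hx]; exact one_mem _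
  · rintro _ ⟨x, hx, rfl⟩ _ ⟨y, hy, rfl⟩
    rw [← map_commutatorElement]
    refine Subgroup.mem_map_of_mem _ ((QuotientGroup.eq_one_iff _).1 ?_)
    show q ⁅x, y⁆ = 1
    rw [map_commutatorElement, commutatorElement_eq_one_iff_mul_comm]
    exact congrArg Subtype.val (hA.is_comm.comm ⟨q x, hx⟩ ⟨q y, hy⟩)
  · rintro _ ⟨x, hx, rfl⟩
    rw [← map_pow]
    exact Subgroup.mem_map_of_mem _ ((QuotientGroup.eq_one_iff _).1 (show q (x ^ p) = 1 by rw [map_pow]; exact hAp _ hx))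
  · rw [Subgroup.card_subtype, Subgroup.card_subtype]
    have h3 : p ^ 3 ≤ Nat.card A := by
      obtain ⟨k, hk⟩ := IsPGroup.iff_card.1 (((hG.to_subgroup H).to_quotient N).to_subgroup A)
      rw [hk] at hlt ⊢
      exact Nat.pow_le_pow_right (Fact.out : p.Prime).pos
        ((Nat.pow_lt_pow_iff_right (Fact.out : p.Prime).one_lt).1 hlt)
    have h4 : Nat.card (A.comap q) = Nat.card A * Nat.card N := by
      have h5 := Subgroup.card_mul_index (A.comap q)
      rw [Subgroup.index_comap_of_surjective _ (QuotientGroup.mk'_surjective N), ← Subgroup.card_mul_index N,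
        Subgroup.index_eq_card N, ← Subgroup.card_mul_index A] at h5
      refine Nat.eq_of_mul_eq_mul_right (Nat.pos_of_ne_zero A.index_ne_zero_of_finite) (h5.trans ?_)
      ring
    rw [h4]
    exact Nat.mul_le_mul_right _ h3

/-- Sectional rank at most two for groups of order at most `p ^ 3` which are not abelian. -/
theorem card_ge_of_rank {G : Type u} [Group G] [Finite G] (hG : IsPGroup p G) (h : ¬ SectionalPRankLE p 2 G)
    {a b : G} (hab : a * b ≠ b * a) : p ^ 4 ≤ Nat.card G := by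
  obtain ⟨H, K, -, hc, -, hle⟩ := exists_section hG h
  by_contra hlt
  obtain ⟨n, hn⟩ := IsPGroup.iff_card.1 hG
  rw [hn, Nat.pow_le_pow_iff_right (Fact.out : p.Prime).one_lt, not_le] at hlt
  have hG3 : Nat.card G ≤ p ^ 3 := hn.le.trans (Nat.pow_le_pow_right (Fact.out : p.Prime).pos (Nat.le_of_lt_succ hlt))
  have hH := (Subgroup.card_le_card_group H)
  have hK : Nat.card K = 1 := by
    have h1 := (hle.trans hH).trans hG3
    have h2 : Nat.card K ≤ 1 := Nat.le_of_mul_le_mul_left (by rwa [mul_one]) (pow_pos (Fact.out : p.Prime).pos 3)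
    exact le_antisymm h2 Nat.card_pos
  rw [hK, mul_one] at hle
  have hHtop : H = ⊤ := Subgroup.eq_top_of_card_eq _ (le_antisymm hH (hG3.trans hle))
  have h3 := hc a (hHtop ▸ Subgroup.mem_top a) b (hHtop ▸ Subgroup.mem_top b)
  rw [Subgroup.card_eq_one.1 hK, Subgroup.mem_bot, commutatorElement_eq_one_iff_mul_comm] at h3
  exact hab h3

variable {Ω : Type u} [Group Ω] {S : Subgroup Ω} [Finite S] {F : FusionSystem S} {E : Subgroup Ω}

/-- An automorphism of the base moving a central element by a fixed element of order `p` fixes it. -/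
theorem eq_one_of_unipotent (hS : IsPGroup p S) (hF : F.IsSaturated p) {κ : MulAut S} (hκ : κ ∈ F.autGroup S)
    {v δ : S} (hv : v ∈ Subgroup.center S) (h : κ v = v * δ) (hδ : κ δ = δ) (hδp : δ ^ p = 1) : δ = 1 := by
  have hit : ∀ n : ℕ, (κ ^ n) v = v * δ ^ n := by
    intro n
    induction n with
    | zero => simp
    | succ n ih => rw [pow_succ', MulAut.mul_apply, ih, map_mul, map_pow, hδ, h, pow_succ', mul_assoc]
  obtain ⟨e, m, hpm, hm⟩ := Nat.exists_eq_pow_mul_and_not_dvd (orderOf_pos κ).ne' p (Fact.out : p.Prime).one_lt.ne'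
  obtain ⟨s, hs⟩ := inn_of_base hS hF (pow_mem hκ m) (k := e) (by
    rw [← pow_mul, mul_comm, ← hm, pow_orderOf_eq_one])
  have h5 : δ ^ m = 1 := by
    have h6 := hit m
    rw [hs, MulAut.conj_apply, Subgroup.mem_center_iff.1 hv s, mul_inv_cancel_right] at h6
    exact left_eq_mul.1 h6
  have h9 := pow_gcd_eq_one.2 ⟨h5, hδp⟩
  rwa [Nat.Coprime.gcd_eq_one ((Fact.out : p.Prime).coprime_iff_not_dvd.2 hpm).symm, pow_one] at h9

variable (hS : IsPGroup p S) (hF : F.IsSaturated p) {z0 : S} (hzp : z0 ^ p = 1) (hz1 : z0 ≠ 1)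
  (hz : z0 ∈ Subgroup.center S) (hcomm : ∀ a b : S, ⁅a, b⁆ ∈ Subgroup.zpowers z0)
  (hZ : (Subgroup.center S).index = p ^ 2)

include hzp hz1 in
theorem orderOf_z0 : orderOf z0 = p := orderOf_eq_prime hzp hz1

include hz1 hcomm hZ in
theorem exists_comm_ne : ∃ a b : S, ⁅a, b⁆ ≠ 1 := by
  by_contra h
  push Not at h
  have : Subgroup.center S = ⊤ :=
    eq_top_iff.2 fun x _ => Subgroup.mem_center_iff.2 fun y => commutatorElement_eq_one_iff_mul_comm.1 (h y x)
  rw [this, Subgroup.index_top] at hZ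
  exact (Nat.one_lt_pow two_ne_zero (Fact.out : p.Prime).one_lt).ne hZ

include hzp hz1 hcomm hZ in
theorem aut_z0 (α : MulAut S) : α z0 ∈ Subgroup.zpowers z0 := by
  obtain ⟨a, b, hab⟩ := exists_comm_ne hz1 hcomm hZ
  obtain ⟨i, hi⟩ := hcomm a b
  have hi : z0 ^ i = ⁅a, b⁆ := hi
  have hco : IsCoprime i (p : ℤ) := by
    rw [isCoprime_comm, (Nat.prime_iff_prime_int.1 (Fact.out : p.Prime)).coprime_iff_not_dvd]
    intro hd
    refine hab ?_
    rw [← hi, ← orderOf_dvd_iff_zpow_eq_one, orderOf_z0 hzp hz1]; exact hd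
  obtain ⟨u, v, huv⟩ := hco
  have : z0 = ⁅a, b⁆ ^ u := by
    rw [← hi, ← zpow_mul, mul_comm]
    conv_lhs => rw [← zpow_one z0, ← huv, zpow_add, mul_comm v, zpow_mul z0 (p : ℤ), zpow_natCast, hzp, one_zpow, mul_one]
  rw [this, map_zpow, map_commutatorElement]
  refine Subgroup.zpow_mem _ ?_ _
  rw [← this]; exact hcomm _ _

/-- The centre, in the ambient group. -/
def zc (S : Subgroup Ω) : Subgroup Ω := (Subgroup.center S).map S.subtype

theorem mem_zc {x : S} : (x : Ω) ∈ zc S ↔ x ∈ Subgroup.center S := Subgroup.mem_map_iff_mem S.subtype_injective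

variable (hess : F.IsEssential p E) (hidx : (E.subgroupOf S).index = p) (hn : S ≤ Subgroup.normalizer (E : Set Ω))
include hS hF hzp hz1 hz hcomm hZ hess hidx hn

omit hzp hz1 hz hcomm hZ hidx hn in
theorem center_mem {v : S} (hv : v ∈ Subgroup.center S) : (v : Ω) ∈ E :=
  hess.1.2 E (isConj_refl F hess.2.1.1) ⟨v.2, fun y hy =>
    congrArg Subtype.val (Subgroup.mem_center_iff.1 hv (⟨y, hess.2.1.1 hy⟩ : S))⟩

theorem comm_E (a b : E) : a * b = b * a := by
  have hES : E ≤ S := hess.2.1.1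
  have hle : Subgroup.center S ≤ E.subgroupOf S := fun v hv => Subgroup.mem_subgroupOf.2 (center_mem hS hF hess hv)
  set C := (Subgroup.center S).subgroupOf (E.subgroupOf S)
  have hCi : Nat.card (↥(E.subgroupOf S) ⧸ C) = p := by
    have h1 := Subgroup.relIndex_mul_index hle
    rw [hidx, hZ, sq] at h1
    exact Nat.eq_of_mul_eq_mul_right (Fact.out : p.Prime).pos h1
  haveI := isCyclic_of_prime_card hCi
  have h := commutative_of_cyclic_center_quotient (QuotientGroup.mk' C) (fun w hw => ?_)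
    (⟨⟨a, hES a.2⟩, Subgroup.mem_subgroupOf.2 a.2⟩ : E.subgroupOf S) ⟨⟨b, hES b.2⟩, Subgroup.mem_subgroupOf.2 b.2⟩
  · exact Subtype.ext (congrArg (fun w : E.subgroupOf S => ((w : S) : Ω)) h)
  · rw [QuotientGroup.ker_mk'] at hw
    exact Subgroup.mem_center_iff.2 fun g => Subtype.ext (Subgroup.mem_center_iff.1 (Subgroup.mem_subgroupOf.1 hw) g)

/-- Some automorphism moves `z0` out of the centre. -/
theorem exists_move : ∃ α ∈ F.autGroup E, ((α ⟨z0, center_mem hS hF hess hz⟩ : E) : Ω) ∉ zc S := by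
  by_contra hno
  push Not at hno
  have hES : E ≤ S := hess.2.1.1
  have hE2 := comm_E hS hF hzp hz1 hz hcomm hZ hess hidx hn
  let V : Subgroup E :=
    { carrier := {v | v ^ p = 1 ∧ ∀ α ∈ F.autGroup E, ((α v : E) : Ω) ∈ zc S}
      one_mem' := ⟨one_pow _, fun α _ => by rw [map_one]; exact one_mem _⟩
      mul_mem' := fun {x y} hx hy => ⟨by rw [(show Commute x y from hE2 x y).mul_pow, hx.1, hy.1, one_mul],
        fun α hα => by rw [map_mul]; exact mul_mem (hx.2 α hα) (hy.2 α hα)⟩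
      inv_mem' := fun {x} hx => ⟨by rw [inv_pow, hx.1, inv_one],
        fun α hα => by rw [map_inv]; exact inv_mem (hx.2 α hα)⟩ }
  have hVi : ∀ α ∈ F.autGroup E, ∀ v ∈ V, α v ∈ V := fun α hα v hv =>
    ⟨by rw [← map_pow, hv.1, map_one], fun β hβ => by
      rw [← MulAut.mul_apply]; exact hv.2 _ ((F.autGroup E).mul_mem hβ hα)⟩
  have hzV : (⟨z0, center_mem hS hF hess hz⟩ : E) ∈ V :=
    ⟨Subtype.ext (by simpa using congrArg Subtype.val hzp), hno⟩
  let K : Subgroup (MulAut E) :=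
    { carrier := {k | k ∈ F.autGroup E ∧ (∀ v ∈ V, k v = v) ∧ ∀ x, x⁻¹ * k x ∈ V}
      one_mem' := ⟨one_mem _, fun v _ => rfl, fun x => by simp⟩
      mul_mem' := by
        rintro a b ⟨ha, hza, hma⟩ ⟨hb, hzb, hmb⟩
        refine ⟨mul_mem ha hb, fun v hv => by rw [MulAut.mul_apply, hzb v hv, hza v hv], fun x => ?_⟩
        rw [MulAut.mul_apply, show x⁻¹ * a (b x) = (x⁻¹ * b x) * ((b x)⁻¹ * a (b x)) by group]
        exact mul_mem (hmb x) (hma (b x))
      inv_mem' := by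
        rintro a ⟨ha, hza, hma⟩
        refine ⟨inv_mem ha, fun v hv => a.injective (by simp [hza v hv]), fun x => ?_⟩
        have h := inv_mem (hma (a⁻¹ x))
        rwa [MulAut.apply_inv_self, mul_inv_rev, inv_inv] at h }
  refine FusionEssential.PClosed.not_normal_pGroup hS hF hess K (fun k hk => hk.1) ?_ ?_ ?_
  · rintro γ hγ k ⟨hk, hkz, hkm⟩
    refine ⟨mul_mem (mul_mem hγ hk) (inv_mem hγ), fun v hv => ?_, fun x => ?_⟩
    · rw [MulAut.mul_apply, MulAut.mul_apply, hkz _ (hVi _ (inv_mem hγ) v hv), MulAut.apply_inv_self]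
    · have := hVi γ hγ _ (hkm (γ⁻¹ x))
      rwa [map_mul, map_inv, MulAut.apply_inv_self] at this
  · rintro ⟨k, -, hkz, hkm⟩
    refine ⟨1, Subtype.ext (MulEquiv.ext fun x => ?_)⟩
    have hit : ∀ j : ℕ, (k ^ j) x = x * (x⁻¹ * k x) ^ j := by
      intro j
      induction j with
      | zero => simp
      | succ j ih =>
        rw [pow_succ', MulAut.mul_apply, ih, map_mul, map_pow, hkz _ (hkm x), pow_succ', ← mul_assoc x,
          mul_inv_cancel_left]
    show (k ^ p ^ 1) x = x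
    rw [pow_one, hit, (hkm x).1, mul_one]
  · intro r hr
    obtain ⟨g, hg, he⟩ := mem_autInducedBy.1 hr
    refine ⟨autInducedBy_le_autGroup F hES hr, fun v hv => Subtype.ext ?_, fun x => ?_⟩
    · have h1 := mem_zc (x := (⟨v, hES v.2⟩ : S)).1 (hv.2 1 (one_mem _))
      have h2 : g * v = v * g := congrArg Subtype.val (Subgroup.mem_center_iff.1 h1 ⟨g, hg⟩)
      rw [he, h2, mul_inv_cancel_right]
    · obtain ⟨i, hi⟩ := hcomm (⟨x, hES x.2⟩ : S)⁻¹ ⟨g, hg⟩
      have : x⁻¹ * r x = (⟨z0, center_mem hS hF hess hz⟩ : E) ^ i := Subtype.ext (by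
        rw [Subgroup.coe_mul, he, Subgroup.coe_inv, Subgroup.coe_zpow]
        refine Eq.trans ?_ (congrArg Subtype.val hi).symm
        simp only [commutatorElement_def, Subgroup.coe_mul, Subgroup.coe_inv, inv_inv]
        group)
      rw [this]
      exact zpow_mem hzV i

/-- The `p`-th powers in `E` are those of the centre. -/
theorem exists_pow_center (e : E) : ∃ d ∈ Subgroup.center S, (e : Ω) ^ p = (d : Ω) ^ p := by
  have hES : E ≤ S := hess.2.1.1
  obtain ⟨α, hα, hy⟩ := exists_move hS hF hzp hz1 hz hcomm hZ hess hidx hn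
  set y : E := α ⟨z0, center_mem hS hF hess hz⟩ with hydef
  set y' : S := ⟨y, hES y.2⟩
  have hyC : y' ∉ Subgroup.center S := fun h => hy (mem_zc.2 h)
  have hyp : (y : Ω) ^ p = 1 := by
    rw [← Subgroup.coe_pow, hydef, ← map_pow,
      show (⟨z0, center_mem hS hF hess hz⟩ : E) ^ p = 1 from Subtype.ext (by simpa using congrArg Subtype.val hzp),
      map_one]; rfl
  have hle : Subgroup.center S ≤ E.subgroupOf S := fun v hv => Subgroup.mem_subgroupOf.2 (center_mem hS hF hess hv)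
  have hrel : (Subgroup.center S).relIndex (E.subgroupOf S) = p := by
    have h1 := Subgroup.relIndex_mul_index hle
    rw [hidx, hZ, sq] at h1
    exact Nat.eq_of_mul_eq_mul_right (Fact.out : p.Prime).pos h1
  set C := (Subgroup.center S).subgroupOf (E.subgroupOf S)
  haveI : C.Normal := inferInstance
  have hne : ((⟨y', Subgroup.mem_subgroupOf.2 y.2⟩ : E.subgroupOf S) : _ ⧸ C) ≠ 1 := fun h =>
    hyC (Subgroup.mem_subgroupOf.1 ((QuotientGroup.eq_one_iff _).1 h))
  have hcard : Nat.card (↥(E.subgroupOf S) ⧸ C) = p := hrel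
  obtain ⟨k, hk⟩ := Subgroup.mem_zpowers_iff.1 ((zpowers_eq_top_of_prime_card hcard hne).ge
    (Subgroup.mem_top ((⟨⟨e, hES e.2⟩, Subgroup.mem_subgroupOf.2 e.2⟩ : E.subgroupOf S) : _ ⧸ C)))
  rw [← QuotientGroup.mk_zpow, QuotientGroup.eq, Subgroup.mem_subgroupOf] at hk
  obtain ⟨d, hd⟩ : ∃ d : S, d = (y' ^ k)⁻¹ * ⟨e, hES e.2⟩ := ⟨_, rfl⟩
  refine ⟨d, by rw [hd]; exact hk, ?_⟩
  have he : (e : Ω) = (y : Ω) ^ k * d := by rw [hd]; simp [y']
  have hc : Commute ((y : Ω) ^ k) d := by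
    have := Subgroup.mem_center_iff.1 (show d ∈ Subgroup.center S by rw [hd]; exact hk) (y' ^ k)
    exact congrArg Subtype.val this
  rw [he, hc.mul_pow, ← zpow_natCast ((y : Ω) ^ k), ← zpow_mul, mul_comm, zpow_mul, zpow_natCast, hyp, one_zpow, one_mul]

omit hzp hz1 hz hcomm hZ hidx in
theorem normalizerIn_eq' : normalizerIn S E = S := le_antisymm (normalizerIn_le E) (le_inf le_rfl hn)

/-- For an elementary centre: the fixed line and the inverting automorphism. -/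
theorem exists_line_data (hp3 : 3 ≤ p) (hsr : SectionalPRankLE p 3 ↥S) (hnot2 : ¬ SectionalPRankLE p 2 ↥S)
    (hexp : ∀ d ∈ Subgroup.center S, d ^ p = 1) :
    (∀ v : E, (v : Ω) ∈ rfix F p E → (v : Ω) ∈ zc S) ∧
      (∀ d ∈ Subgroup.center S, ∃ v : S, (v : Ω) ∈ rfix F p E ∧ v ∈ Subgroup.center S ∧ ∃ j : ℤ, d = v * z0 ^ j) ∧
      (∀ j : ℤ, ((z0 ^ j : S) : Ω) ∈ rfix F p E → z0 ^ j = 1) ∧ rfix F p E ≠ ⊥ ∧
      ∃ γ ∈ F.autGroup S, γ z0 = z0⁻¹ ∧ ∀ v : S, (v : Ω) ∈ rfix F p E → γ v = v := by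
  have hp : p.Prime := Fact.out
  have hES : E ≤ S := hess.2.1.1
  haveI := finite_sub hES
  have hEp := isPGroup_of_le hS hES
  have hN := normalizerIn_eq' hS hF hess hn
  have hEpow : ∀ e : E, e ^ p = 1 := fun e => by
    obtain ⟨d, hd, he⟩ := exists_pow_center hS hF hzp hz1 hz hcomm hZ hess hidx hn e
    refine Subtype.ext ?_
    rw [Subgroup.coe_pow, he, ← Subgroup.coe_pow, hexp d hd]; rfl
  have hΦ : frattini ↥E = ⊥ := by
    refine le_bot_iff.1 (PGroups.frattini_le_of_pow_commutator (p := p) ⊥ (fun v => ?_) ?_)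
    · rw [Subgroup.mem_bot]; exact hEpow v
    · rw [_root_.commutator_def, Subgroup.commutator_le]
      intro a _ b _
      rw [Subgroup.mem_bot, commutatorElement_eq_one_iff_mul_comm]
      exact comm_E hS hF hzp hz1 hz hcomm hZ hess hidx hn a b
  have hbot : phi E = ⊥ := by rw [phi, hΦ, Subgroup.map_bot]
  obtain ⟨a, b, hab⟩ := exists_comm_ne hz1 hcomm hZ
  have hS4 := card_ge_of_rank hS hnot2 (a := a) (b := b) fun h => hab (commutatorElement_eq_one_iff_mul_comm.2 h)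
  have hSE : Nat.card E * p = Nat.card S := by
    rw [← Subgroup.card_mul_index (E.subgroupOf S), hidx, Nat.card_congr (Subgroup.subgroupOfEquivOfLe hES).toEquiv]
  have hEcard : Nat.card E = p ^ 3 := by
    refine le_antisymm ?_ (Nat.le_of_mul_le_mul_right (by rw [← pow_succ, hSE]; exact hS4) hp.pos)
    have := index_le hS hsr hess
    rwa [hΦ, Subgroup.index_bot] at this
  have hrk : (frattini ↥E).index = p ^ 3 := by rw [hΦ, Subgroup.index_bot, hEcard]
  have hZcard : Nat.card (Subgroup.center S) = p ^ 2 := by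
    have := Subgroup.card_mul_index (Subgroup.center S)
    rw [hZ, ← hSE, hEcard, ← pow_succ] at this
    exact Nat.eq_of_mul_eq_mul_right (pow_pos hp.pos 2) (this.trans (by ring))
  obtain ⟨V, _, _, _, ⟨d⟩⟩ := exists_auto hS hF hess hrk
  have hvinj : ∀ {y y' : Ω}, y ∈ E → y' ∈ E → d.c.v y = d.c.v y' → y = y' := fun hy hy' h => by
    have := (d.c.eq_iff hy hy').1 h
    rw [hbot, Subgroup.mem_bot, inv_mul_eq_one] at this
    exact this
  obtain ⟨⟨x, hxN⟩, hxE⟩ := Resistant67.exists_normalizer_not_mem hS hF hess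
  obtain ⟨u0, hu, hact⟩ := d.exists_rho_conj hES hxN
  have hu1 : u0 ≠ 1 := fun h => hxE (d.mem_of_trivial hess hxN fun y hy => by rw [← hact y hy, h]; rfl)
  -- commutators with `x`
  have hcx : ∀ y, y ∈ E → ∃ j : ℤ, x * y * x⁻¹ = ((z0 ^ j : S) : Ω) * y := fun y hy => by
    obtain ⟨j, hj⟩ := hcomm ⟨x, hxN.1⟩ ⟨y, hES hy⟩
    refine ⟨j, ?_⟩
    rw [show ((z0 ^ j : S) : Ω) = x * y * x⁻¹ * y⁻¹ from (congrArg Subtype.val hj).trans (by simp [commutatorElement_def])]
    group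
  have hzE : ∀ j : ℤ, ((z0 ^ j : S) : Ω) ∈ E := fun j => center_mem hS hF hess (zpow_mem hz j)
  have hfixz : ∀ j : ℤ, u0.1 (d.c.v ((z0 ^ j : S) : Ω)) = d.c.v ((z0 ^ j : S) : Ω) := fun j => by
    rw [hact _ (hzE j)]
    congr 1
    rw [show x * ((z0 ^ j : S) : Ω) = ((z0 ^ j : S) : Ω) * x from
      congrArg Subtype.val (Subgroup.mem_center_iff.1 (zpow_mem hz j) ⟨x, hxN.1⟩), mul_inv_cancel_right]
  have hddv : ∀ y ∈ E, ∃ j : ℤ, dd u0 (d.c.v y) = d.c.v ((z0 ^ j : S) : Ω) := fun y hy => by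
    obtain ⟨j, hj⟩ := hcx y hy
    refine ⟨j, ?_⟩
    rw [dd_apply, hact y hy, hj, d.c.map_mul _ (hzE j) _ hy, add_sub_cancel_right]
  have h2 : ∀ v, dd u0 (dd u0 v) = 0 := fun v => by
    obtain ⟨y, hy, rfl⟩ := d.c.surj v
    obtain ⟨j, hj⟩ := hddv y hy
    rw [hj, dd_apply, hfixz, sub_self]
  -- a fixed vector
  have hne : rfix F p E ≠ ⊥ := by
    obtain ⟨w, hw, hfix⟩ := exists_fixed hp3 d.card d.emb hu hu1 h2
    obtain ⟨y, hy, rfl⟩ := d.c.surj w
    intro hbot'
    refine hw ?_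
    have hmem : y ∈ rfix F p E := (mem_rfix (v := ⟨y, hy⟩)).2 fun α hα ⟨k, hk⟩ => Subtype.ext <|
      hvinj (SetLike.coe_mem _) hy ((d.rho α ⟨y, hy⟩).symm.trans
        (hfix (Subgroup.zpowers (d.ρ α)) (Subgroup.zpowers_le.2 ⟨α, hα, rfl⟩) (by
          rintro ⟨_, j, rfl⟩
          refine ⟨k, Subtype.ext ?_⟩
          rw [Subgroup.coe_pow, Subgroup.coe_one, ← zpow_natCast, ← zpow_mul, mul_comm, zpow_mul, zpow_natCast,
            ← map_pow, hk, map_one, one_zpow]) _ (Subgroup.mem_zpowers _)))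
    rw [hbot', Subgroup.mem_bot] at hmem
    rw [hmem, d.c.map_one]
  have hcen : ∀ v : E, (v : Ω) ∈ rfix F p E → (v : Ω) ∈ zc S := fun v hv => by
    refine (mem_zc (x := (⟨v, hES v.2⟩ : S))).2 (Subgroup.mem_center_iff.2 fun s => ?_)
    have h := (mem_rfix (v := v)).1 hv (conjN F hES ⟨s, hN.ge s.2⟩ : MulAut E) (SetLike.coe_mem _)
      (conjN_pow_eq_one hS hES ⟨s, hN.ge s.2⟩)
    have h' : (s : Ω) * v * (s : Ω)⁻¹ = v := congrArg Subtype.val h
    exact Subtype.ext (mul_inv_eq_iff_eq_mul.1 h')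
  have hzr : ∀ j : ℤ, ((z0 ^ j : S) : Ω) ∈ rfix F p E → z0 ^ j = 1 := by
    intro j hj
    by_contra hj1
    obtain ⟨α, hα, hy⟩ := exists_move hS hF hzp hz1 hz hcomm hZ hess hidx hn
    refine hy (hcen _ (aut_mem_rfix hα ?_))
    have hgen : z0 ∈ Subgroup.zpowers (z0 ^ j) := by
      have hco : IsCoprime j (p : ℤ) := by
        rw [isCoprime_comm, (Nat.prime_iff_prime_int.1 hp).coprime_iff_not_dvd]
        intro hd
        exact hj1 (orderOf_dvd_iff_zpow_eq_one.1 ((orderOf_z0 hzp hz1).symm ▸ hd))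
      obtain ⟨s, t, hst⟩ := hco
      refine ⟨s, ?_⟩
      show (z0 ^ j) ^ s = z0
      conv_rhs => rw [← zpow_one z0, ← hst, zpow_add, mul_comm t, zpow_mul z0 (p : ℤ), zpow_natCast, hzp, one_zpow, mul_one]
      rw [← zpow_mul, mul_comm]
    obtain ⟨s, hs⟩ := hgen
    show (z0 : Ω) ∈ rfix F p E
    rw [← show (z0 ^ j) ^ s = z0 from hs, Subgroup.coe_zpow]
    exact zpow_mem hj s
  -- the centre is the product of the line and `⟨z0⟩`
  have hprod : ∀ c ∈ Subgroup.center S,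
      ∃ v : S, (v : Ω) ∈ rfix F p E ∧ v ∈ Subgroup.center S ∧ ∃ j : ℤ, c = v * z0 ^ j := by
    set T := (rfix F p E).subgroupOf S
    have hTc : T ≤ Subgroup.center S := fun v hv =>
      mem_zc.1 (hcen ⟨v, rfix_le hv⟩ hv)
    have hTne : T ≠ ⊥ := fun h => hne ((Subgroup.eq_bot_iff_forall _).2 fun r hr => by
      have hrT : (⟨r, hES (rfix_le hr)⟩ : S) ∈ T := Subgroup.mem_subgroupOf.2 hr
      rw [h, Subgroup.mem_bot] at hrT
      exact congrArg Subtype.val hrT)
    have hTp : p ≤ Nat.card T := by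
      obtain ⟨k, hk⟩ := IsPGroup.iff_card.1 (hS.to_subgroup T)
      rw [hk]
      refine Nat.le_self_pow ?_ p
      rintro rfl
      exact hTne (Subgroup.card_eq_one.1 (by rw [hk, pow_zero]))
    let f : T × Subgroup.zpowers z0 → Subgroup.center S := fun w =>
      ⟨(w.1 : S) * (w.2 : S), mul_mem (hTc w.1.2) (Subgroup.zpowers_le.2 hz w.2.2)⟩
    have hf : Function.Injective f := by
      intro w w' h
      have h' : (w.1 : S) * w.2 = w'.1 * w'.2 := congrArg Subtype.val h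
      have h1 : ((w'.1 : S))⁻¹ * w.1 = (w'.2 : S) * (w.2 : S)⁻¹ := by
        rw [eq_mul_inv_iff_mul_eq, mul_assoc, h', inv_mul_cancel_left]
      obtain ⟨j, hj⟩ := (Subgroup.zpowers z0).mul_mem w'.2.2 ((Subgroup.zpowers z0).inv_mem w.2.2)
      have hj' : z0 ^ j = ((w'.1 : S))⁻¹ * w.1 := hj.trans h1.symm
      have h2 := hzr j (Subgroup.mem_subgroupOf.1 (hj' ▸ T.mul_mem (T.inv_mem w'.1.2) w.1.2))
      rw [hj', inv_mul_eq_one] at h2
      exact Prod.ext (Subtype.ext h2.symm) (Subtype.ext (by rw [h2] at h'; exact mul_left_cancel h'))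
    have hbij := hf.bijective_of_nat_card_le (by
      rw [hZcard, Nat.card_prod, Nat.card_zpowers, orderOf_z0 hzp hz1, sq]
      exact Nat.mul_le_mul_right p hTp)
    intro c hc
    obtain ⟨⟨⟨v, hv⟩, ⟨_, j, rfl⟩⟩, hvw⟩ := hbij.2 ⟨c, hc⟩
    exact ⟨v, Subgroup.mem_subgroupOf.1 hv, hTc hv, j, (congrArg Subtype.val hvw).symm⟩
  -- the torus element of order two
  obtain ⟨e, z, w, hind, hue, huz, huw, htor⟩ := Embedded.exists_torus hp3 d.card d.emb hu hu1 h2
  obtain ⟨_, ⟨α, hα, rfl⟩, hαe, hαz, hαw⟩ := htor (-1) (neg_ne_zero.2 one_ne_zero)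
  rw [show ((-1 : ZMod p))⁻¹ = -1 from inv_eq_of_mul_eq_one_right (by ring)] at hαe
  have hzz : ∀ j : ℤ, ∃ b : ZMod p, d.c.v ((z0 ^ j : S) : Ω) = b • z := by
    intro j
    obtain ⟨e0, he0, hev⟩ := d.c.surj e
    obtain ⟨i, hi⟩ := hddv e0 he0
    rw [hev, dd_apply, hue, add_sub_cancel_left] at hi
    have hz0ne : z ≠ 0 := fun h => by
      have := hind 0 1 0 (by rw [h]; simp)
      exact one_ne_zero this.2.1
    have hi1 : ((z0 ^ i : S) : Ω) ≠ 1 := fun h => hz0ne (by rw [hi, h, d.c.map_one])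
    have hi0 : (i : ZMod p) ≠ 0 := fun h => hi1 (by
      rw [orderOf_dvd_iff_zpow_eq_one.1 (show (orderOf z0 : ℤ) ∣ i by
        rw [orderOf_z0 hzp hz1]; exact (ZMod.intCast_zmod_eq_zero_iff_dvd i p).1 h)]; rfl)
    have hzv : ∀ m : ℤ, d.c.v ((z0 ^ m : S) : Ω) = (m : ZMod p) • d.c.v (z0 : Ω) := fun m => by
      rw [Subgroup.coe_zpow, d.c.map_zpow (center_mem hS hF hess hz)]
    refine ⟨(j : ZMod p) / i, ?_⟩
    rw [hi, hzv, hzv, smul_smul, div_mul_cancel₀ _ hi0]
  have hαz0 : ∀ j : ℤ, ((α ⟨_, hzE j⟩ : E) : Ω) = ((z0 ^ j : S) : Ω)⁻¹ := fun j => by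
    refine hvinj (SetLike.coe_mem _) (E.inv_mem (hzE j)) ?_
    obtain ⟨b, hb⟩ := hzz j
    rw [← d.rho α ⟨_, hzE j⟩, d.c.map_inv (hzE j)]
    show (d.ρ α).1 (d.c.v ((z0 ^ j : S) : Ω)) = _
    rw [hb, map_smul, hαz, neg_one_smul, smul_neg]
  have hcomm' : d.ρ α * u0 = u0 * d.ρ α := by
    refine Units.ext_apply fun v => ?_
    obtain ⟨a, b, c, rfl⟩ := hind.span d.card v
    simp only [Units.mul_apply, map_add, map_smul, hue, huz, huw, hαe, hαz, hαw, neg_one_smul, map_neg]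
    module
  have hαR : ∀ r ∈ autInducedBy S E, α * r * α⁻¹ ∈ autInducedBy S E := by
    intro r hr
    obtain ⟨j, hj⟩ := (Embedded.mem_P_iff hp3 d.card d.emb hu hu1).1 ⟨r, hr, rfl⟩
    have hcj : d.ρ α * u0 ^ j = u0 ^ j * d.ρ α := (show Commute (d.ρ α) u0 from hcomm').pow_right j
    have hrA := autInducedBy_le_autGroup F hES hr
    have h1 : d.ρ (r⁻¹ * (α * r * α⁻¹)) = 1 := by
      rw [map_mul, map_inv, map_mul, map_mul, map_inv, ← hj, hcj, mul_inv_cancel_right, inv_mul_cancel]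
    have h2 := d.ker _ ((F.autGroup E).mul_mem ((F.autGroup E).inv_mem hrA)
      ((F.autGroup E).mul_mem ((F.autGroup E).mul_mem hα hrA) ((F.autGroup E).inv_mem hα))) h1
    have := (autInducedBy S E).mul_mem hr (inn_le_autInducedBy hES h2)
    rwa [mul_inv_cancel_left] at this
  -- extend it
  obtain ⟨φ, hφ, hφr, hφα⟩ := exists_hom_of_aut hES hα
  obtain ⟨ψ, hψ, hψe⟩ := (receptive_of_fullyNormalized hS hF hess.2.1).2 E φ hφ hφr
  have hext : S ≤ extender S E φ := fun g hg => by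
    obtain ⟨h, hh, hhe⟩ := mem_autInducedBy.1
      (hαR (conjN F hES ⟨g, hN.ge hg⟩ : MulAut E) (mem_autInducedBy.2 ⟨g, hg, fun _ => rfl⟩))
    refine mem_extender_of (hN.ge hg) hh fun y hy => ?_
    rw [hφα, hφα, ← hhe (α y), MulAut.mul_apply, MulAut.mul_apply, MulAut.inv_apply_self]
    congr 2
  obtain ⟨ψ', hψ', hψ'e⟩ := exists_restrict hψ hext
  have hψ'r : ψ'.range = S := range_eq_of_mem hψ' (fun g => apply_mem hψ' g) le_rfl
  set γ : MulAut S := homEquiv hψ' hψ'r with hγdef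
  have hγE : ∀ y : S, ∀ hy : (y : Ω) ∈ E, ((γ y : S) : Ω) = (α ⟨y, hy⟩ : E) := fun y hy => by
    rw [hγdef, homEquiv_coe, hψ'e, ← hφα ⟨y, hy⟩]
    exact hψe _ hy _
  refine ⟨hcen, hprod, hzr, hne, γ, homEquiv_mem_autGroup hψ' hψ'r, ?_, fun v hv => ?_⟩
  · have h1 := hαz0 1
    refine Subtype.ext ?_
    rw [hγE z0 (center_mem hS hF hess hz), Subgroup.coe_inv]
    simpa using h1
  · refine Subtype.ext ?_
    rw [hγE v (rfix_le hv)]
    obtain ⟨a, b, c, hvc⟩ := hind.span d.card (d.c.v (v : Ω))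
    have hfixu : u0.1 (d.c.v (v : Ω)) = d.c.v (v : Ω) := by
      rw [hact _ (rfix_le hv)]
      congr 1
      rw [show x * (v : Ω) = (v : Ω) * x from congrArg Subtype.val
        (Subgroup.mem_center_iff.1 (mem_zc.1 (hcen ⟨v, rfix_le hv⟩ hv)) ⟨x, hxN.1⟩), mul_inv_cancel_right]
    have ha : a = 0 := by
      rw [hvc, map_add, map_add, map_smul, map_smul, map_smul, hue, huz, huw] at hfixu
      exact (hind 0 a 0 (by linear_combination (norm := module) hfixu)).2.1
    subst ha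
    have hαv : d.c.v ((α ⟨v, rfix_le hv⟩ : E) : Ω) = d.c.v (v : Ω) + ((-2) * b) • z := by
      rw [← d.rho α ⟨v, rfix_le hv⟩]
      show (d.ρ α).1 (d.c.v (v : Ω)) = _
      rw [hvc, map_add, map_add, map_smul, map_smul, map_smul, hαe, hαz, hαw]
      module
    have hmem : (v : Ω)⁻¹ * (α ⟨v, rfix_le hv⟩ : E) ∈ rfix F p E :=
      mul_mem (inv_mem hv) (aut_mem_rfix hα hv)
    obtain ⟨b', hb'⟩ := hzz 1
    have hb'0 : b' ≠ 0 := fun h => hz1 (Subtype.ext (hvinj (center_mem hS hF hess hz) E.one_mem (by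
      rw [zpow_one] at hb'; rw [hb', h, zero_smul, OneMemClass.coe_one, d.c.map_one])))
    set m : ℕ := ((-2) * b / b').val with hm
    have heq : (v : Ω)⁻¹ * (α ⟨v, rfix_le hv⟩ : E) = ((z0 ^ (m : ℤ) : S) : Ω) := by
      refine hvinj (E.mul_mem (E.inv_mem (rfix_le hv)) (SetLike.coe_mem _)) (hzE m) ?_
      rw [d.c.map_mul _ (E.inv_mem (rfix_le hv)) _ (SetLike.coe_mem _), d.c.map_inv (rfix_le hv), hαv,
        Subgroup.coe_zpow, d.c.map_zpow (center_mem hS hF hess hz), Int.cast_natCast, hm, ZMod.natCast_zmod_val]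
      rw [zpow_one] at hb'
      rw [hb', smul_smul, div_mul_cancel₀ _ hb'0]
      abel
    have h1 := hzr m (heq ▸ hmem)
    rw [h1, Subgroup.coe_one, inv_mul_eq_one] at heq
    exact heq.symm

omit hess hidx hn

/-- The centre cannot have index `p ^ 2` with a derived subgroup of order `p` when the core is trivial. -/
theorem false_of_small_derived (hp3 : 3 ≤ p) (hsr : SectionalPRankLE p 3 ↥S) (hnot2 : ¬ SectionalPRankLE p 2 ↥S)
    (hO : F.core = ⊥) (hall : ∀ E, F.IsEssential p E → S ≤ Subgroup.normalizer (E : Set Ω) ∧ (E.subgroupOf S).index = p) :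
    False := by
  have hp : p.Prime := Fact.out
  have hαc : ∀ α : MulAut S, ∀ v ∈ Subgroup.center S, α v ∈ Subgroup.center S := fun α v hv =>
    Subgroup.mem_center_iff.2 fun g => by
      obtain ⟨g, rfl⟩ := α.surjective g
      rw [← map_mul, ← map_mul, Subgroup.mem_center_iff.1 hv g]
  by_cases hexp : ∀ d ∈ Subgroup.center S, d ^ p = 1
  swap
  · push Not at hexp
    obtain ⟨d0, hd0, hd0p⟩ := hexp
    let R : Subgroup Ω :=
      { carrier := {x | ∃ d ∈ Subgroup.center S, x = (d : Ω) ^ p}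
        one_mem' := ⟨1, one_mem _, by simp⟩
        mul_mem' := by
          rintro _ _ ⟨a, ha, rfl⟩ ⟨b, hb, rfl⟩
          refine ⟨a * b, mul_mem ha hb, ?_⟩
          rw [Subgroup.coe_mul, (show Commute (a : Ω) b from
            congrArg Subtype.val (Subgroup.mem_center_iff.1 hb a)).mul_pow]
        inv_mem' := by
          rintro _ ⟨a, ha, rfl⟩
          exact ⟨a⁻¹, inv_mem ha, by simp⟩ }
    refine core_ne_bot (R := R) hS hF ?_ ?_ ?_ (fun E hE => ?_) hO
    · intro h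
      have : (d0 : Ω) ^ p ∈ R := ⟨d0, hd0, rfl⟩
      rw [h, Subgroup.mem_bot] at this
      exact hd0p (Subtype.ext (by simpa using this))
    · rintro _ ⟨d, -, rfl⟩; exact S.pow_mem d.2 p
    · rintro α - v ⟨d, hd, hv⟩
      refine ⟨α d, hαc α d hd, ?_⟩
      rw [← Subgroup.coe_pow, ← map_pow]
      exact congrArg (fun w : S => ((α w : S) : Ω)) (Subtype.ext (by simpa using hv))
    · obtain ⟨hn, hidx⟩ := hall E hE
      refine ⟨?_, ?_⟩
      · rintro _ ⟨d, hd, rfl⟩; exact E.pow_mem (center_mem hS hF hE hd) p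
      · rintro α hα v ⟨d, hd, hv⟩
        obtain ⟨d', hd', he⟩ := exists_pow_center hS hF hzp hz1 hz hcomm hZ hE hidx hn (α ⟨d, center_mem hS hF hE hd⟩)
        refine ⟨d', hd', ?_⟩
        rw [← he, ← Subgroup.coe_pow, ← map_pow]
        exact congrArg (fun w : E => ((α w : E) : Ω)) (Subtype.ext (by simpa using hv))
  by_cases hex : ∃ E0, F.IsEssential p E0
  swap
  · push Not at hex
    exact core_ne_bot (R := S) hS hF
      (fun h => hz1 (Subtype.ext ((Subgroup.eq_bot_iff_forall S).1 h _ z0.2))) le_rfl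
      (fun α _ v _ => SetLike.coe_mem _) (fun E hE => absurd hE (hex E)) hO
  obtain ⟨E0, hE0⟩ := hex
  have hdata := fun E (hE : F.IsEssential p E) =>
    exists_line_data hS hF hzp hz1 hz hcomm hZ hE (hall E hE).2 (hall E hE).1 hp3 hsr hnot2 hexp
  have hodd : ∀ j : ℤ, z0 ^ (2 * j) = 1 → z0 ^ j = 1 := by
    intro j h
    rw [← orderOf_dvd_iff_zpow_eq_one, orderOf_z0 hzp hz1] at h ⊢
    refine ((Nat.prime_iff_prime_int.1 hp).dvd_or_dvd h).resolve_left fun h2 => ?_
    have := Int.le_of_dvd (by norm_num) h2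
    omega
  -- the automorphisms of `S` preserve each line
  have hbase : ∀ E, F.IsEssential p E → ∀ φ ∈ F.autGroup S, ∀ v : S, (v : Ω) ∈ rfix F p E →
      ((φ v : S) : Ω) ∈ rfix F p E := by
    intro E hE φ hφ v hv
    obtain ⟨hcen, hprod, hzr, -, γ, hγ, hγz, hγv⟩ := hdata E hE
    have hvc : v ∈ Subgroup.center S := mem_zc.1 (hcen ⟨v, rfix_le hv⟩ hv)
    obtain ⟨u, hu, huc, j, hj⟩ := hprod (φ v) (hαc φ v hvc)
    have hγu : γ (φ v) = φ v * z0 ^ (-(2 * j)) := by
      rw [hj, map_mul, hγv u hu, map_zpow, hγz, inv_zpow', mul_assoc, ← zpow_add]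
      congr 2; ring
    set κ := (φ * γ)⁻¹ * (γ * φ) with hκ
    have hκA : κ ∈ F.autGroup S := mul_mem (inv_mem (mul_mem hφ hγ)) (mul_mem hγ hφ)
    have hκv : κ v = v * (φ * γ)⁻¹ (z0 ^ (-(2 * j))) := by
      show (φ * γ)⁻¹ (γ (φ v)) = _
      rw [hγu, map_mul]
      congr 1
      rw [show φ v = (φ * γ) v by rw [MulAut.mul_apply, hγv v hv], MulAut.inv_apply_self]
    obtain ⟨i, hi⟩ := aut_z0 hzp hz1 hcomm hZ φ
    have hi : z0 ^ i = φ z0 := hi
    have hκz : κ z0 = z0 := by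
      show (φ * γ)⁻¹ (γ (φ z0)) = z0
      refine (φ * γ).injective ?_
      rw [MulAut.apply_inv_self, MulAut.mul_apply, hγz, map_inv, ← hi, map_zpow, hγz, inv_zpow]
    obtain ⟨l, hl⟩ := aut_z0 hzp hz1 hcomm hZ (φ * γ)⁻¹
    have hl : z0 ^ l = (φ * γ)⁻¹ z0 := hl
    have hδ : (φ * γ)⁻¹ (z0 ^ (-(2 * j))) = z0 ^ (l * (-(2 * j))) := by rw [map_zpow, ← hl, ← zpow_mul]
    have h1 := eq_one_of_unipotent hS hF hκA hvc hκv (by rw [hδ, map_zpow, hκz])
      (by rw [hδ, ← zpow_natCast, ← zpow_mul, mul_comm, zpow_mul, zpow_natCast, hzp, one_zpow])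
    rw [← map_one (φ * γ)⁻¹] at h1
    have h2 := hodd j (by
      have := ((φ * γ)⁻¹).injective h1
      rwa [zpow_neg, inv_eq_one] at this)
    rw [h2, mul_one] at hj
    rw [hj]
    exact hu
  have hle : ∀ E E', F.IsEssential p E → F.IsEssential p E' → rfix F p E ≤ rfix F p E' := by
    intro E E' hE hE' r hr
    obtain ⟨hcen, -, hzr, -, -⟩ := hdata E hE
    obtain ⟨-, hprod', -, -, γ, hγ, hγz, hγv⟩ := hdata E' hE'
    set v : S := ⟨r, hE.2.1.1 (rfix_le hr)⟩
    have hvc : v ∈ Subgroup.center S := mem_zc.1 (hcen ⟨r, rfix_le hr⟩ hr)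
    obtain ⟨u, hu, -, j, hj⟩ := hprod' v hvc
    have h1 : ((v⁻¹ * γ v : S) : Ω) ∈ rfix F p E :=
      mul_mem (inv_mem (show (v : Ω) ∈ rfix F p E from hr)) (hbase E hE γ hγ v hr)
    rw [hj, map_mul, hγv u hu, map_zpow, hγz, mul_inv_rev, mul_assoc, inv_mul_cancel_left, inv_zpow', ← zpow_neg,
      ← zpow_add] at h1
    have h2 := hodd j (by
      have := hzr _ h1
      rwa [show -j + -j = -(2 * j) by ring, zpow_neg, inv_eq_one] at this)
    rw [h2, mul_one] at hj
    rw [show r = (v : Ω) from rfl, hj]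
    exact hu
  refine core_ne_bot (R := rfix F p E0) hS hF (hdata E0 hE0).2.2.2.1 (rfix_le.trans hE0.2.1.1) (hbase E0 hE0)
    (fun E hE => ⟨(hle E0 E hE0 hE).trans rfix_le, fun α hα v hv => ?_⟩) hO
  exact hle E E0 hE hE0 (aut_mem_rfix hα (hle E0 E hE0 hE hv))

end Cfsg.Agent.Lib.SectionalThree
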