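import Cfsg.Agent.Lib.EssentialRankThree.TData
import Cfsg.Agent.Lib.EssentialRankThree.Final

/-!
# Formulas in groups of small class, and invariance of layers
-/

set_option autoImplicit false
set_option linter.style.haveILetI false
set_option linter.unusedSectionVars false

namespace Cfsg.Agent.Lib.SectionalThree

open Cfsg Cfsg.Agent.Lib Cfsg.Agent.Lib.EssentialRankThree

universe u

/-- Iterates of an endomorphism moving `y` by `x` in two central steps. -/
theorem iterate_formula {Q : Type*} [Group Q] (f : Q →* Q) {y x B A A' : Q} (hB : ∀ g, Commute B g)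
    (hA : ∀ g, Commute A g) (hA' : ∀ g, Commute A' g) (fy : f y = y * x) (fx : f x = x * B * A)
    (fB : f B = B * A') (fA : f A = A) (fA' : f A' = A') (n : ℕ) :
    f^[n] y = y * x ^ n * B ^ n.choose 2 * A ^ n.choose 2 * A' ^ n.choose 3 := by
  induction n with
  | zero => simp
  | succ n ih =>
    have h1 : (x * B * A) ^ n = x ^ n * B ^ n * A ^ n := by
      rw [((hA (x * B)).symm).mul_pow, ((hB x).symm).mul_pow]
    have h2 : (B * A') ^ n.choose 2 = B ^ n.choose 2 * A' ^ n.choose 2 := (hB A').mul_pow _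
    rw [Function.iterate_succ_apply', ih, map_mul, map_mul, map_mul, map_mul, map_pow, map_pow, map_pow, map_pow,
      fy, fx, fB, fA, fA', h1, h2, Nat.choose_succ_succ' n 1, Nat.choose_succ_succ' n 2, Nat.choose_one_right,
      pow_succ' x, pow_add, pow_add, pow_add]
    calc y * x * (x ^ n * B ^ n * A ^ n) * (B ^ n.choose 2 * A' ^ n.choose 2) * A ^ n.choose 2 * A' ^ n.choose 3
        = y * (x * x ^ n) * B ^ n * (A ^ n * B ^ n.choose 2) * (A' ^ n.choose 2 * A ^ n.choose 2) *
          A' ^ n.choose 3 := by group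
      _ = y * (x * x ^ n) * B ^ n * (B ^ n.choose 2 * A ^ n) * (A ^ n.choose 2 * A' ^ n.choose 2) *
          A' ^ n.choose 3 := by rw [((hA _).pow_left n).eq, ((hA' _).pow_left (n.choose 2)).eq]
      _ = y * (x * x ^ n) * (B ^ n * B ^ n.choose 2) * (A ^ n * A ^ n.choose 2) *
          (A' ^ n.choose 2 * A' ^ n.choose 3) := by group

/-- Conjugation by a power, in class at most four. -/
theorem conj_pow_formula {Q : Type*} [Group Q] {x y z a l : Q} (hy : x * y * x⁻¹ = z * y)
    (hz : x * z * x⁻¹ = z * a) (ha : x * a * x⁻¹ = a * l) (hl : x * l * x⁻¹ = l) (hza : Commute z a)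
    (hzl : Commute z l) (hal : Commute a l) (n : ℕ) :
    x ^ n * y * (x ^ n)⁻¹ = z ^ n * a ^ n.choose 2 * l ^ n.choose 3 * y := by
  induction n with
  | zero => simp
  | succ n ih =>
    have hc : ∀ (u : Q) (k : ℕ), x * u ^ k * x⁻¹ = (x * u * x⁻¹) ^ k := fun u k => (conj_pow).symm
    calc x ^ (n + 1) * y * (x ^ (n + 1))⁻¹ = x * (x ^ n * y * (x ^ n)⁻¹) * x⁻¹ := by rw [pow_succ']; group
      _ = x * z ^ n * x⁻¹ * (x * a ^ n.choose 2 * x⁻¹) * (x * l ^ n.choose 3 * x⁻¹) * (x * y * x⁻¹) := by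
          rw [ih]; group
      _ = z ^ n * a ^ n * (a ^ n.choose 2 * l ^ n.choose 2) * l ^ n.choose 3 * (z * y) := by
          rw [hc, hc, hc, hy, hz, ha, hl, hza.mul_pow, hal.mul_pow]
      _ = z ^ n * (a ^ n * a ^ n.choose 2) * (l ^ n.choose 2 * l ^ n.choose 3 * z) * y := by group
      _ = z ^ n * (a ^ n * a ^ n.choose 2) * (z * (l ^ n.choose 2 * l ^ n.choose 3)) * y := by
          rw [((hzl.symm.pow_left _).mul_left (hzl.symm.pow_left _)).eq]
      _ = z ^ n * ((a ^ n * a ^ n.choose 2) * z) * (l ^ n.choose 2 * l ^ n.choose 3) * y := by group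
      _ = z ^ n * (z * (a ^ n * a ^ n.choose 2)) * (l ^ n.choose 2 * l ^ n.choose 3) * y := by
          rw [((hza.symm.pow_left _).mul_left (hza.symm.pow_left _)).eq]
      _ = _ := by
          rw [Nat.choose_succ_succ' n 1, Nat.choose_succ_succ' n 2, Nat.choose_one_right, pow_succ z, pow_add,
            pow_add]
          group

/-- The binomial coefficients below a prime. -/
theorem pow_choose_eq_one {Q : Type*} [Group Q] {p : ℕ} [Fact p.Prime] {a : Q} (ha : a ^ p = 1) {k : ℕ}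
    (hk : k ≠ 0) (hkp : k < p) : a ^ p.choose k = 1 := by
  obtain ⟨t, ht⟩ := (Fact.out : p.Prime).dvd_choose_self hk hkp
  rw [ht, pow_mul, ha, one_pow]

/-- A coset of central-commutator elements of order `p` has constant `p`-th power. -/
theorem mul_pow_prime {Q : Type*} [Group Q] {p : ℕ} [Fact p.Prime] (hp : 3 ≤ p) {g f : Q} (hf : f ^ p = 1)
    (hg : Commute (f * g * f⁻¹ * g⁻¹) g) (hf' : Commute (f * g * f⁻¹ * g⁻¹) f)
    (hc : (f * g * f⁻¹ * g⁻¹) ^ p = 1) : (g * f) ^ p = g ^ p := by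
  rw [mul_pow_class_two g f hg hf', hf, mul_one, pow_choose_eq_one hc two_ne_zero (by omega), mul_one]

variable {p : ℕ} [Fact p.Prime] {G : Type u} [Group G]

/-- Automorphisms preserve the layer of an invariant subgroup. -/
theorem aut_mem_layer {F₀ : Subgroup G} (hF : ∀ α : MulAut G, ∀ v ∈ F₀, α v ∈ F₀) (α : MulAut G) {v : G}
    (hv : v ∈ EssentialRankThree.layer p ⊤ F₀) : α v ∈ EssentialRankThree.layer p ⊤ F₀ :=
  map_mem_layer (E := (⊤ : Subgroup G)) (B := ⊤) (α.toMonoidHom.comp (⊤ : Subgroup G).subtype) le_top le_top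
    (fun _ _ => trivial) (fun v hv => hF α v hv) (x := ⟨v, trivial⟩) hv

theorem layer_le_self {F₀ : Subgroup G} (hF : ∀ α : MulAut G, ∀ v ∈ F₀, α v ∈ F₀) : EssentialRankThree.layer p ⊤ F₀ ≤ F₀ :=
  layer_le fun g _ _ hv => hF (MulAut.conj g) _ hv

theorem layer_normal {F₀ : Subgroup G} (hF : ∀ α : MulAut G, ∀ v ∈ F₀, α v ∈ F₀) : (EssentialRankThree.layer p ⊤ F₀).Normal :=
  ⟨fun _ hv g => aut_mem_layer hF (MulAut.conj g) hv⟩

/-- A characteristic subgroup equal to its layer is trivial. -/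
theorem eq_bot_of_eq_layer [Finite G] (hG : IsPGroup p G) {F₀ : Subgroup G}
    (hF : ∀ α : MulAut G, ∀ v ∈ F₀, α v ∈ F₀) (h : F₀ ≤ EssentialRankThree.layer p ⊤ F₀) : F₀ = ⊥ :=
  le_bot_iff.1 (le_of_le_sup_layer (E := (⊤ : Subgroup G)) (hG.to_subgroup _) le_top
    (fun g _ v hv => hF (MulAut.conj g) v hv) bot_le
    (fun g _ r hr => by rw [Subgroup.mem_bot] at hr; subst hr; simp)
    fun f hf => ⟨1, one_mem _, f, h hf, (one_mul f).symm⟩)

end Cfsg.Agent.Lib.SectionalThree
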