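import Cfsg.Agent.Lib.SectionalThree.Formulas
import Cfsg.Agent.Lib.EssentialRankThree.SingleBlock

/-!
# A single Jordan block with an element of order `p` outside `E` forces an elementary abelian `E`
-/

set_option autoImplicit false
set_option linter.style.haveILetI false
set_option linter.unusedSectionVars false
set_option maxHeartbeats 1000000

namespace Cfsg.Agent.Lib.SectionalThree

open Cfsg Cfsg.FusionSystem Cfsg.Agent.Lib Cfsg.Agent.Lib.FS Cfsg.Agent.Lib.EssentialRankThree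
open Cfsg.Agent.Lib.EssentialRankThree.Units (GV dd dd_apply)
open scoped commutatorElement

universe u

variable {Ω : Type u} [Group Ω] {S : Subgroup Ω} [Finite S] {p : ℕ} [Fact p.Prime] {F : FusionSystem S}
  {E : Subgroup Ω} {V : Type u} [AddCommGroup V] [Module (ZMod p) V] [Finite V]

/-- With an element of order `p` outside `E` acting as a single Jordan block, `E` has trivial Frattini subgroup. -/
theorem phi_eq_bot_of_jordan (hS : IsPGroup p S) (hp5 : 5 ≤ p) (hsr : SectionalPRankLE p 3 ↥S)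
    (hess : F.IsEssential p E) (d : Auto F p E V) {a x : Ω} {z : GV p V} (ha : a ∈ E)
    (hx : x ∈ normalizerIn S E) (hxE : x ∉ E) (hx1 : x ^ p = 1) (hzP : z ∈ (autInducedBy S E).map d.ρ)
    (hz : ∀ y ∈ E, z.1 (d.c.v y) = d.c.v (x * y * x⁻¹)) (hblock : dd z (dd z (d.c.v a)) ≠ 0) : phi E = ⊥ := by
  by_contra hne
  have hp3 : 3 ≤ p := by omega
  have hcube : ∀ w, dd z (dd z (dd z w)) = 0 := Embedded.dd_cube_P d.card d.emb hzP
  have hES : E ≤ S := hess.2.1.1
  set N := normalizerIn S E with hN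
  have hEN : E ≤ N := le_normalizerIn hES
  have hNS : N ≤ S := normalizerIn_le E
  haveI := finite_sub hES
  haveI := finite_sub hNS
  have hEp := isPGroup_of_le hS hES
  have hNp := isPGroup_of_le hS hNS
  set c2 := dd z (d.c.v a) with hc2
  set c1 := dd z c2 with hc1
  have hind : Units.Indep p (d.c.v a) c2 c1 := Units.indep_jordan z hcube hblock
  have hdc1 : dd z c1 = 0 := hcube _
  have hdd : ∀ y ∈ E, dd z (d.c.v y) = d.c.v (y⁻¹ * (x * y * x⁻¹)) := fun y hy => by
    rw [dd_apply, hz y hy, d.c.map_mul _ (E.inv_mem hy) _ (conj_mem_of_normalizer hx.2 hy), d.c.map_inv hy]; abel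
  have hstep : ∀ y ∈ E, y⁻¹ * (x * y * x⁻¹) ∈ E := fun y hy =>
    E.mul_mem (E.inv_mem hy) (conj_mem_of_normalizer hx.2 hy)
  obtain ⟨e2, he2⟩ : ∃ y, y = a⁻¹ * (x * a * x⁻¹) := ⟨_, rfl⟩
  obtain ⟨e1, he1⟩ : ∃ y, y = e2⁻¹ * (x * e2 * x⁻¹) := ⟨_, rfl⟩
  have he2E : e2 ∈ E := he2 ▸ hstep a ha
  have he1E : e1 ∈ E := he1 ▸ hstep e2 he2E
  have hxa : x * a * x⁻¹ = a * e2 := by rw [he2, mul_inv_cancel_left]
  have hxe2 : x * e2 * x⁻¹ = e2 * e1 := by rw [he1, mul_inv_cancel_left]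
  have hv2 : d.c.v e2 = c2 := by rw [he2, ← hdd a ha]
  have hv1 : d.c.v e1 = c1 := by rw [he1, ← hdd e2 he2E, hv2]
  -- the layer
  set F₀ := phi E with hF₀
  set M := EssentialRankThree.layer p E F₀ with hM
  have hFE : F₀ ≤ E := phi_le E
  have hFn : ∀ e ∈ E, ∀ f ∈ F₀, e * f * e⁻¹ ∈ F₀ := fun e he f hf => conj_mem_phi (Subgroup.le_normalizer he) hf
  have hMF : M ≤ F₀ := layer_le hFn
  haveI := finite_sub (hFE.trans hES)
  have hnormF : ∀ m ∈ N, m ∈ Subgroup.normalizer (F₀ : Set Ω) := fun m hm =>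
    mem_normalizer_of_conj_mem fun y hy => conj_mem_phi hm.2 hy
  have hMn : ∀ m ∈ N, ∀ y ∈ M, m * y * m⁻¹ ∈ M := fun m hm y hy => conj_mem_layer hm.2 (hnormF m hm) hy
  obtain ⟨W, _, _, _, c, -⟩ := exists_coord (p := p) F₀ M hMF (fun f hf y hy => hMn f (hEN (hFE hf)) y hy)
    (fun f hf f' hf' => comm_mem_layer hf (hFE hf')) (fun f hf => pow_mem_layer hf)
  have hcomm : ∀ u ∈ E, ∀ v ∈ E, u⁻¹ * v * u * v⁻¹ ∈ F₀ := fun u hu v hv => by
    have := comm_mem_phi hEp (E.inv_mem hu) hv; rwa [inv_inv] at this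
  have htriv : ∀ e ∈ E, ∀ f ∈ F₀, f⁻¹ * (e * f * e⁻¹) ∈ M := fun e he f hf => by
    have := comm_mem_layer (p := p) (F₀.inv_mem hf) he
    rwa [inv_inv, show f⁻¹ * e * f * e⁻¹ = f⁻¹ * (e * f * e⁻¹) by group] at this
  set β : Ω → Ω → W := fun u v => form c u v with hβ
  have bl : ∀ {u v w : Ω}, u ∈ E → v ∈ E → w ∈ E → β (u * v) w = β u w + β v w :=
    fun hu hv hw => form_left c hcomm hFn htriv hu hv hw
  have br : ∀ {u v w : Ω}, u ∈ E → v ∈ E → w ∈ E → β u (v * w) = β u v + β u w :=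
    fun hu hv hw => form_right c hcomm hFn htriv hu hv hw
  have bpl : ∀ {u v : Ω}, u ∈ E → v ∈ E → ∀ n : ℕ, β (u ^ n) v = (n : ZMod p) • β u v :=
    fun hu hv => form_pow_left c hcomm hFn htriv hu hv
  have bpr : ∀ {u v : Ω}, u ∈ E → v ∈ E → ∀ n : ℕ, β u (v ^ n) = (n : ZMod p) • β u v :=
    fun hu hv => form_pow_right c hcomm hFn htriv hu hv
  have bs : ∀ {u : Ω}, β u u = 0 := fun {u} => form_self c hcomm hFn htriv
  have bsw : ∀ {u v : Ω}, u ∈ E → v ∈ E → β v u = -β u v := fun hu hv => form_swap c hcomm hFn htriv hu hv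
  have bz : ∀ {u f : Ω}, u ∈ E → f ∈ F₀ → β u f = 0 := fun {u f} hu hf =>
    (c.mem _ (hcomm u hu f (hFE hf))).2 (by
      have := comm_mem_layer' (p := p) hf (E.inv_mem hu); rwa [inv_inv] at this)
  have bzl : ∀ {u f : Ω}, u ∈ E → f ∈ F₀ → β f u = 0 := fun hu hf => by
    rw [bsw hu (hFE hf), bz hu hf, neg_zero]
  -- conjugation by `x` on the layer
  obtain ⟨ξ, hξ⟩ := c.exists_lift (fun y => x * y * x⁻¹) (fun y _ y' _ => by group)
    (fun y hy => conj_mem_phi hx.2 hy) (fun y hy => hMn x hx y hy)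
  have hξβ : ∀ {u v : Ω}, u ∈ E → v ∈ E → ξ (β u v) = β (x * u * x⁻¹) (x * v * x⁻¹) := fun {u v} hu hv => by
    show ξ (c.v _) = c.v _
    rw [hξ _ (hcomm u hu v hv)]
    congr 1; group
  -- `p`-th powers
  set pw : Ω → W := fun y => c.v (y ^ p) with hpw
  have hpF : ∀ {y : Ω}, y ∈ E → y ^ p ∈ F₀ := fun hy => pow_mem_phi hEp hy
  have pw_mul : ∀ {u v : Ω}, u ∈ E → v ∈ E → pw (u * v) = pw u + pw v := by
    intro u v hu hv
    show c.v _ = c.v _ + c.v _
    rw [← c.map_mul _ (hpF hu) _ (hpF hv)]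
    haveI : (M.subgroupOf E).Normal := ⟨fun m hm e => Subgroup.mem_subgroupOf.2
      (hMn e (hEN e.2) m (Subgroup.mem_subgroupOf.1 hm))⟩
    let π := QuotientGroup.mk' (M.subgroupOf E)
    have hπ : ∀ y : E, π y = 1 ↔ (y : Ω) ∈ M := fun y => (QuotientGroup.eq_one_iff y).trans Subgroup.mem_subgroupOf
    have hcF : ((⟨v, hv⟩ * ⟨u, hu⟩ * ⟨v, hv⟩⁻¹ * ⟨u, hu⟩⁻¹ : E) : Ω) ∈ F₀ := comm_mem_phi hEp hv hu
    have hcc : ∀ w : E, Commute (π ⟨v, hv⟩ * π ⟨u, hu⟩ * (π ⟨v, hv⟩)⁻¹ * (π ⟨u, hu⟩)⁻¹) (π w) := fun w => by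
      rw [← map_inv, ← map_inv, ← map_mul, ← map_mul, ← map_mul]
      refine commutatorElement_eq_one_iff_commute.1 ?_
      rw [← map_commutatorElement]
      exact (hπ _).2 (comm_mem_layer hcF w.2)
    have h := mul_pow_class_two (π ⟨u, hu⟩) (π ⟨v, hv⟩) (hcc _) (hcc _) p
    obtain ⟨t, ht⟩ := (Fact.out : p.Prime).dvd_choose_self two_ne_zero (by omega : 2 < p)
    rw [ht, pow_mul, show (π ⟨v, hv⟩ * π ⟨u, hu⟩ * (π ⟨v, hv⟩)⁻¹ * (π ⟨u, hu⟩)⁻¹) ^ p = 1 by
        rw [← map_inv, ← map_inv, ← map_mul, ← map_mul, ← map_mul, ← map_pow]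
        exact (hπ _).2 (pow_mem_layer hcF), one_pow, mul_one, ← map_mul, ← map_pow, ← map_pow, ← map_pow,
      ← map_mul, QuotientGroup.mk'_eq_mk'] at h
    obtain ⟨m, hm, he⟩ := h
    refine (c.eq_iff (hpF (E.mul_mem hu hv)) (F₀.mul_mem (hpF hu) (hpF hv))).2 ?_
    have he' := congrArg Subtype.val he
    simp only [Subgroup.coe_mul, Subgroup.coe_pow] at he'
    rw [← he', inv_mul_cancel_left]
    exact Subgroup.mem_subgroupOf.1 hm
  have pw_zero : ∀ {f : Ω}, f ∈ F₀ → pw f = 0 := fun {f} hf => (c.mem _ (hpF (hFE hf))).2 (pow_mem_layer hf)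
  have pw_pow : ∀ {u : Ω}, u ∈ E → ∀ n : ℕ, pw (u ^ n) = (n : ZMod p) • pw u := by
    intro u hu n
    induction n with
    | zero => simp [pw, c.map_one]
    | succ n ih => rw [pow_succ, pw_mul (E.pow_mem hu n) hu, ih, Nat.cast_succ, add_smul, one_smul]
  have hξpw : ∀ {u : Ω}, u ∈ E → ξ (pw u) = pw (x * u * x⁻¹) := fun {u} hu => by
    show ξ (c.v _) = c.v _
    rw [hξ _ (hpF hu), conj_pow]
  -- decomposition of the elements of `E`
  obtain ⟨q, hqeq⟩ : ∃ y, y = e1⁻¹ * (x * e1 * x⁻¹) := ⟨_, rfl⟩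
  have hqF : q ∈ F₀ := (d.c.mem q (hqeq ▸ hstep e1 he1E)).1 (by rw [hqeq, ← hdd e1 he1E, hv1, hdc1])
  have hxe1 : x * e1 * x⁻¹ = e1 * q := by rw [hqeq, mul_inv_cancel_left]
  have hdec : ∀ y ∈ E, ∃ i j k : ℕ, ∃ f ∈ F₀, y = a ^ i * e2 ^ j * e1 ^ k * f := by
    intro y hy
    obtain ⟨α, β', γ, he⟩ := hind.span d.card (d.c.v y)
    have hm : a ^ α.val * e2 ^ β'.val * e1 ^ γ.val ∈ E :=
      E.mul_mem (E.mul_mem (E.pow_mem ha _) (E.pow_mem he2E _)) (E.pow_mem he1E _)
    refine ⟨α.val, β'.val, γ.val, (a ^ α.val * e2 ^ β'.val * e1 ^ γ.val)⁻¹ * y, (d.c.eq_iff hm hy).1 ?_,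
      (mul_inv_cancel_left _ _).symm⟩
    rw [he, d.c.map_mul _ (E.mul_mem (E.pow_mem ha _) (E.pow_mem he2E _)) _ (E.pow_mem he1E _),
      d.c.map_mul _ (E.pow_mem ha _) _ (E.pow_mem he2E _), d.c.map_pow ha, d.c.map_pow he2E, d.c.map_pow he1E,
      hv2, hv1, ZMod.natCast_zmod_val, ZMod.natCast_zmod_val, ZMod.natCast_zmod_val]
  -- invariant subspaces
  have hirr := Embedded.irreducible_of_jordan hp3 d.card d.emb hzP hblock
  have hautlayer : ∀ α : MulAut E, ∀ y : E, (y : Ω) ∈ M → ((α y : E) : Ω) ∈ M := fun α y hy =>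
    map_mem_layer (E.subtype.comp α.toMonoidHom) le_rfl hFE (fun w _ => (α w).2)
      (fun w hw => mem_phi.2 (Resistant67.aut_mem_frattini α (mem_phi.1 hw))) hy
  have hkerU : pw e1 = 0 → ∀ y ∈ E, pw y = 0 := by
    intro hC
    let U : Submodule (ZMod p) V :=
      { carrier := {w | ∃ y ∈ E, d.c.v y = w ∧ pw y = 0}
        zero_mem' := ⟨1, E.one_mem, d.c.map_one, pw_zero F₀.one_mem⟩
        add_mem' := by
          rintro _ _ ⟨y, hy, rfl, h⟩ ⟨y', hy', rfl, h'⟩
          exact ⟨y * y', E.mul_mem hy hy', d.c.map_mul _ hy _ hy', by rw [pw_mul hy hy', h, h', add_zero]⟩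
        smul_mem' := by
          rintro t _ ⟨y, hy, rfl, h⟩
          exact ⟨y ^ t.val, E.pow_mem hy _, by rw [d.c.map_pow hy, ZMod.natCast_zmod_val],
            by rw [pw_pow hy, h, smul_zero]⟩ }
    rcases hirr U (by
      rintro _ ⟨α, -, rfl⟩ _ ⟨y, hy, rfl, h⟩
      refine ⟨α ⟨y, hy⟩, SetLike.coe_mem _, (d.rho α ⟨y, hy⟩).symm, (c.mem _ (hpF (SetLike.coe_mem _))).2 ?_⟩
      have h1 := hautlayer α (⟨y, hy⟩ ^ p) (by rw [Subgroup.coe_pow]; exact (c.mem _ (hpF hy)).1 h)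
      rwa [map_pow, Subgroup.coe_pow] at h1) with hb | hb
    · have h1 : c1 ∈ U := ⟨e1, he1E, hv1, hC⟩
      rw [hb, Submodule.mem_bot] at h1
      exact absurd h1 hblock
    · intro y hy
      obtain ⟨y', hy', hv, h⟩ : d.c.v y ∈ U := hb ▸ Submodule.mem_top
      have hf : y'⁻¹ * y ∈ F₀ := (d.c.eq_iff hy' hy).1 hv
      rw [show y = y' * (y'⁻¹ * y) by group, pw_mul hy' (hFE hf), h, pw_zero hf, add_zero]
  set A := pw a with hA
  set B := pw e2 with hB
  set C := pw e1 with hC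
  set P := β a e2 with hP
  set Q2 := β a e1 with hQ2
  set Q3 := β e2 e1 with hQ3
  have hξA : ξ A = A + B := by rw [hξpw ha, hxa, pw_mul ha he2E]
  have hξB : ξ B = B + C := by rw [hξpw he2E, hxe2, pw_mul he2E he1E]
  have hξC : ξ C = C := by rw [hξpw he1E, hxe1, pw_mul he1E (hFE hqF), pw_zero hqF, add_zero]
  have hξP : ξ P = P + Q2 + Q3 := by
    rw [hξβ ha he2E, hxa, hxe2, bl ha he2E (E.mul_mem he2E he1E), br ha he2E he1E, br he2E he2E he1E, bs,
      zero_add, hP, hQ2, hQ3]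
  have hξQ2 : ξ Q2 = Q2 + Q3 := by
    rw [hξβ ha he1E, hxa, hxe1, bl ha he2E (E.mul_mem he1E (hFE hqF)), br ha he1E (hFE hqF),
      br he2E he1E (hFE hqF), bz ha hqF, bz he2E hqF, add_zero, add_zero]
  have hξQ3 : ξ Q3 = Q3 := by
    rw [hξβ he2E he1E, hxe2, hxe1, bl he2E he1E (E.mul_mem he1E (hFE hqF)), br he2E he1E (hFE hqF),
      br he1E he1E (hFE hqF), bz he2E hqF, bz he1E hqF, bs, add_zero, add_zero, add_zero]
  by_cases hC0 : C = 0
  · -- no `p`-th powers in the layer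
    have hpw0 := hkerU hC0
    have hpM : ∀ y ∈ E, y ^ p ∈ M := fun y hy => (c.mem _ (hpF hy)).1 (hpw0 y hy)
    have he2p := hpM e2 he2E
    have he1p := hpM e1 he1E
    choose cel hcel hcelv using c.surj
    have hcel' : ∀ w, cel w ∈ E := fun w => hFE (hcel w)
    have hzero : ∀ {y : Ω}, y ∈ M → d.c.v y = 0 := fun {y} hy => (d.c.mem y (hFE (hMF hy))).2 (hMF hy)
    have hEM : ∀ h ∈ E, ∀ k ∈ M, h * k * h⁻¹ ∈ M := fun h hh => hMn h (hEN hh)
    have hcF : ∀ {f u : Ω}, f ∈ F₀ → u ∈ E → f * u * f⁻¹ * u⁻¹ ∈ M ∧ u * f * u⁻¹ * f⁻¹ ∈ M :=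
      fun hf hu => ⟨comm_mem_layer hf hu, comm_mem_layer' hf hu⟩
    have hrepF : ∀ w : W, d.c.v (cel w) = 0 := fun w => (d.c.mem _ (hcel' w)).2 (hcel w)
    by_cases hQ30 : Q3 = 0
    · by_cases hQ20 : Q2 = 0
      · by_cases hP0 : P = 0
        · -- the layer vanishes
          have hβ0 : ∀ u ∈ E, ∀ v ∈ E, β u v = 0 := by
            intro u hu v hv
            obtain ⟨i, j, k, f, hf, rfl⟩ := hdec u hu
            obtain ⟨i', j', k', f', hf', rfl⟩ := hdec v hv
            have hg : ∀ w ∈ E, β a w = 0 → β e2 w = 0 → β e1 w = 0 →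
                β (a ^ i * e2 ^ j * e1 ^ k * f) w = 0 := fun w hw h1 h2 h3 => by
              rw [bl (E.mul_mem (E.mul_mem (E.pow_mem ha i) (E.pow_mem he2E j)) (E.pow_mem he1E k)) (hFE hf) hw,
                bl (E.mul_mem (E.pow_mem ha i) (E.pow_mem he2E j)) (E.pow_mem he1E k) hw,
                bl (E.pow_mem ha i) (E.pow_mem he2E j) hw, bpl ha hw, bpl he2E hw, bpl he1E hw, bzl hw hf,
                h1, h2, h3]
              simp
            have hu' : a ^ i * e2 ^ j * e1 ^ k * f ∈ E := hu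
            rw [br hu' (E.mul_mem (E.mul_mem (E.pow_mem ha i') (E.pow_mem he2E j')) (E.pow_mem he1E k')) (hFE hf') |>
                Eq.trans <| by rw [br hu' (E.mul_mem (E.pow_mem ha i') (E.pow_mem he2E j')) (E.pow_mem he1E k'),
                  br hu' (E.pow_mem ha i') (E.pow_mem he2E j'), bpr hu' ha, bpr hu' he2E, bpr hu' he1E, bz hu' hf',
                  hg a ha bs (by rw [bsw ha he2E, ← hP, hP0, neg_zero]) (by rw [bsw ha he1E, ← hQ2, hQ20, neg_zero]),
                  hg e2 he2E hP0 bs (by rw [bsw he2E he1E, ← hQ3, hQ30, neg_zero]), hg e1 he1E hQ20 hQ30 bs]]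
            simp
          have hFM : F₀ ≤ M := phi_le_of hEp (fun e he r hr _ => hEM e he r hr) hpM fun u hu v hv => by
            have := (c.mem _ (hcomm u⁻¹ (E.inv_mem hu) v hv)).1 (hβ0 u⁻¹ (E.inv_mem hu) v hv)
            rwa [inv_inv] at this
          have hbot : F₀ ≤ ⊥ := le_of_le_sup_layer hEp hFE hFn bot_le
            (fun e _ r hr => by rw [Subgroup.mem_bot] at hr; subst hr; simp)
            fun f hf => ⟨1, one_mem _, f, hFM hf, (one_mul f).symm⟩
          exact hne (le_bot_iff.1 hbot)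
        · -- a radical line
          let U : Submodule (ZMod p) V :=
            { carrier := {w | ∃ y ∈ E, d.c.v y = w ∧ ∀ e ∈ E, β y e = 0}
              zero_mem' := ⟨1, E.one_mem, d.c.map_one, fun e he => bzl he F₀.one_mem⟩
              add_mem' := by
                rintro _ _ ⟨y, hy, rfl, h⟩ ⟨y', hy', rfl, h'⟩
                exact ⟨y * y', E.mul_mem hy hy', d.c.map_mul _ hy _ hy',
                  fun e he => by rw [bl hy hy' he, h e he, h' e he, add_zero]⟩
              smul_mem' := by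
                rintro t _ ⟨y, hy, rfl, h⟩
                exact ⟨y ^ t.val, E.pow_mem hy _, by rw [d.c.map_pow hy, ZMod.natCast_zmod_val],
                  fun e he => by rw [bpl hy he, h e he, smul_zero]⟩ }
          rcases hirr U (by
            rintro _ ⟨α, -, rfl⟩ _ ⟨y, hy, rfl, h⟩
            refine ⟨α ⟨y, hy⟩, SetLike.coe_mem _, (d.rho α ⟨y, hy⟩).symm, fun e he => ?_⟩
            obtain ⟨⟨e', he'⟩, hee⟩ := α.surjective ⟨e, he⟩
            refine (c.mem _ (hcomm _ (SetLike.coe_mem _) e he)).2 ?_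
            have h1 := hautlayer α (⟨y, hy⟩⁻¹ * ⟨e', he'⟩ * ⟨y, hy⟩ * ⟨e', he'⟩⁻¹)
              ((c.mem _ (hcomm y hy e' he')).1 (h e' he'))
            simp only [map_mul, map_inv, hee, Subgroup.coe_mul, Subgroup.coe_inv] at h1
            exact h1) with hb | hb
          · have h1 : c1 ∈ U := ⟨e1, he1E, hv1, fun e he => by
              obtain ⟨i, j, k, f, hf, rfl⟩ := hdec e he
              rw [br he1E (E.mul_mem (E.mul_mem (E.pow_mem ha i) (E.pow_mem he2E j)) (E.pow_mem he1E k)) (hFE hf),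
                br he1E (E.mul_mem (E.pow_mem ha i) (E.pow_mem he2E j)) (E.pow_mem he1E k),
                br he1E (E.pow_mem ha i) (E.pow_mem he2E j), bpr he1E ha, bpr he1E he2E, bpr he1E he1E,
                bz he1E hf, bs, bsw ha he1E, bsw he2E he1E, ← hQ2, ← hQ3, hQ20, hQ30]
              simp⟩
            rw [hb, Submodule.mem_bot] at h1
            exact hblock h1
          · obtain ⟨y, hy, hv, h⟩ : d.c.v a ∈ U := hb ▸ Submodule.mem_top
            have hf : y⁻¹ * a ∈ F₀ := (d.c.eq_iff hy ha).1 hv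
            refine hP0 ?_
            rw [hP, show a = y * (y⁻¹ * a) by group, bl hy (hFE hf) he2E, h e2 he2E, bzl he2E hf, add_zero]
      · -- a layer of rank two
        refine rank_false hsr hES (hMF.trans hFE) hEM ![e2, e1, cel P, cel Q2] ?_ ?_ ?_ ?_
        · intro i; fin_cases i <;> simp [he2E, he1E, hcel']
        · intro i; fin_cases i
          exacts [he2p, he1p, pow_mem_layer (hcel P), pow_mem_layer (hcel Q2)]
        · have h12 : e2 * e1 * e2⁻¹ * e1⁻¹ ∈ M := by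
            have h0 : β e2⁻¹ e1 = 0 := by
              have h0 := bl (E.inv_mem he2E) he2E he1E
              rw [inv_mul_cancel, bzl he1E F₀.one_mem, ← hQ3, hQ30, add_zero] at h0
              exact h0.symm
            have := (c.mem _ (hcomm e2⁻¹ (E.inv_mem he2E) e1 he1E)).1 h0
            rwa [inv_inv] at this
          have h21 : e1 * e2 * e1⁻¹ * e2⁻¹ ∈ M := by
            have := M.inv_mem h12
            rwa [show (e2 * e1 * e2⁻¹ * e1⁻¹)⁻¹ = e1 * e2 * e1⁻¹ * e2⁻¹ by group] at this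
          intro i j
          fin_cases i <;> fin_cases j <;>
            simp [h12, h21, (hcF (hcel P) he2E).1, (hcF (hcel P) he2E).2, (hcF (hcel P) he1E).1, (hcF (hcel P) he1E).2,
              (hcF (hcel Q2) he2E).1, (hcF (hcel Q2) he2E).2, (hcF (hcel Q2) he1E).1, (hcF (hcel Q2) he1E).2,
              (hcF (hcel P) (hcel' Q2)).1, (hcF (hcel P) (hcel' Q2)).2]
        · intro e he
          simp only [Matrix.cons_val_zero, Matrix.cons_val_one, Matrix.cons_val_two, Matrix.cons_val_three,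
            Matrix.head_cons, Matrix.tail_cons] at he
          have h0 := hzero he
          have m0 := E.zpow_mem he2E (e 0); have m1 := E.zpow_mem he1E (e 1)
          have m2 := E.zpow_mem (hcel' P) (e 2); have m3 := E.zpow_mem (hcel' Q2) (e 3)
          rw [d.c.map_mul _ (E.mul_mem (E.mul_mem m0 m1) m2) _ m3, d.c.map_mul _ (E.mul_mem m0 m1) _ m2,
            d.c.map_mul _ m0 _ m1, d.c.map_zpow he2E, d.c.map_zpow he1E, d.c.map_zpow (hcel' P),
            d.c.map_zpow (hcel' Q2), hrepF, hrepF, smul_zero, smul_zero, add_zero, add_zero, hv2, hv1] at h0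
          obtain ⟨-, h4, h5⟩ := hind 0 _ _ (by rw [zero_smul, zero_add]; exact h0)
          have hp01 : e2 ^ e 0 ∈ M ∧ e1 ^ e 1 ∈ M := by
            obtain ⟨t, ht⟩ := (ZMod.intCast_zmod_eq_zero_iff_dvd _ p).1 h4
            obtain ⟨t', ht'⟩ := (ZMod.intCast_zmod_eq_zero_iff_dvd _ p).1 h5
            rw [ht, ht', zpow_mul, zpow_mul, zpow_natCast, zpow_natCast]
            exact ⟨M.zpow_mem he2p t, M.zpow_mem he1p t'⟩
          have h23 : cel P ^ e 2 * cel Q2 ^ e 3 ∈ M := by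
            have h1 := M.mul_mem (M.inv_mem (M.mul_mem hp01.1 hp01.2)) he
            rwa [show e2 ^ e 0 * e1 ^ e 1 * cel P ^ e 2 * cel Q2 ^ e 3 =
              e2 ^ e 0 * e1 ^ e 1 * (cel P ^ e 2 * cel Q2 ^ e 3) by group, inv_mul_cancel_left] at h1
          have h1 := (c.mem _ (hMF h23)).2 h23
          rw [c.map_mul _ (F₀.zpow_mem (hcel P) _) _ (F₀.zpow_mem (hcel Q2) _), c.map_zpow (hcel P),
            c.map_zpow (hcel Q2), hcelv, hcelv] at h1
          have h2 := congrArg ξ h1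
          rw [map_add, map_smul, map_smul, map_zero, hξP, hξQ2, hQ30, add_zero, add_zero, smul_add,
            add_right_comm, h1, zero_add] at h2
          have h6 : (e 2 : ZMod p) = 0 := (smul_eq_zero.1 h2).resolve_right hQ20
          rw [h6, zero_smul, zero_add] at h1
          intro i
          rw [← ZMod.intCast_zmod_eq_zero_iff_dvd]
          fin_cases i
          exacts [h4, h5, h6, (smul_eq_zero.1 h1).resolve_right hQ20]
    · -- a layer of rank three
      refine rank_false hsr hES (hMF.trans hFE) hEM ![e1, cel P, cel Q2, cel Q3] ?_ ?_ ?_ ?_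
      · intro i; fin_cases i <;> simp [he1E, hcel']
      · intro i; fin_cases i
        exacts [he1p, pow_mem_layer (hcel P), pow_mem_layer (hcel Q2), pow_mem_layer (hcel Q3)]
      · intro i j
        fin_cases i <;> fin_cases j <;>
          simp [(hcF (hcel P) he1E).1, (hcF (hcel P) he1E).2, (hcF (hcel Q2) he1E).1, (hcF (hcel Q2) he1E).2,
            (hcF (hcel Q3) he1E).1, (hcF (hcel Q3) he1E).2, (hcF (hcel P) (hcel' Q2)).1, (hcF (hcel P) (hcel' Q2)).2,
            (hcF (hcel P) (hcel' Q3)).1, (hcF (hcel P) (hcel' Q3)).2, (hcF (hcel Q2) (hcel' Q3)).1, (hcF (hcel Q2) (hcel' Q3)).2]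
      · intro e he
        simp only [Matrix.cons_val_zero, Matrix.cons_val_one, Matrix.cons_val_two, Matrix.cons_val_three,
          Matrix.head_cons, Matrix.tail_cons] at he
        have h0 := hzero he
        have m0 := E.zpow_mem he1E (e 0); have m1 := E.zpow_mem (hcel' P) (e 1)
        have m2 := E.zpow_mem (hcel' Q2) (e 2); have m3 := E.zpow_mem (hcel' Q3) (e 3)
        rw [d.c.map_mul _ (E.mul_mem (E.mul_mem m0 m1) m2) _ m3, d.c.map_mul _ (E.mul_mem m0 m1) _ m2,
          d.c.map_mul _ m0 _ m1, d.c.map_zpow he1E, d.c.map_zpow (hcel' P), d.c.map_zpow (hcel' Q2),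
          d.c.map_zpow (hcel' Q3), hrepF, hrepF, hrepF, smul_zero, smul_zero, smul_zero, add_zero, add_zero,
          add_zero, hv1, smul_eq_zero] at h0
        have h4 : (e 0 : ZMod p) = 0 := h0.resolve_right hblock
        have h0M : e1 ^ e 0 ∈ M := by
          obtain ⟨t, ht⟩ := (ZMod.intCast_zmod_eq_zero_iff_dvd _ p).1 h4
          rw [ht, zpow_mul, zpow_natCast]
          exact M.zpow_mem he1p t
        have h123 : cel P ^ e 1 * cel Q2 ^ e 2 * cel Q3 ^ e 3 ∈ M := by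
          have h1 := M.mul_mem (M.inv_mem h0M) he
          rwa [show e1 ^ e 0 * cel P ^ e 1 * cel Q2 ^ e 2 * cel Q3 ^ e 3 =
            e1 ^ e 0 * (cel P ^ e 1 * cel Q2 ^ e 2 * cel Q3 ^ e 3) by group, inv_mul_cancel_left] at h1
        have h1 := (c.mem _ (hMF h123)).2 h123
        rw [c.map_mul _ (F₀.mul_mem (F₀.zpow_mem (hcel P) _) (F₀.zpow_mem (hcel Q2) _)) _ (F₀.zpow_mem (hcel Q3) _),
          c.map_mul _ (F₀.zpow_mem (hcel P) _) _ (F₀.zpow_mem (hcel Q2) _), c.map_zpow (hcel P),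
          c.map_zpow (hcel Q2), c.map_zpow (hcel Q3), hcelv, hcelv, hcelv] at h1
        have h2 : (e 1 : ZMod p) • (Q2 + Q3) + (e 2 : ZMod p) • Q3 = 0 := by
          have h2 := congrArg ξ h1
          simp only [map_add, map_smul, map_zero, hξP, hξQ2, hξQ3] at h2
          linear_combination (norm := module) h2 - h1
        have h5 : (e 1 : ZMod p) = 0 := by
          have h3 := congrArg ξ h2
          simp only [map_add, map_smul, map_zero, hξQ2, hξQ3] at h3
          have h3' : (e 1 : ZMod p) • Q3 = 0 := by linear_combination (norm := module) h3 - h2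
          exact (smul_eq_zero.1 h3').resolve_right hQ30
        rw [h5, zero_smul, zero_add, smul_eq_zero] at h2
        have h6 := h2.resolve_right hQ30
        rw [h5, h6, zero_smul, zero_smul, zero_add, zero_add, smul_eq_zero] at h1
        intro i
        rw [← ZMod.intCast_zmod_eq_zero_iff_dvd]
        fin_cases i
        exacts [h4, h5, h6, h1.resolve_right hQ30]
  · -- `p`-th powers give a basis of the layer
    have hABC : Units.Indep p A B C := by
      intro α β' γ h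
      have h1 := congrArg ξ h
      simp only [map_add, map_smul, map_zero, hξA, hξB, hξC] at h1
      have h2 : α • B + β' • C = 0 := by linear_combination (norm := module) h1 - h
      have h3 := congrArg ξ h2
      simp only [map_add, map_smul, map_zero, hξB, hξC] at h3
      have h4 : α • C = 0 := by linear_combination (norm := module) h3 - h2
      obtain rfl := (smul_eq_zero.1 h4).resolve_right hC0
      rw [zero_smul, zero_add, smul_eq_zero] at h2
      obtain rfl := h2.resolve_right hC0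
      simp only [zero_smul, zero_add] at h
      exact ⟨rfl, rfl, (smul_eq_zero.1 h).resolve_right hC0⟩
    have hspanW : ∀ w : W, ∃ α β γ : ZMod p, w = α • A + β • B + γ • C := fun w =>
      span_of_rank hsr (hFE.trans hES) hMF c (f := ![a ^ p, e2 ^ p, e1 ^ p])
        (by intro i; fin_cases i <;> simp [hpF ha, hpF he2E, hpF he1E]) hABC w
    obtain ⟨K, m, n, hPK⟩ := hspanW P
    have hQK : Q2 + Q3 = K • B + m • C := by
      have h := hξP
      rw [hPK, map_add, map_add, map_smul, map_smul, map_smul, hξA, hξB, hξC] at h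
      linear_combination (norm := module) -h
    have hQ3K : Q3 = K • C := by
      have h := congrArg ξ hQK
      rw [map_add, map_add, map_smul, map_smul, hξQ2, hξQ3, hξB, hξC] at h
      linear_combination (norm := module) h - hQK
    have hQ2K : Q2 = K • B + (m - K) • C := by linear_combination (norm := module) hQK - hQ3K
    -- `x ^ p`
    have hxp : x ^ p ∈ E := (comm_mem_of_auto d hp3 hess hx hx).1
    obtain ⟨ε, hε⟩ : ∃ ε : ZMod p, d.c.v (x ^ p) = ε • c1 := by
      obtain ⟨α, β', γ, h⟩ := hind.span d.card (d.c.v (x ^ p))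
      have h1 : dd z (d.c.v (x ^ p)) = 0 := by
        rw [hdd _ hxp, show (x ^ p)⁻¹ * (x * x ^ p * x⁻¹) = 1 by group, d.c.map_one]
      rw [h, map_add, map_add, map_smul, map_smul, map_smul, hdc1, smul_zero, add_zero, ← hc2, ← hc1] at h1
      obtain ⟨-, rfl, rfl⟩ := hind 0 α β' (by rw [zero_smul, zero_add]; exact h1)
      exact ⟨γ, by rw [h, zero_smul, zero_smul, zero_add, zero_add]⟩
    have hformxp : β a (x ^ p) = ε • Q2 := by
      have hf : (e1 ^ ε.val)⁻¹ * x ^ p ∈ F₀ := (d.c.eq_iff (E.pow_mem he1E _) hxp).1 (by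
        rw [d.c.map_pow he1E, hv1, hε, ZMod.natCast_zmod_val])
      rw [show x ^ p = e1 ^ ε.val * ((e1 ^ ε.val)⁻¹ * x ^ p) by group,
        br ha (E.pow_mem he1E _) (hFE hf), bpr ha he1E, bz ha hf, add_zero, ZMod.natCast_zmod_val, ← hQ2]
    -- conjugation by `x ^ p` in `N / J`
    let J : Subgroup Ω :=
      { carrier := {f | f ∈ F₀ ∧ ∃ γ : ZMod p, c.v f = γ • C}
        one_mem' := ⟨F₀.one_mem, 0, by rw [zero_smul, c.map_one]⟩
        mul_mem' := by
          rintro f f' ⟨hf, γ, h⟩ ⟨hf', γ', h'⟩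
          exact ⟨F₀.mul_mem hf hf', γ + γ', by rw [c.map_mul _ hf _ hf', h, h', add_smul]⟩
        inv_mem' := by
          rintro f ⟨hf, γ, h⟩
          exact ⟨F₀.inv_mem hf, -γ, by rw [c.map_inv hf, h, neg_smul]⟩ }
    have hMJ : ∀ {y : Ω}, y ∈ M → y ∈ J := fun {y} hy => ⟨hMF hy, 0, by rw [zero_smul]; exact (c.mem y (hMF hy)).2 hy⟩
    haveI hJn : (J.subgroupOf N).Normal := ⟨fun f hf e => Subgroup.mem_subgroupOf.2 (by
      obtain ⟨hfF, γ, hfv⟩ := Subgroup.mem_subgroupOf.1 hf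
      obtain ⟨-, k, e', he', hek⟩ := d.exists_eq_mul_pow hp3 hess hx hxE e.2
      refine ⟨conj_mem_phi e.2.2 hfF, γ, ?_⟩
      have hxk : ∀ k : ℕ, x ^ k * (f : Ω) * (x ^ k)⁻¹ ∈ F₀ ∧ c.v (x ^ k * (f : Ω) * (x ^ k)⁻¹) = γ • C := by
        intro k
        induction k with
        | zero => simpa using ⟨hfF, hfv⟩
        | succ k ih =>
          rw [show x ^ (k + 1) * (f : Ω) * (x ^ (k + 1))⁻¹ = x * (x ^ k * (f : Ω) * (x ^ k)⁻¹) * x⁻¹ by rw [pow_succ']; group]
          refine ⟨conj_mem_phi hx.2 ih.1, ?_⟩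
          rw [← hξ _ ih.1, ih.2, map_smul, hξC]
      simp only [Subgroup.coe_mul, Subgroup.coe_inv]
      rw [hek, show e' * x ^ k * (f : Ω) * (e' * x ^ k)⁻¹ = e' * (x ^ k * (f : Ω) * (x ^ k)⁻¹) * e'⁻¹ by group,
        conj_coord c hcomm hFn htriv he' (hxk k).1, (hxk k).2])⟩
    let π := QuotientGroup.mk' (J.subgroupOf N)
    have hπ : ∀ y : N, π y = 1 ↔ (y : Ω) ∈ J := fun y => (QuotientGroup.eq_one_iff y).trans Subgroup.mem_subgroupOf
    obtain ⟨r, hreq⟩ : ∃ y, y = q⁻¹ * (x * q * x⁻¹) := ⟨_, rfl⟩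
    have hrF : r ∈ F₀ := hreq ▸ F₀.mul_mem (F₀.inv_mem hqF) (conj_mem_phi hx.2 hqF)
    have hxq : x * q * x⁻¹ = q * r := by rw [hreq, mul_inv_cancel_left]
    let X' : N := ⟨x, hx⟩
    let a' : N := ⟨a, hEN ha⟩
    let E2 : N := ⟨e2, hEN he2E⟩
    let E1 : N := ⟨e1, hEN he1E⟩
    let q' : N := ⟨q, hEN (hFE hqF)⟩
    let r' : N := ⟨r, hEN (hFE hrF)⟩
    let ψ : MulAut (N ⧸ J.subgroupOf N) := MulAut.conj (π X')
    have hψ : ∀ u v : N, x * (u : Ω) * x⁻¹ = v → ψ (π u) = π v := fun u v h => by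
      show π X' * π u * (π X')⁻¹ = π v
      rw [← map_inv, ← map_mul, ← map_mul]
      exact congrArg π (Subtype.ext h)
    have hψr : ψ (π r') = π r' := by
      rw [hψ r' ⟨x * r * x⁻¹, hEN (hFE (conj_mem_phi hx.2 hrF))⟩ rfl, eq_comm, ← inv_mul_eq_one, ← map_inv,
        ← map_mul, hπ]
      obtain ⟨α, β', γ, hq⟩ := hspanW (c.v q)
      refine ⟨F₀.mul_mem (F₀.inv_mem hrF) (conj_mem_phi hx.2 hrF), α, ?_⟩
      show c.v (r⁻¹ * (x * r * x⁻¹)) = _
      have hr : c.v r = α • B + β' • C := by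
        rw [hreq, c.map_mul _ (F₀.inv_mem hqF) _ (conj_mem_phi hx.2 hqF), c.map_inv hqF, ← hξ q hqF, hq, map_add,
          map_add, map_smul, map_smul, map_smul, hξA, hξB, hξC]
        module
      rw [c.map_mul _ (F₀.inv_mem hrF) _ (conj_mem_phi hx.2 hrF), c.map_inv hrF, ← hξ r hrF, hr, map_add, map_smul,
        map_smul, hξB, hξC]
      module
    have hcomJ : ∀ u v : N, (u : Ω) * v * (u : Ω)⁻¹ * (v : Ω)⁻¹ ∈ J → Commute (π u) (π v) := fun u v h => by
      refine commutatorElement_eq_one_iff_commute.1 ?_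
      rw [← map_commutatorElement]
      exact (hπ _).2 h
    have k21 : Commute (π E2) (π E1) := hcomJ E2 E1 (by
      have h0 : β e2⁻¹ e1 = -(K • C) := by
        have h0 := bl (E.inv_mem he2E) he2E he1E
        rw [inv_mul_cancel, bzl he1E F₀.one_mem, ← hQ3, hQ3K] at h0
        exact eq_neg_of_add_eq_zero_left h0.symm
      refine ⟨comm_mem_phi hEp he2E he1E, -K, ?_⟩
      rw [neg_smul, ← h0]
      show c.v _ = c.v _
      rw [inv_inv])
    have kF : ∀ u v : N, (u : Ω) ∈ E → (v : Ω) ∈ F₀ → Commute (π u) (π v) := fun u v hu hv =>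
      hcomJ u v (hMJ (comm_mem_layer' hv hu))
    have hE1p : π E1 ^ p = 1 := by
      rw [← map_pow, hπ, Subgroup.coe_pow]
      exact ⟨hpF he1E, 1, (one_smul _ _).symm⟩
    have hqp : π q' ^ p = 1 := by rw [← map_pow, hπ, Subgroup.coe_pow]; exact hMJ (pow_mem_layer hqF)
    have hrp : π r' ^ p = 1 := by rw [← map_pow, hπ, Subgroup.coe_pow]; exact hMJ (pow_mem_layer hrF)
    have kq2 : Commute (π E2) (π q') := kF E2 q' he2E hqF
    have kr2 : Commute (π E2) (π r') := kF E2 r' he2E hrF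
    have kq1 : Commute (π E1) (π q') := kF E1 q' he1E hqF
    have kr1 : Commute (π E1) (π r') := kF E1 r' he1E hrF
    have kqr : Commute (π q') (π r') := kF q' r' (hFE hqF) hrF
    have hψa : ψ (π a') = π a' * π E2 := (hψ a' (a' * E2) hxa).trans (map_mul π _ _)
    have hψ2 : ψ (π E2) = π E2 * π E1 := (hψ E2 (E2 * E1) hxe2).trans (map_mul π _ _)
    have hψ1 : ψ (π E1) = π E1 * π q' := (hψ E1 (E1 * q') hxe1).trans (map_mul π _ _)
    have hψq : ψ (π q') = π q' * π r' := (hψ q' (q' * r') hxq).trans (map_mul π _ _)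
    have hiter : ∀ n : ℕ, (ψ ^ n) (π a') =
        π a' * π E2 ^ n * π E1 ^ n.choose 2 * π q' ^ n.choose 3 * π r' ^ n.choose 4 := by
      intro n
      induction n with
      | zero => simp
      | succ n ih =>
        rw [pow_succ' ψ, MulAut.mul_apply, ih]
        simp only [map_mul, map_pow, hψa, hψ2, hψ1, hψq, hψr, k21.mul_pow, kq1.mul_pow, kqr.mul_pow,
          Nat.choose_succ_succ, Nat.choose_one_right, pow_add, pow_succ' (π E2)]
        -- collect the powers
        simp only [Nat.succ_eq_add_one, Nat.reduceAdd, mul_assoc]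
    have hkey := hiter p
    rw [← map_pow MulAut.conj, MulAut.conj_apply] at hkey
    have hdiv : ∀ k, k ≠ 0 → k < p → ∃ t, p.choose k = p * t := fun k hk hk' =>
      (Fact.out : p.Prime).dvd_choose_self hk hk'
    obtain ⟨t2, ht2⟩ := hdiv 2 (by omega) (by omega)
    obtain ⟨t3, ht3⟩ := hdiv 3 (by omega) (by omega)
    obtain ⟨t4, ht4⟩ := hdiv 4 (by omega) (by omega)
    rw [ht2, ht3, ht4, pow_mul, pow_mul, pow_mul, hE1p, hqp, hrp, one_pow, one_pow, one_pow, mul_one, mul_one,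
      mul_one, ← map_pow, ← map_inv, ← map_mul, ← map_mul, ← map_pow, ← map_mul, eq_comm, ← inv_mul_eq_one,
      ← map_inv, ← map_mul, hπ] at hkey
    obtain ⟨-, γ, hγ⟩ := hkey
    simp only [Subgroup.coe_mul, Subgroup.coe_inv, Subgroup.coe_pow, X', a', E2] at hγ
    rw [show (a * e2 ^ p)⁻¹ * (x ^ p * a * (x ^ p)⁻¹) = (e2 ^ p)⁻¹ * (a⁻¹ * x ^ p * a * (x ^ p)⁻¹) by group,
      c.map_mul _ (F₀.inv_mem (hpF he2E)) _ (hcomm a ha _ hxp), c.map_inv (hpF he2E)] at hγ
    change -B + β a (x ^ p) = γ • C at hγ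
    rw [hx1, bz ha F₀.one_mem, add_zero] at hγ
    exact one_ne_zero (hABC 0 1 γ (by linear_combination (norm := module) -hγ)).2.1

end Cfsg.Agent.Lib.SectionalThree
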