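import Cfsg.Agent.Lib.SectionalThree.Formulas
import Cfsg.Agent.Lib.EssentialRankThree.TData
import Cfsg.Agent.Lib.EssentialRankThree.Elements

/-!
# The transvection configuration on a maximal normal subgroup

In sectional rank three `[e, w]` vanishes in the second layer and all maximal subgroups behaving like `E` share
its Frattini subgroup. A transvection group with a strongly `p`-embedded overgroup has a common fixed vector.
-/

set_option autoImplicit false
set_option linter.style.haveILetI false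
set_option linter.unusedSectionVars false
set_option maxHeartbeats 800000

namespace Cfsg.Agent.Lib.SectionalThree

open Cfsg Cfsg.Agent.Lib Cfsg.Agent.Lib.EssentialRankThree
open Cfsg.Agent.Lib.EssentialRankThree.Units (GV dd dd_apply)
open Cfsg.Agent.Lib.EssentialRankThree.Embedded (Emb)
open Cfsg.Agent.Lib.EssentialRankThree.TCoord (pw)
open scoped commutatorElement

universe u

/-- A transvection group with a strongly `p`-embedded overgroup fixes a common vector. -/
theorem exists_fixed {p : ℕ} [Fact p.Prime] {V : Type*} [AddCommGroup V] [Module (ZMod p) V] [Finite V]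
    {X P M : Subgroup (GV p V)} (hp : 3 ≤ p) (hc : Nat.card V = p ^ 3) (h : Emb p X P M) {u0 : GV p V} (hu : u0 ∈ P)
    (hu1 : u0 ≠ 1) (h2 : ∀ x, dd u0 (dd u0 x) = 0) :
    ∃ w : V, w ≠ 0 ∧ ∀ Q ≤ X, IsPGroup p Q → ∀ q ∈ Q, q.1 w = w := by
  obtain ⟨φ0, c0, -, hφ0, -, hform⟩ := Units.exists_transvection hc u0 h2 hu1
  obtain ⟨r, hr, hrM⟩ := h.out
  set φ1 := φ0.comp r⁻¹.1
  set c1 := r.1 c0
  have hform1 : ∀ v, (r * u0 * r⁻¹).1 v = v + φ1 v • c1 := Embedded.conj_apply_transvection hform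
  have hφ1 : φ1 c1 = 0 := by show φ0 (r⁻¹.1 (r.1 c0)) = 0; rw [Units.inv_apply_self, hφ0]
  have huX := h.leX hu
  have hcl : ∀ g0 g1 : GV p V, g0 ∈ X → g1 ∈ X → Subgroup.closure ({g0, g1} : Set (GV p V)) ≤ X :=
    fun g0 g1 h0 h1 => (Subgroup.closure_le _).2 (by
      rintro g (rfl | rfl)
      · exact h0
      · exact h1)
  have hc1 : φ0 c1 ≠ 0 := fun e => hrM (h.mem_of_pGroup (hcl _ _ huX (X.mul_mem (X.mul_mem hr huX) (X.inv_mem hr)))
    (Embedded.pair_pGroup hp hform hform1 hφ0 hφ1 e) hu hu1 hr (Subgroup.subset_closure (by simp))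
    (Subgroup.subset_closure (by simp)))
  obtain ⟨w, hw, hw0, hw1⟩ : ∃ w : V, w ≠ 0 ∧ φ0 w = 0 ∧ φ1 w = 0 := by
    by_contra hno
    push Not at hno
    have : Nat.card V ≤ Nat.card (ZMod p × ZMod p) :=
      Nat.card_le_card_of_injective (fun v => (φ0 v, φ1 v)) fun v w hvw => by
        by_contra hne
        exact hno (v - w) (sub_ne_zero.2 hne) (by rw [map_sub, show φ0 v = φ0 w from (Prod.ext_iff.1 hvw).1, sub_self])
          (by rw [map_sub, show φ1 v = φ1 w from (Prod.ext_iff.1 hvw).2, sub_self])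
    rw [hc, Nat.card_prod, Nat.card_zmod] at this
    nlinarith [(Fact.out : p.Prime).two_le, Nat.mul_pos (Fact.out : p.Prime).pos (Fact.out : p.Prime).pos]
  refine ⟨w, hw, ?_⟩
  have hfu : u0 ∈ Units.fix (p := p) w := by
    show u0.1 w = w; rw [hform, hw0, zero_smul, add_zero]
  have hfv : r * u0 * r⁻¹ ∈ Units.fix (p := p) w := by
    show (r * u0 * r⁻¹).1 w = w; rw [hform1, hw1, zero_smul, add_zero]
  -- conjugates
  have hconj : ∀ a ∈ X, a * u0 * a⁻¹ ∈ Units.fix (p := p) w := by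
    intro a ha
    set φ3 := φ0.comp a⁻¹.1
    set c3 := a.1 c0
    have hform3 : ∀ v, (a * u0 * a⁻¹).1 v = v + φ3 v • c3 := Embedded.conj_apply_transvection hform
    have hφ3 : φ3 c3 = 0 := by show φ0 (a⁻¹.1 (a.1 c0)) = 0; rw [Units.inv_apply_self, hφ0]
    obtain ⟨g, hg, hgfix, hgc⟩ : ∃ g ∈ X, g * u0 * g⁻¹ ∈ Units.fix (p := p) w ∧ φ3 (g.1 c0) = 0 := by
      by_cases h30 : φ3 c0 = 0
      · exact ⟨1, X.one_mem, by simpa using hfu, by simpa using h30⟩
      · set m := (-(φ3 c1 / φ3 c0) / φ0 c1).val with hm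
        refine ⟨u0 ^ m * r, X.mul_mem (X.pow_mem huX m) hr, ?_, ?_⟩
        · rw [show u0 ^ m * r * u0 * (u0 ^ m * r)⁻¹ = u0 ^ m * (r * u0 * r⁻¹) * (u0 ^ m)⁻¹ by group]
          exact mul_mem (mul_mem (pow_mem hfu m) hfv) (inv_mem (pow_mem hfu m))
        · rw [Units.mul_apply, Units.pow_apply_of_sq u0 h2, dd_apply, hform, add_sub_cancel_left, map_add, map_smul,
            map_smul, hm, ZMod.natCast_zmod_val, smul_eq_mul, smul_eq_mul]
          field_simp
          ring
    have hform2 : ∀ v, (g * u0 * g⁻¹).1 v = v + (φ0.comp g⁻¹.1) v • g.1 c0 := Embedded.conj_apply_transvection hform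
    have h22 : (φ0.comp g⁻¹.1) (g.1 c0) = 0 := by
      show φ0 (g⁻¹.1 (g.1 c0)) = 0; rw [Units.inv_apply_self, hφ0]
    set Q := Subgroup.closure ({a * u0 * a⁻¹, g * u0 * g⁻¹} : Set (GV p V))
    have hQ : IsPGroup p Q := Embedded.pair_pGroup hp hform3 hform2 hφ3 h22 hgc
    have hQX : Q ≤ X := hcl _ _ (X.mul_mem (X.mul_mem ha huX) (X.inv_mem ha)) (X.mul_mem (X.mul_mem hg huX) (X.inv_mem hg))
    set Q' := Q.map (MulAut.conj g⁻¹).toMonoidHom
    have hQ'X : Q' ≤ X := by
      rintro _ ⟨q, hq, rfl⟩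
      exact X.mul_mem (X.mul_mem (X.inv_mem hg) (hQX hq)) (X.inv_mem (X.inv_mem hg))
    obtain ⟨b, -, hb⟩ := h.syl Q' hQ'X (hQ.map _)
    have huQ : u0 ∈ Q' := ⟨g * u0 * g⁻¹, Subgroup.subset_closure (by simp), by simp [mul_assoc]⟩
    have hyQ : g⁻¹ * (a * u0 * a⁻¹) * g ∈ Q' :=
      ⟨a * u0 * a⁻¹, Subgroup.subset_closure (by simp), by simp [mul_assoc]⟩
    obtain ⟨n, hn⟩ := (Embedded.mem_P_iff hp hc h (hb _ huQ) (fun e => hu1 (conj_eq_one_iff.1 e))).1 (hb _ hyQ)
    rw [conj_pow] at hn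
    have h1 : a * u0 * a⁻¹ = (g * u0 * g⁻¹) ^ n := by
      rw [conj_pow, mul_left_cancel (mul_right_cancel hn)]; group
    rw [h1]
    exact pow_mem hgfix n
  intro Q hQ hQp q hq
  obtain ⟨a, ha, haQ⟩ := h.syl Q hQ hQp
  obtain ⟨n, hn⟩ := (Embedded.mem_P_iff hp hc h hu hu1).1 (haQ q hq)
  have h1 : q = (a⁻¹ * u0 * a⁻¹⁻¹) ^ n := by rw [conj_pow, hn]; group
  rw [h1]
  exact pow_mem (hconj a⁻¹ (X.inv_mem ha)) n

variable {p : ℕ} [Fact p.Prime] {G : Type u} [Group G] [Finite G] {E : Subgroup G} {γ : MulAut G} {t : ZMod p}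
  {D : TData p E γ t} {U W : Type u} [AddCommGroup U] [Module (ZMod p) U] [Finite U] [AddCommGroup W]
  [Module (ZMod p) W] [Finite W] (C : TCoord D U W)

include C in
theorem frattini_index : (frattini G).index = p ^ 3 := by
  let f : G →* Multiplicative U :=
    MonoidHom.mk' (fun g => Multiplicative.ofAdd (C.cU.v g)) fun g h => by
      rw [C.cU.map_mul _ trivial _ trivial, ofAdd_add]
  have hk : f.ker = frattini G := by
    ext g
    rw [MonoidHom.mem_ker, ← C.cU.mem g trivial]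
    exact ofAdd_eq_one
  have hs : Function.Surjective f := fun v => by
    obtain ⟨g, -, hg⟩ := C.cU.surj v.toAdd
    exact ⟨g, by show Multiplicative.ofAdd (C.cU.v g) = v; rw [hg, ofAdd_toAdd]⟩
  rw [← hk, Subgroup.index_ker, MonoidHom.range_eq_top.2 hs, Subgroup.card_top, ← C.card_U]
  exact Nat.card_congr Multiplicative.toAdd

variable (hG : IsPGroup p G) (hp : 3 ≤ p)
include hG hp

/-- `[e, w]` vanishes in the second layer. -/
theorem F_eq_zero (hsr : SectionalPRankLE p 3 G) (ht : t ≠ 0) (ht2 : t ^ 2 ≠ 1) (ht3 : t ^ 3 ≠ 1) : C.F = 0 := by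
  by_contra hF
  have h1 : t ^ 2 ≠ t⁻¹ := fun h => ht3 (by rw [pow_succ, h, inv_mul_cancel₀ ht])
  have hpx := C.px_zero hG hp h1 ht2
  have hxw := C.xw_zero hG hp h1 ht2
  set z := D.e⁻¹ * D.x * D.e * D.x⁻¹
  set f := D.e⁻¹ * D.w * D.e * D.w⁻¹
  have hzF : z ∈ frattini G := TCoord.comm_mem hG D.e D.x
  have hfF : f ∈ frattini G := TCoord.comm_mem hG D.e D.w
  have hz : C.cW.v z = C.Z := rfl
  have hf : C.cW.v f = C.F := rfl
  have hpsi : ∀ a c : G, a ∈ frattini G → a * c * a⁻¹ * c⁻¹ ∈ psi p G ∧ c * a * c⁻¹ * a⁻¹ ∈ psi p G :=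
    fun a c ha => ⟨comm_mem_layer ha trivial, comm_mem_layer' ha trivial⟩
  have hxp : D.x ^ p ∈ psi p G := (C.cW.mem _ (PGroups.pow_mem_frattini hG _)).1 hpx
  have hzero : ∀ {v : U} {a : ℤ}, (a : ZMod p) = 0 → (a : ZMod p) • v = 0 := fun h => by rw [h, zero_smul]
  have hsr' := sectional_of_injective (⊤ : Subgroup G).subtype Subtype.val_injective hsr
  have hn : ∀ h ∈ (⊤ : Subgroup G), ∀ k ∈ psi p G, h * k * h⁻¹ ∈ psi p G :=
    fun h _ k hk => aut_mem_psi (MulAut.conj h) hk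
  have hxwc : D.x * D.w * D.x⁻¹ * D.w⁻¹ ∈ psi p G := by
    have h2 : C.b D.x⁻¹ D.w = 0 := by
      have h3 := TCoord.b_left C hG D.x⁻¹ D.x D.w
      rw [inv_mul_cancel, TCoord.b_one_left C hG, hxw, add_zero] at h3
      exact h3.symm
    have h4 := (C.cW.mem _ (TCoord.comm_mem hG D.x⁻¹ D.w)).1 h2
    rwa [inv_inv] at h4
  have hwxc : D.w * D.x * D.w⁻¹ * D.x⁻¹ ∈ psi p G := by
    have := inv_mem hxwc
    rwa [show (D.x * D.w * D.x⁻¹ * D.w⁻¹)⁻¹ = D.w * D.x * D.w⁻¹ * D.x⁻¹ by group] at this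
  have hdvd : ∀ a : ℤ, (a : ZMod p) = 0 → (p : ℤ) ∣ a := fun a h => (ZMod.intCast_zmod_eq_zero_iff_dvd a p).1 h
  by_cases hpw : pw p C D.w = 0
  · have hwp : D.w ^ p ∈ psi p G := (C.cW.mem _ (PGroups.pow_mem_frattini hG _)).1 hpw
    refine rank_false hsr' le_top le_top hn ![D.x, D.w, z, f] (fun _ => trivial) ?_ ?_ fun d hd => ?_
    · intro i; fin_cases i
      exacts [hxp, hwp, pow_mem_layer hzF, pow_mem_layer hfF]
    · intro i j
      fin_cases i <;> fin_cases j <;>
        simp [hxwc, hwxc, (hpsi z D.x hzF).1, (hpsi z D.x hzF).2, (hpsi z D.w hzF).1, (hpsi z D.w hzF).2,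
          (hpsi f D.x hfF).1, (hpsi f D.x hfF).2, (hpsi f D.w hfF).1, (hpsi f D.w hfF).2, (hpsi z f hzF).1,
          (hpsi z f hzF).2]
    · simp only [Matrix.cons_val_zero, Matrix.cons_val_one, Matrix.cons_val_two, Matrix.cons_val_three,
        Matrix.head_cons, Matrix.tail_cons] at hd
      have hU := (C.cU.mem _ trivial).2 (psi_le G hd)
      simp only [C.cU.map_mul _ trivial _ trivial, C.cU.map_zpow trivial, (C.cU.mem z trivial).2 hzF,
        (C.cU.mem f trivial).2 hfF, smul_zero, add_zero] at hU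
      obtain ⟨-, h5, h6⟩ := C.indepU 0 (d 0) (d 1) (by rw [zero_smul, zero_add]; exact hU)
      obtain ⟨a0, ha0⟩ := hdvd _ h5
      obtain ⟨a1, ha1⟩ := hdvd _ h6
      have h7 : D.x ^ d 0 * D.w ^ d 1 ∈ psi p G := by
        rw [ha0, ha1, zpow_mul, zpow_mul, zpow_natCast, zpow_natCast]
        exact mul_mem (zpow_mem hxp _) (zpow_mem hwp _)
      have h8 : z ^ d 2 * f ^ d 3 ∈ psi p G := by
        have h9 := mul_mem (inv_mem h7) hd
        rwa [show D.x ^ d 0 * D.w ^ d 1 * z ^ d 2 * f ^ d 3 = D.x ^ d 0 * D.w ^ d 1 * (z ^ d 2 * f ^ d 3) by group,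
          inv_mul_cancel_left] at h9
      have h9 := (C.cW.mem _ (mul_mem (zpow_mem hzF _) (zpow_mem hfF _))).2 h8
      rw [C.cW.map_mul _ (zpow_mem hzF _) _ (zpow_mem hfF _), C.cW.map_zpow hzF, C.cW.map_zpow hfF, hz, hf] at h9
      have h10 := C.z_indep hG hp (a := (d 2 : ZMod p)) (i := (d 3 : ZMod p)) (j := 0) (k := 0) (by
        rw [zero_smul, zero_smul, add_zero, add_zero]; exact h9)
      rw [h10, zero_smul, zero_add] at h9
      intro i
      rw [← ZMod.intCast_zmod_eq_zero_iff_dvd]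
      fin_cases i
      exacts [h5, h6, h10, (smul_eq_zero.1 h9).resolve_right hF]
  · have hwF : D.w ^ p ∈ frattini G := PGroups.pow_mem_frattini hG _
    have hwv : C.cW.v (D.w ^ p) = pw p C D.w := rfl
    refine rank_false hsr' le_top le_top hn ![D.x, z, f, D.w ^ p] (fun _ => trivial) ?_ ?_ fun d hd => ?_
    · intro i; fin_cases i
      exacts [hxp, pow_mem_layer hzF, pow_mem_layer hfF, pow_mem_layer hwF]
    · intro i j
      fin_cases i <;> fin_cases j <;>
        simp [(hpsi z D.x hzF).1, (hpsi z D.x hzF).2, (hpsi f D.x hfF).1, (hpsi f D.x hfF).2, (hpsi z f hzF).1,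
          (hpsi z f hzF).2, (hpsi (D.w ^ p) D.x hwF).1, (hpsi (D.w ^ p) D.x hwF).2, (hpsi z (D.w ^ p) hzF).1,
          (hpsi z (D.w ^ p) hzF).2, (hpsi f (D.w ^ p) hfF).1, (hpsi f (D.w ^ p) hfF).2]
    · simp only [Matrix.cons_val_zero, Matrix.cons_val_one, Matrix.cons_val_two, Matrix.cons_val_three,
        Matrix.head_cons, Matrix.tail_cons] at hd
      have hU := (C.cU.mem _ trivial).2 (psi_le G hd)
      simp only [C.cU.map_mul _ trivial _ trivial, C.cU.map_zpow trivial, (C.cU.mem z trivial).2 hzF,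
        (C.cU.mem f trivial).2 hfF, (C.cU.mem _ trivial).2 hwF, smul_zero, add_zero] at hU
      obtain ⟨-, h5, -⟩ := C.indepU 0 (d 0) 0 (by rw [zero_smul, zero_add, zero_smul, add_zero]; exact hU)
      obtain ⟨a0, ha0⟩ := hdvd _ h5
      have h7 : D.x ^ d 0 ∈ psi p G := by
        rw [ha0, zpow_mul, zpow_natCast]; exact zpow_mem hxp _
      have h8 : z ^ d 1 * f ^ d 2 * (D.w ^ p) ^ d 3 ∈ psi p G := by
        have h9 := mul_mem (inv_mem h7) hd
        rwa [show D.x ^ d 0 * z ^ d 1 * f ^ d 2 * (D.w ^ p) ^ d 3 = D.x ^ d 0 * (z ^ d 1 * f ^ d 2 * (D.w ^ p) ^ d 3) by group,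
          inv_mul_cancel_left] at h9
      have h9 := (C.cW.mem _ (mul_mem (mul_mem (zpow_mem hzF _) (zpow_mem hfF _)) (zpow_mem hwF _))).2 h8
      rw [C.cW.map_mul _ (mul_mem (zpow_mem hzF _) (zpow_mem hfF _)) _ (zpow_mem hwF _),
        C.cW.map_mul _ (zpow_mem hzF _) _ (zpow_mem hfF _), C.cW.map_zpow hzF, C.cW.map_zpow hfF,
        C.cW.map_zpow hwF, hz, hf, hwv] at h9
      have h10 := C.z_indep hG hp (a := (d 1 : ZMod p)) (i := (d 2 : ZMod p)) (j := 0) (k := (d 3 : ZMod p)) (by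
        rw [zero_smul, add_zero]; exact h9)
      rw [h10, zero_smul, zero_add] at h9
      have h11 := congrArg (C.σ γ).1 h9
      simp only [map_add, map_smul, map_zero, C.gamma_F hG hp, C.gamma_pw hG hp] at h11
      have h12 : ((d 3 : ZMod p) * (1 - t⁻¹)) • pw p C D.w = 0 := by
        linear_combination (norm := module) h11 - t⁻¹ • h9
      have h13 : (d 3 : ZMod p) = 0 := (mul_eq_zero.1 ((smul_eq_zero.1 h12).resolve_right hpw)).resolve_right
        (sub_ne_zero.2 fun h => ht2 (by rw [inv_eq_one.1 h.symm, one_pow]))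
      rw [h13, zero_smul, add_zero] at h9
      intro i
      rw [← ZMod.intCast_zmod_eq_zero_iff_dvd]
      fin_cases i
      exacts [h5, h10, (smul_eq_zero.1 h9).resolve_right hF, h13]

/-- `w` is central modulo the second layer. -/
theorem b_w (hF : C.F = 0) (hxw : C.b D.x D.w = 0) (q : G) : C.b q D.w = 0 := by
  obtain ⟨i, j, k, h⟩ := C.spanU (C.cU.v q)
  rw [C.b_of_coords hG hp (i' := 0) (j' := 0) (k' := 1) h
    (by rw [zero_smul, zero_smul, one_smul, zero_add, zero_add]; rfl), hxw, hF]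
  simp

omit hG hp

/-- A maximal subgroup with a Frattini quotient of order `p ^ 3` moved by every outside element. -/
structure Good (p : ℕ) (Q : Subgroup G) : Prop where
  idx : Q.index = p
  phi_idx : (phi Q).index = p ^ 4
  move : ∀ f, f ∉ Q → ∃ q ∈ Q, q⁻¹ * f * q * f⁻¹ ∉ phi Q

theorem phi_map (hG : IsPGroup p G) (α : MulAut G) (Q : Subgroup G) :
    phi (Q.map α.toMonoidHom) = (phi Q).map α.toMonoidHom := by
  have key : ∀ (β : MulAut G) (R : Subgroup G), (phi R).map β.toMonoidHom ≤ phi (R.map β.toMonoidHom) := by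
    intro β R
    rw [Subgroup.map_le_iff_le_comap]
    refine phi_le_of (hG.to_subgroup R) (fun e he r hr _ => ?_) (fun x hx => ?_) fun x hx y hy => ?_
    · show β (e * r * e⁻¹) ∈ phi (R.map β.toMonoidHom)
      rw [map_mul, map_mul, map_inv]
      exact conj_mem_phi (Subgroup.le_normalizer ⟨e, he, rfl⟩) hr
    · show β (x ^ p) ∈ phi (R.map β.toMonoidHom)
      rw [map_pow]; exact pow_mem_phi (hG.to_subgroup _) ⟨x, hx, rfl⟩
    · show β (x * y * x⁻¹ * y⁻¹) ∈ phi (R.map β.toMonoidHom)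
      rw [map_mul, map_mul, map_mul, map_inv, map_inv]
      exact comm_mem_phi (hG.to_subgroup _) ⟨x, hx, rfl⟩ ⟨y, hy, rfl⟩
  refine le_antisymm ?_ (key α Q)
  have h := key α⁻¹ (Q.map α.toMonoidHom)
  rw [Subgroup.map_map, show (α⁻¹ : MulAut G).toMonoidHom.comp α.toMonoidHom = MonoidHom.id G from
    MonoidHom.ext fun x => MulAut.inv_apply_self G α x, Subgroup.map_id] at h
  intro y hy
  exact ⟨α⁻¹ y, h ⟨y, hy, rfl⟩, MulAut.apply_inv_self G α y⟩

theorem Good.map {Q : Subgroup G} (hQ : Good p Q) (hG : IsPGroup p G) (α : MulAut G) :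
    Good p (Q.map α.toMonoidHom) := by
  refine ⟨?_, ?_, fun f hf => ?_⟩
  · rw [← hQ.idx]; exact Subgroup.index_map_equiv Q α
  · rw [phi_map hG, ← hQ.phi_idx]; exact Subgroup.index_map_equiv _ α
  · obtain ⟨f, rfl⟩ := α.surjective f
    obtain ⟨q, hq, hne⟩ := hQ.move f fun h => hf ⟨f, h, rfl⟩
    refine ⟨α q, ⟨q, hq, rfl⟩, fun h => hne ?_⟩
    rw [phi_map hG, ← map_inv, ← map_inv, ← map_mul, ← map_mul, ← map_mul] at h
    obtain ⟨y, hy, he⟩ := h
    exact α.injective he ▸ hy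

include C hG hp in
/-- All these subgroups share their Frattini subgroup. -/
theorem phi_eq_of_good (hsr : SectionalPRankLE p 3 G) (ht : t ≠ 0) (ht2 : t ^ 2 ≠ 1) (ht3 : t ^ 3 ≠ 1)
    (hE : Good p E) {Q : Subgroup G} (hQ : Good p Q) : phi Q = phi E := by
  have h1 : t ^ 2 ≠ t⁻¹ := fun h => ht3 (by rw [pow_succ, h, inv_mul_cancel₀ ht])
  have hF := F_eq_zero C hG hp hsr ht ht2 ht3
  have hxw := C.xw_zero hG hp h1 ht2
  have hpx := C.px_zero hG hp h1 ht2
  have hcoatom : IsCoatom Q := by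
    refine ⟨fun h => ?_, fun A hA => by_contra fun hAt => ?_⟩
    · have := hQ.idx
      rw [h, Subgroup.index_top] at this
      exact absurd this.symm (Fact.out : p.Prime).one_lt.ne'
    · have h2 := PGroupTheory.prime_mul_index_le hG hA
      have h3 := PGroupTheory.prime_mul_index_le hG (lt_top_iff_ne_top.2 hAt)
      rw [Subgroup.index_top, mul_one] at h3
      rw [hQ.idx] at h2
      have := (Nat.mul_le_mul_left p h3).trans h2
      nlinarith [(Fact.out : p.Prime).two_le]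
  haveI hQn : Q.Normal := PGroups.coatom_normal hG hcoatom
  have hΦQ : frattini G ≤ Q := frattini_le_coatom hcoatom
  have hnorm : ∀ g : G, g ∈ Subgroup.normalizer (Q : Set G) := fun g => by
    rw [Subgroup.normalizer_eq_top]; trivial
  have hPF : phi Q ≤ frattini G := phi_le_of (hG.to_subgroup Q) (fun e _ r hr _ => frattini_normal_mem e hr)
    (fun x _ => PGroups.pow_mem_frattini hG x) fun x _ y _ => PGroups.commutatorElement_mem_frattini hG x y
  have hne : ¬ frattini G ≤ phi Q := fun h => by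
    have h2 := Subgroup.index_dvd_of_le h
    rw [frattini_index C, hQ.phi_idx] at h2
    exact absurd (Nat.le_of_dvd (pow_pos (Fact.out : p.Prime).pos 3) h2)
      (not_le.2 (Nat.pow_lt_pow_right (Fact.out : p.Prime).one_lt (by norm_num)))
  haveI : (phi Q).Normal := ⟨fun y hy g => conj_mem_phi (hnorm g) hy⟩
  have hpsi : psi p G ≤ phi Q := by
    by_contra hps
    have hlt : phi Q < phi Q ⊔ psi p G := lt_of_le_of_ne le_sup_left fun h => hps (h ▸ le_sup_right)
    have hle : phi Q ⊔ psi p G ≤ frattini G := sup_le hPF (psi_le G)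
    have heq : phi Q ⊔ psi p G = frattini G := eq_of_le_of_not_lt hle fun hlt' => by
      have h2 := (Nat.mul_le_mul_left p (PGroupTheory.prime_mul_index_le hG hlt')).trans
        (PGroupTheory.prime_mul_index_le hG hlt)
      rw [frattini_index C, hQ.phi_idx, ← mul_assoc, ← sq, ← pow_add] at h2
      exact absurd h2 (not_le.2 (Nat.pow_lt_pow_right (Fact.out : p.Prime).one_lt (by norm_num)))
    refine hne (le_of_le_sup_layer (E := (⊤ : Subgroup G)) (hG.to_subgroup _) le_top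
      (fun e _ f hf => frattini_normal_mem e hf) le_top
      (fun e _ r hr => conj_mem_phi (hnorm e) hr) fun f hf => ?_)
    obtain ⟨r, hr, m, hm, he⟩ := Subgroup.mem_sup_of_normal_left.1 (heq.ge hf)
    exact ⟨r, hr, m, hm, he.symm⟩
  have hwQ : D.w ∈ Q := by
    by_contra hw
    obtain ⟨q, hq, hne'⟩ := hQ.move D.w hw
    exact hne' (hpsi ((C.cW.mem _ (TCoord.comm_mem hG q D.w)).1 (b_w C hG hp hF hxw q)))
  have hle : phi Q ≤ phi E := by
    have hEn : ∀ g : G, g ∈ Subgroup.normalizer (E : Set G) := by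
      intro g
      haveI : E.Normal := PGroups.coatom_normal hG (by
        refine ⟨fun h => ?_, fun A hA => by_contra fun hAt => ?_⟩
        · have := hE.idx
          rw [h, Subgroup.index_top] at this
          exact absurd this.symm (Fact.out : p.Prime).one_lt.ne'
        · have h2 := PGroupTheory.prime_mul_index_le hG hA
          have h3 := PGroupTheory.prime_mul_index_le hG (lt_top_iff_ne_top.2 hAt)
          rw [Subgroup.index_top, mul_one] at h3
          rw [hE.idx] at h2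
          have := (Nat.mul_le_mul_left p h3).trans h2
          nlinarith [(Fact.out : p.Prime).two_le])
      rw [Subgroup.normalizer_eq_top]; trivial
    refine phi_le_of (hG.to_subgroup Q) (fun e _ r hr _ => conj_mem_phi (hEn e) hr) (fun q _ => ?_) fun x hx y hy => ?_
    · obtain ⟨i, j, k, h⟩ := C.spanU (C.cU.v q)
      set m := (D.e ^ p) ^ i.val * (D.w ^ p) ^ k.val
      have he : D.e ^ p ∈ phi E := pow_mem_phi (hG.to_subgroup E) D.eE
      have hw : D.w ^ p ∈ phi E := pow_mem_phi (hG.to_subgroup E) D.wE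
      have hmE : m ∈ phi E := mul_mem (pow_mem he _) (pow_mem hw _)
      have h3 : m⁻¹ * q ^ p ∈ psi p G := (C.cW.eq_iff (D.phiFr hmE) (PGroups.pow_mem_frattini hG q)).1 (by
        rw [show C.cW.v (q ^ p) = pw p C q from rfl, C.pw_of_coords hG hp h, hpx, smul_zero, add_zero,
          C.cW.map_mul _ (pow_mem (D.phiFr he) _) _ (pow_mem (D.phiFr hw) _), C.cW.map_pow (D.phiFr he),
          C.cW.map_pow (D.phiFr hw), ZMod.natCast_zmod_val, ZMod.natCast_zmod_val]
        rfl)
      have := mul_mem hmE (D.psiE h3)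
      rwa [mul_inv_cancel_left] at this
    · obtain ⟨i, j, k, h⟩ := C.spanU (C.cU.v x⁻¹)
      obtain ⟨i', j', k', h'⟩ := C.spanU (C.cU.v y)
      have hb : C.b x⁻¹ y = (i * j' - j * i') • C.Z := by
        rw [C.b_of_coords hG hp h h', hF, hxw, smul_zero, smul_zero, add_zero, add_zero]
      by_cases hdet : i * j' - j * i' = 0
      · have h3 := (C.cW.mem _ (TCoord.comm_mem hG x⁻¹ y)).1 (by rw [hdet, zero_smul] at hb; exact hb)
        rw [inv_inv] at h3
        exact D.psiE h3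
      · exfalso
        let T : Submodule (ZMod p) U :=
          { carrier := {v | ∃ q ∈ Q, C.cU.v q = v}
            zero_mem' := ⟨1, one_mem _, C.cU.map_one⟩
            add_mem' := by
              rintro _ _ ⟨a, ha, rfl⟩ ⟨b, hb, rfl⟩
              exact ⟨a * b, mul_mem ha hb, C.cU.map_mul _ trivial _ trivial⟩
            smul_mem' := by
              rintro s _ ⟨a, ha, rfl⟩
              exact ⟨a ^ s.val, pow_mem ha _, by rw [C.cU.map_pow trivial, ZMod.natCast_zmod_val]⟩ }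
        have h3 : i • C.E0 + j • C.X0 + k • C.W0 ∈ T := h ▸ ⟨x⁻¹, inv_mem hx, rfl⟩
        have h4 : i' • C.E0 + j' • C.X0 + k' • C.W0 ∈ T := h' ▸ ⟨y, hy, rfl⟩
        have hW0 : C.W0 ∈ T := ⟨D.w, hwQ, rfl⟩
        have h5 := sub_mem h3 (T.smul_mem k hW0)
        have h6 := sub_mem h4 (T.smul_mem k' hW0)
        rw [add_sub_cancel_right] at h5 h6
        have hE0 : C.E0 ∈ T := by
          refine (T.smul_mem_iff hdet).1 ?_
          have h7 := sub_mem (T.smul_mem j' h5) (T.smul_mem j h6)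
          convert h7 using 1
          module
        have hX0 : C.X0 ∈ T := by
          refine (T.smul_mem_iff hdet).1 ?_
          have h7 := sub_mem (T.smul_mem i h6) (T.smul_mem i' h5)
          convert h7 using 1
          module
        refine hcoatom.1 (eq_top_iff.2 fun g _ => ?_)
        obtain ⟨a, b, c, hg⟩ := C.spanU (C.cU.v g)
        obtain ⟨q, hq, hqg⟩ : C.cU.v g ∈ T :=
          hg ▸ add_mem (add_mem (T.smul_mem a hE0) (T.smul_mem b hX0)) (T.smul_mem c hW0)
        have := mul_mem hq (hΦQ ((C.cU.eq_iff trivial trivial).1 hqg))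
        rwa [mul_inv_cancel_left] at this
  refine eq_of_le_of_not_lt hle fun hlt => ?_
  have h2 := PGroupTheory.prime_mul_index_le hG hlt
  rw [hE.phi_idx, hQ.phi_idx] at h2
  nlinarith [(Fact.out : p.Prime).two_le, pow_pos (Fact.out : p.Prime).pos 4]

end Cfsg.Agent.Lib.SectionalThree
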