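import Cfsg.Agent.Lib.SectionalThree.PearlEssential
import Cfsg.Agent.Lib.SectionalThree.JordanElem
import Cfsg.Agent.Lib.SectionalThree.Transvection
import Cfsg.Agent.Lib.EssentialRankThree.Main
import Cfsg.Agent.Lib.FusionEssential.PClosed

/-!
# Fusion systems of sectional rank three with trivial core have pearls

Without a pearl some nontrivial subgroup lies in every essential subgroup and is invariant under all automisers.
-/

set_option autoImplicit false
set_option linter.style.haveILetI false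
set_option linter.unusedSectionVars false
set_option maxHeartbeats 800000

namespace Cfsg.Agent.Lib.SectionalThree

open Cfsg Cfsg.FusionSystem Cfsg.Agent.Lib Cfsg.Agent.Lib.FS Cfsg.Agent.Lib.EssentialRankThree
open Cfsg.Agent.Lib.Resistant67 (conjN conjN_apply conjN_pow_eq_one aut_mem_frattini)
open Cfsg.Agent.Lib.EssentialRankThree.Units (GV dd dd_apply)
open scoped commutatorElement

universe u

variable {Ω : Type u} [Group Ω] {S : Subgroup Ω} [Finite S] {p : ℕ} [Fact p.Prime] {F : FusionSystem S}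
  {E : Subgroup Ω}

/-- A nontrivial subgroup invariant under all the essential automisers gives a nontrivial core. -/
theorem core_ne_bot (hS : IsPGroup p S) (hF : F.IsSaturated p) {R : Subgroup Ω} (hne : R ≠ ⊥) (hRS : R ≤ S)
    (hbase : ∀ α ∈ F.autGroup S, ∀ v : S, (v : Ω) ∈ R → ((α v : S) : Ω) ∈ R)
    (hess : ∀ E, F.IsEssential p E → R ≤ E ∧ ∀ α ∈ F.autGroup E, ∀ v : E, (v : Ω) ∈ R → ((α v : E) : Ω) ∈ R) :
    F.core ≠ ⊥ := by
  have hN : F.IsNormal R := (isNormal_iff_essential hS hF).2 fun P hP => by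
    have hP' : R ≤ P ∧ ∀ α ∈ F.autGroup P, ∀ v : P, (v : Ω) ∈ R → ((α v : P) : Ω) ∈ R := by
      rcases hP with rfl | h
      · exact ⟨hRS, hbase⟩
      · exact hess P h
    refine ⟨hP'.1, fun α hα => ?_⟩
    ext y
    constructor
    · rintro ⟨w, hw, rfl⟩
      exact Subgroup.mem_subgroupOf.2 (hP'.2 α hα w (Subgroup.mem_subgroupOf.1 hw))
    · intro hy
      exact ⟨α⁻¹ y, Subgroup.mem_subgroupOf.2 (hP'.2 α⁻¹ (inv_mem hα) y (Subgroup.mem_subgroupOf.1 hy)),
        MulAut.apply_inv_self P α y⟩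
  exact fun h => hne (le_bot_iff.1 (h ▸ le_sSup hN))

/-- An automorphism of `S` stabilising `E` restricts into the automiser of `E`. -/
theorem exists_aut_restrict (hES : E ≤ S) {α : MulAut S} (hα : α ∈ F.autGroup S)
    (hE : ∀ y : S, (y : Ω) ∈ E → ((α y : S) : Ω) ∈ E) :
    ∃ β ∈ F.autGroup E, ∀ y : E, ((β y : E) : Ω) = α ⟨y, hES y.2⟩ := by
  haveI := finite_sub hES
  obtain ⟨φ, hφ, hφr, hφα⟩ := exists_hom_of_aut le_rfl hα
  obtain ⟨ψ, hψ, hψe⟩ := exists_restrict hφ hES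
  have hr : ψ.range = E := range_eq_of_mem hψ (fun y => by rw [hψe, hφα]; exact hE _ y.2) le_rfl
  exact ⟨homEquiv hψ hr, homEquiv_mem_autGroup hψ hr, fun y => by rw [homEquiv_coe, hψe, hφα]⟩

/-- The Frattini index of an essential subgroup is at most `p ^ 3`. -/
theorem index_le (hS : IsPGroup p S) (hsr : SectionalPRankLE p 3 ↥S) (hess : F.IsEssential p E) :
    (frattini ↥E).index ≤ p ^ 3 := by
  have hES : E ≤ S := hess.2.1.1
  haveI := finite_sub hES
  have hEp := isPGroup_of_le hS hES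
  have h := sectional_of_injective (Subgroup.inclusion hES) (Subgroup.inclusion_injective hES) hsr ⊤
    ((frattini ↥E).subgroupOf ⊤) ⊤ ?_ ?_
  · rw [Subgroup.card_top, ← Subgroup.index_eq_card] at h
    refine le_of_eq_of_le ?_ h
    exact (Subgroup.relIndex_top_right (frattini ↥E)).symm
  · refine ⟨⟨fun a b => Subtype.ext ?_⟩⟩
    obtain ⟨a, -⟩ := a
    obtain ⟨b, -⟩ := b
    obtain ⟨a, rfl⟩ := QuotientGroup.mk_surjective a
    obtain ⟨b, rfl⟩ := QuotientGroup.mk_surjective b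
    show (QuotientGroup.mk a * QuotientGroup.mk b : _ ⧸ (frattini ↥E).subgroupOf ⊤) =
      QuotientGroup.mk b * QuotientGroup.mk a
    rw [← QuotientGroup.mk_mul, ← QuotientGroup.mk_mul, eq_comm, QuotientGroup.eq, Subgroup.mem_subgroupOf]
    have := PGroups.commutatorElement_mem_frattini hEp (a : ↥E)⁻¹ (b : ↥E)⁻¹
    simpa [commutatorElement_def, mul_assoc] using this
  · intro a _
    obtain ⟨a, rfl⟩ := QuotientGroup.mk_surjective a
    rw [← QuotientGroup.mk_pow, QuotientGroup.eq_one_iff, Subgroup.mem_subgroupOf]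
    exact PGroups.pow_mem_frattini hEp _

section Three

variable (hS : IsPGroup p S) (hF : F.IsSaturated p) (hp5 : 5 ≤ p) (hsr : SectionalPRankLE p 3 ↥S)
  (hess : F.IsEssential p E) (hrk : (frattini ↥E).index = p ^ 3)
include hS hF hp5 hsr hess hrk

theorem normalizerIn_eq : normalizerIn S E = S :=
  le_antisymm (normalizerIn_le E) (le_inf le_rfl (le_normalizer_of_rank_three hS hF hp5 hsr hess hrk))

theorem index_eq : (E.subgroupOf S).index = p := by
  have hES : E ≤ S := hess.2.1.1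
  obtain ⟨V, _, _, _, ⟨d⟩⟩ := exists_auto hS hF hess hrk
  have hN := normalizerIn_eq hS hF hp5 hsr hess hrk
  haveI : (E.subgroupOf S).Normal := ⟨fun v hv g => Subgroup.mem_subgroupOf.2
    (conj_mem_of_normalizer (hN.ge g.2).2 (Subgroup.mem_subgroupOf.1 hv))⟩
  obtain ⟨⟨x, hx⟩, hxE⟩ := Resistant67.exists_normalizer_not_mem hS hF hess
  let π := QuotientGroup.mk' (E.subgroupOf S)
  have hπ : ∀ v : S, π v = 1 ↔ (v : Ω) ∈ E := fun v => (QuotientGroup.eq_one_iff v).trans Subgroup.mem_subgroupOf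
  set X : S := ⟨x, hx.1⟩
  have hdec := fun n hn => d.exists_eq_mul_pow (by omega) hess hx hxE (n := n) hn
  have ho : orderOf (π X) = p := orderOf_eq_prime (by rw [← map_pow, hπ]; exact (hdec x hx).1)
    fun h => hxE ((hπ X).1 h)
  have htop : Subgroup.zpowers (π X) = ⊤ := by
    refine eq_top_iff.2 fun q _ => ?_
    obtain ⟨n, rfl⟩ := QuotientGroup.mk'_surjective _ q
    obtain ⟨k, e, he, hne⟩ := (hdec n (hN.ge n.2)).2
    refine ⟨k, ?_⟩
    show π X ^ (k : ℤ) = π n
    rw [zpow_natCast, show n = ⟨e, hES he⟩ * X ^ k from Subtype.ext hne, map_mul, map_pow, (hπ ⟨e, hES he⟩).2 he, one_mul]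
  rw [Subgroup.index_eq_card, ← Subgroup.card_top, ← htop, Nat.card_zpowers, ho]

theorem phi_subgroupOf_eq : phi (E.subgroupOf S) = (phi E).subgroupOf S := by
  ext y
  rw [mem_phi_subgroupOf hess.2.1.1 hS, Subgroup.mem_subgroupOf]

theorem good_of_essential : Good p (E.subgroupOf S) := by
  have hES : E ≤ S := hess.2.1.1
  refine ⟨index_eq hS hF hp5 hsr hess hrk, ?_, fun f hf => ?_⟩
  · rw [phi_subgroupOf_eq hS hF hp5 hsr hess hrk]
    show (phi E).relIndex S = _
    rw [← Subgroup.relIndex_mul_relIndex (phi E) E S (phi_le E) hES,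
      show (phi E).relIndex E = p ^ 3 by rw [← hrk, ← phi_subgroupOf E]; rfl,
      show E.relIndex S = p from index_eq hS hF hp5 hsr hess hrk, ← pow_succ]
  · obtain ⟨V, _, _, _, ⟨d⟩⟩ := exists_auto hS hF hess hrk
    have hfN : (f : Ω) ∈ normalizerIn S E := (normalizerIn_eq hS hF hp5 hsr hess hrk).ge f.2
    by_contra h
    push Not at h
    refine hf (Subgroup.mem_subgroupOf.2 (d.mem_of_trivial hess hfN fun x hx => ?_))
    have h1 := h ⟨x, hES hx⟩ (Subgroup.mem_subgroupOf.2 hx)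
    rw [phi_subgroupOf_eq hS hF hp5 hsr hess hrk, Subgroup.mem_subgroupOf] at h1
    refine ((d.c.eq_iff hx (conj_mem_of_normalizer hfN.2 hx)).2 ?_).symm
    simpa [mul_assoc] using h1

theorem card_eq_of_phi_bot (hbot : phi E = ⊥) : Nat.card E = p ^ 3 ∧ Nat.card S = p ^ 4 := by
  haveI := finite_sub hess.2.1.1
  have h : frattini ↥E = ⊥ := (Subgroup.map_eq_bot_iff_of_injective _ E.subtype_injective).1 hbot
  have hE : Nat.card E = p ^ 3 := by rw [← hrk, h, Subgroup.index_bot]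
  refine ⟨hE, ?_⟩
  rw [← (E.subgroupOf S).card_mul_index, index_eq hS hF hp5 hsr hess hrk,
    Nat.card_congr (Subgroup.subgroupOfEquivOfLe hess.2.1.1).toEquiv, hE, ← pow_succ]

end Three

/-- Some nontrivial element of `Aut_S(E)` acts on `E / Φ(E)` as a transvection. -/
def IsTransE (F : FusionSystem S) (p : ℕ) [Fact p.Prime] (E : Subgroup Ω) : Prop :=
  ∃ (V : Type u) (_ : AddCommGroup V) (_ : Module (ZMod p) V) (_ : Finite V) (d : Auto F p E V),
    ∃ u ∈ (autInducedBy S E).map d.ρ, u ≠ 1 ∧ ∀ x, dd u (dd u x) = 0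

/-- The element `x` of `N_S(E)` outside `E` acts as a single Jordan block when there is no transvection. -/
theorem exists_jordan (hS : IsPGroup p S) (hF : F.IsSaturated p) (hess : F.IsEssential p E)
    (hrk : (frattini ↥E).index = p ^ 3) (hT : ¬ IsTransE F p E) {x : Ω} (hx : x ∈ normalizerIn S E) (hxE : x ∉ E) :
    ∃ (V : Type u) (_ : AddCommGroup V) (_ : Module (ZMod p) V) (_ : Finite V) (d : Auto F p E V) (a : Ω) (z : GV p V),
      a ∈ E ∧ z ∈ (autInducedBy S E).map d.ρ ∧ (∀ y ∈ E, z.1 (d.c.v y) = d.c.v (x * y * x⁻¹)) ∧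
        dd z (dd z (d.c.v a)) ≠ 0 := by
  obtain ⟨V, _, _, _, ⟨d⟩⟩ := exists_auto hS hF hess hrk
  obtain ⟨z, hzP, hz⟩ := d.exists_rho_conj hess.2.1.1 hx
  have hz1 : z ≠ 1 := fun h => hxE (d.mem_of_trivial hess hx fun y hy => by rw [← hz y hy, h]; rfl)
  obtain ⟨w, hw⟩ : ∃ w, dd z (dd z w) ≠ 0 := by
    by_contra h
    push Not at h
    exact hT ⟨V, inferInstance, inferInstance, inferInstance, d, z, hzP, hz1, h⟩
  obtain ⟨a, ha, rfl⟩ := d.c.surj w
  exact ⟨V, inferInstance, inferInstance, inferInstance, d, a, z, ha, hzP, hz, hw⟩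

/-- The torus of a transvection configuration on `S`. -/
theorem exists_trans_tdata (hS : IsPGroup p S) (hF : F.IsSaturated p) (hp5 : 5 ≤ p)
    (hess : F.IsEssential p E) (hN : normalizerIn S E = S) (hT : IsTransE F p E) :
    ∃ (t : ZMod p) (γ : MulAut S), γ ∈ F.autGroup S ∧ t ≠ 0 ∧ t ^ 2 ≠ 1 ∧ t ^ 3 ≠ 1 ∧ t ^ 5 ≠ 1 ∧
      Nonempty (TData p (E.subgroupOf S) γ t) := by
  obtain ⟨V, _, _, _, d, u, hu, hu1, h2⟩ := hT
  have key := exists_tdata hS hF hp5 hess d hu hu1 h2
  rw [hN] at key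
  exact key

/-- The elements of `E` fixed by the `p`-elements of its automiser. -/
def rfix (F : FusionSystem S) (p : ℕ) (E : Subgroup Ω) : Subgroup Ω :=
  Subgroup.map E.subtype
    { carrier := {v | ∀ α ∈ F.autGroup E, (∃ k : ℕ, α ^ p ^ k = 1) → α v = v}
      one_mem' := fun α _ _ => map_one α
      mul_mem' := fun {a b} ha hb α hα hk => by rw [map_mul, ha α hα hk, hb α hα hk]
      inv_mem' := fun {a} ha α hα hk => by rw [map_inv, ha α hα hk] }

theorem rfix_le : rfix F p E ≤ E := Subgroup.map_subtype_le _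

theorem mem_rfix {v : E} :
    (v : Ω) ∈ rfix F p E ↔ ∀ α ∈ F.autGroup E, (∃ k : ℕ, α ^ p ^ k = 1) → α v = v := by
  constructor
  · rintro ⟨w, hw, he⟩
    rwa [show w = v from Subtype.ext he] at hw
  · exact fun h => ⟨v, h, rfl⟩

theorem aut_mem_rfix {α : MulAut E} (hα : α ∈ F.autGroup E) {v : E} (hv : (v : Ω) ∈ rfix F p E) :
    ((α v : E) : Ω) ∈ rfix F p E := by
  rw [mem_rfix] at hv ⊢
  intro β hβ ⟨k, hk⟩
  have h := hv (α⁻¹ * β * α⁻¹⁻¹) ((F.autGroup E).mul_mem ((F.autGroup E).mul_mem (inv_mem hα) hβ)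
    (inv_mem (inv_mem hα))) ⟨k, by rw [conj_pow, hk]; group⟩
  rw [inv_inv, MulAut.mul_apply, MulAut.mul_apply] at h
  exact (α⁻¹).injective (h.trans (MulAut.inv_apply_self E α v).symm)

/-- Automorphisms of the Sylow subgroup with `p`-power order are inner. -/
theorem inn_of_base (hS : IsPGroup p S) (hF : F.IsSaturated p) {α : MulAut S} (hα : α ∈ F.autGroup S) {k : ℕ}
    (hk : α ^ p ^ k = 1) : ∃ s : S, α = MulAut.conj s := by
  obtain ⟨R, hR⟩ := (fullyAutomized_of_fullyNormalized hS hF (isFullyNormalized_base F)).2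
  have hp : IsPGroup p (Subgroup.zpowers α) := by
    rintro ⟨_, j, rfl⟩
    refine ⟨k, Subtype.ext ?_⟩
    rw [Subgroup.coe_pow, Subgroup.coe_one, ← zpow_natCast, ← zpow_mul, mul_comm, zpow_mul, zpow_natCast, hk, one_zpow]
  obtain ⟨a, ha, haR⟩ := exists_conj_le_sylow R hR (Subgroup.zpowers_le.2 hα) hp
  obtain ⟨s, hs, hse⟩ := mem_autInducedBy.1 (haR α (Subgroup.mem_zpowers α))
  refine ⟨a⁻¹ ⟨s, hs⟩, MulEquiv.ext fun v => a.injective ?_⟩
  rw [MulAut.conj_apply, map_mul, map_mul, map_inv, MulAut.apply_inv_self]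
  refine Subtype.ext ?_
  simp only [Subgroup.coe_mul, Subgroup.coe_inv]
  rw [← hse, MulAut.mul_apply, MulAut.mul_apply, MulAut.inv_apply_self]

/-- When `Φ(S)` has order `p`, an automorphism trivial on `Z(S)` modulo `Φ(S)` commutes there with all others. -/
theorem commute_on_center (hS : IsPGroup p S) (hF : F.IsSaturated p) (hΦ : Nat.card (frattini ↥S) = p)
    {φ γ : MulAut S} (hφ : φ ∈ F.autGroup S) (hγ : γ ∈ F.autGroup S)
    (htriv : ∀ v ∈ Subgroup.center S, v⁻¹ * γ v ∈ frattini ↥S) {v : S} (hv : v ∈ Subgroup.center S) :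
    γ (φ v) = φ (γ v) := by
  haveI := isCyclic_of_prime_card (α := frattini ↥S) hΦ
  obtain ⟨f0, hf0⟩ := IsCyclic.exists_generator (α := frattini ↥S)
  have hgen : ∀ f ∈ frattini ↥S, ∃ i : ℤ, (f0 : S) ^ i = f := fun f hf => by
    obtain ⟨i, hi⟩ := Subgroup.mem_zpowers_iff.1 (hf0 ⟨f, hf⟩)
    exact ⟨i, congrArg Subtype.val hi⟩
  have hcomm : ∀ α β : MulAut S, ∀ f ∈ frattini ↥S, α (β f) = β (α f) := fun α β f hf => by
    obtain ⟨n, rfl⟩ := hgen f hf
    obtain ⟨i, hi⟩ := hgen _ (aut_mem_frattini α f0.2)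
    obtain ⟨j, hj⟩ := hgen _ (aut_mem_frattini β f0.2)
    simp only [map_zpow, ← hi, ← hj]
    rw [← zpow_mul, ← zpow_mul, ← zpow_mul, ← zpow_mul]
    congr 1; ring
  set κ := (φ * γ)⁻¹ * (γ * φ) with hκ
  have hκA : κ ∈ F.autGroup S := mul_mem (inv_mem (mul_mem hφ hγ)) (mul_mem hγ hφ)
  suffices h : κ v = v by
    have := congrArg (φ * γ) h
    rw [hκ, ← MulAut.mul_apply, mul_inv_cancel_left] at this
    exact this
  obtain ⟨δ, hδ⟩ : ∃ δ, δ = v⁻¹ * κ v := ⟨_, rfl⟩
  have hδΦ : δ ∈ frattini ↥S := by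
    have h1 : φ v ∈ Subgroup.center S := Subgroup.mem_center_iff.2 fun g => by
      obtain ⟨g, rfl⟩ := φ.surjective g
      rw [← map_mul, ← map_mul, Subgroup.mem_center_iff.1 hv g]
    have h2 : ((φ * γ) v)⁻¹ * (γ * φ) v ∈ frattini ↥S := by
      have h3 := mul_mem (inv_mem (aut_mem_frattini φ (htriv v hv))) (htriv _ h1)
      rwa [map_mul, map_inv, show ((φ v)⁻¹ * φ (γ v))⁻¹ * ((φ v)⁻¹ * γ (φ v)) = (φ (γ v))⁻¹ * γ (φ v) by group] at h3
    have h4 := aut_mem_frattini (φ * γ)⁻¹ h2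
    rwa [map_mul, map_inv, MulAut.inv_apply_self, ← MulAut.mul_apply, ← hκ, ← hδ] at h4
  have hκδ : κ δ = δ := by
    show (φ * γ)⁻¹ ((γ * φ) δ) = δ
    rw [show (γ * φ) δ = (φ * γ) δ from hcomm γ φ δ hδΦ, MulAut.inv_apply_self]
  have hv' : κ v = v * δ := by rw [hδ, mul_inv_cancel_left]
  have hit : ∀ n : ℕ, (κ ^ n) v = v * δ ^ n := by
    intro n
    induction n with
    | zero => simp
    | succ n ih => rw [pow_succ', MulAut.mul_apply, ih, map_mul, map_pow, hκδ, hv', pow_succ', mul_assoc]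
  obtain ⟨e, m, hpm, hm⟩ := Nat.exists_eq_pow_mul_and_not_dvd (orderOf_pos κ).ne' p (Fact.out : p.Prime).one_lt.ne'
  obtain ⟨s, hs⟩ := inn_of_base hS hF (pow_mem hκA m) (k := e) (by
    rw [← pow_mul, mul_comm, ← hm, pow_orderOf_eq_one])
  have h5 : δ ^ m = 1 := by
    have h6 := hit m
    rw [hs, MulAut.conj_apply, Subgroup.mem_center_iff.1 hv s, mul_inv_cancel_right] at h6
    exact left_eq_mul.1 h6
  have h7 : δ ^ p = 1 := by
    have h8 := congrArg Subtype.val (pow_card_eq_one' (x := (⟨δ, hδΦ⟩ : frattini ↥S)))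
    rwa [Subgroup.coe_pow, hΦ] at h8
  have h9 := pow_gcd_eq_one.2 ⟨h5, h7⟩
  rw [Nat.Coprime.gcd_eq_one ((Fact.out : p.Prime).coprime_iff_not_dvd.2 hpm).symm, pow_one] at h9
  rw [hv', h9, mul_one]

/-- The fixed points of the `p`-elements of `Aut_F(E)` are the fixed points of the torus on `Z(S)`. -/
theorem exists_fix_data (hS : IsPGroup p S) (hF : F.IsSaturated p) (hp5 : 5 ≤ p) (hess : F.IsEssential p E)
    (hN : normalizerIn S E = S) (hT : IsTransE F p E) (hbot : phi E = ⊥) (hΦ : Nat.card (frattini ↥S) = p) :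
    rfix F p E ≠ ⊥ ∧ ∃ γ ∈ F.autGroup S, (∀ f ∈ frattini ↥S, γ f = f → f = 1) ∧
      (∀ v ∈ Subgroup.center S, v⁻¹ * γ v ∈ frattini ↥S) ∧
      (∀ v ∈ Subgroup.center S, γ v = v ↔ (v : Ω) ∈ rfix F p E) ∧
      ∀ v : S, (v : Ω) ∈ rfix F p E → v ∈ Subgroup.center S := by
  have hp3 : 3 ≤ p := by omega
  have hES : E ≤ S := hess.2.1.1
  haveI := finite_sub hES
  obtain ⟨t, γ, hγ, ht, ht2, ht3, ht5, ⟨D⟩⟩ := exists_trans_tdata hS hF hp5 hess hN hT
  obtain ⟨V, _, _, _, d, u0, hu, hu1, h2⟩ := hT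
  have hEp := isPGroup_of_le hS hES
  have hphi : phi (E.subgroupOf S) = ⊥ := by
    rw [eq_bot_iff]
    intro y hy
    have h := (mem_phi_subgroupOf hES hS).1 hy
    rw [hbot, Subgroup.mem_bot] at h
    rw [Subgroup.mem_bot]
    exact Subtype.ext h
  have hvinj : ∀ {y y' : Ω}, y ∈ E → y' ∈ E → d.c.v y = d.c.v y' → y = y' := fun hy hy' h => by
    have := (d.c.eq_iff hy hy').1 h
    rw [hbot, Subgroup.mem_bot, inv_mul_eq_one] at this
    exact this
  -- central elements
  have hcen : ∀ v : S, (v : Ω) ∈ rfix F p E → v ∈ Subgroup.center S := fun v hv => by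
    refine Subgroup.mem_center_iff.2 fun s => ?_
    have hsN : (s : Ω) ∈ normalizerIn S E := hN.ge s.2
    have h := (mem_rfix (v := (⟨(v : Ω), rfix_le hv⟩ : E))).1 hv (conjN F hES ⟨s, hsN⟩ : MulAut E) (SetLike.coe_mem _)
      (conjN_pow_eq_one hS hES ⟨s, hsN⟩)
    have h' : (s : Ω) * v * (s : Ω)⁻¹ = v := congrArg Subtype.val h
    exact Subtype.ext (mul_inv_eq_iff_eq_mul.1 h')
  -- a fixed vector
  have hne : rfix F p E ≠ ⊥ := by
    obtain ⟨w, hw, hfix⟩ := exists_fixed hp3 d.card d.emb hu hu1 h2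
    obtain ⟨y, hy, rfl⟩ := d.c.surj w
    intro hbot'
    refine hw ?_
    have hmem : y ∈ rfix F p E := (mem_rfix (v := ⟨y, hy⟩)).2 fun α hα ⟨k, hk⟩ => Subtype.ext <|
      hvinj (SetLike.coe_mem _) hy ((d.rho α ⟨y, hy⟩).symm.trans
        (hfix (Subgroup.zpowers (d.ρ α)) (Subgroup.zpowers_le.2 ⟨α, hα, rfl⟩) (by
          rintro ⟨_, j, rfl⟩
          refine ⟨k, Subtype.ext ?_⟩
          rw [Subgroup.coe_pow, Subgroup.coe_one, ← zpow_natCast, ← zpow_mul, mul_comm, zpow_mul, zpow_natCast,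
            ← map_pow, hk, map_one, one_zpow]) _ (Subgroup.mem_zpowers _)))
    rw [hbot', Subgroup.mem_bot] at hmem
    rw [hmem, d.c.map_one]
  -- it misses `Φ(S)`
  haveI hcyc := isCyclic_of_prime_card (α := frattini ↥S) hΦ
  have hmiss : ∀ f ∈ frattini ↥S, (f : Ω) ∈ rfix F p E → f = 1 := by
    intro f hf hfR
    by_contra hf1
    have hgen : Subgroup.zpowers (⟨f, hf⟩ : frattini ↥S) = ⊤ :=
      zpowers_eq_top_of_prime_card hΦ fun h => hf1 (congrArg Subtype.val h)
    have hΦR : ∀ g ∈ frattini ↥S, (g : Ω) ∈ rfix F p E := fun g hg => by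
      obtain ⟨i, hi⟩ := Subgroup.mem_zpowers_iff.1 (hgen.ge (Subgroup.mem_top (⟨g, hg⟩ : frattini ↥S)))
      rw [← show f ^ i = g from congrArg Subtype.val hi, Subgroup.coe_zpow]
      exact zpow_mem hfR i
    let B : Submodule (ZMod p) V :=
      { carrier := {w | ∃ y ∈ rfix F p E, d.c.v y = w}
        zero_mem' := ⟨1, one_mem _, d.c.map_one⟩
        add_mem' := by
          rintro _ _ ⟨a, ha, rfl⟩ ⟨b, hb, rfl⟩
          exact ⟨a * b, mul_mem ha hb, d.c.map_mul _ (rfix_le ha) _ (rfix_le hb)⟩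
        smul_mem' := by
          rintro s _ ⟨a, ha, rfl⟩
          exact ⟨a ^ s.val, pow_mem ha _, by rw [d.c.map_pow (rfix_le ha), ZMod.natCast_zmod_val]⟩ }
    obtain ⟨α, hα, hαu⟩ := id hu
    obtain ⟨s, hsS, hs⟩ := mem_autInducedBy.1 hα
    have hdd : ∀ v, dd u0 v ∈ B := fun v => by
      obtain ⟨y, hy, rfl⟩ := d.c.surj v
      have hc : s * y * s⁻¹ ∈ E := hs ⟨y, hy⟩ ▸ SetLike.coe_mem (α ⟨y, hy⟩)
      have hmem : y⁻¹ * (s * y * s⁻¹) ∈ rfix F p E := by
        have := hΦR _ (PGroups.commutatorElement_mem_frattini hS (⟨y, hES hy⟩ : S)⁻¹ ⟨s, hsS⟩)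
        simpa [commutatorElement_def, mul_assoc] using this
      refine ⟨_, hmem, ?_⟩
      rw [dd_apply, ← hαu, d.rho α ⟨y, hy⟩, hs, d.c.map_mul _ (E.inv_mem hy) _ hc, d.c.map_inv hy]
      abel
    refine hu1 (Embedded.commute_of_flag hp3 d.emb (A := ⊥) (B := B)
      (fun g _ a ha => by rw [Submodule.mem_bot] at ha ⊢; rw [ha, map_zero]) ?_ (d.emb.leX hu)
      (Units.mem_flag.2 ⟨hdd, fun b hb => ?_, fun a ha => by rw [(Submodule.mem_bot _).1 ha, map_zero]⟩))
    · rintro _ ⟨β, hβ, rfl⟩ _ ⟨y, hy, rfl⟩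
      exact ⟨_, aut_mem_rfix hβ (v := ⟨y, rfix_le hy⟩) hy, (d.rho β ⟨y, rfix_le hy⟩).symm⟩
    · obtain ⟨y, hy, rfl⟩ := hb
      obtain ⟨k, hk⟩ := isPGroup_autInducedBy hS E ⟨α, hα⟩
      rw [Submodule.mem_bot, dd_apply, ← hαu, d.rho α ⟨y, rfix_le hy⟩,
        (mem_rfix (v := ⟨y, rfix_le hy⟩)).1 hy α (autInducedBy_le_autGroup F hES hα) ⟨k, congrArg Subtype.val hk⟩,
        sub_self]
  -- the torus on `Z(S)`
  obtain ⟨U, W, _, _, _, _, _, _, ⟨C⟩⟩ := exists_tcoord hS D
  have h1 : t ^ 2 ≠ t⁻¹ := fun h => ht3 (by rw [pow_succ, h, inv_mul_cancel₀ ht])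
  have hxw := C.xw_zero hS hp3 h1 ht2
  have hz0 : ∀ f ∈ frattini ↥S, ∃ k : ℕ, f = (D.e⁻¹ * D.x * D.e * D.x⁻¹) ^ k := fun f hf => by
    obtain ⟨k, hk⟩ := D.zmem f hf
    rw [hphi, Subgroup.mem_bot, inv_mul_eq_one] at hk
    exact ⟨k, hk.symm⟩
  have hγz : ∀ f ∈ frattini ↥S, γ f = f ^ t.val := by
    intro f hf
    obtain ⟨k, rfl⟩ := hz0 f hf
    set z := D.e⁻¹ * D.x * D.e * D.x⁻¹
    have hzF : z ∈ frattini ↥S := TCoord.comm_mem hS D.e D.x
    suffices h : γ z = z ^ t.val by rw [map_pow, h, ← pow_mul, ← pow_mul, mul_comm]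
    have h1 : (γ z)⁻¹ * z ^ t.val ∈ psi p ↥S := (C.cW.eq_iff (aut_mem_frattini γ hzF) (pow_mem hzF _)).1 (by
      rw [← C.sigma γ z hzF, show C.cW.v z = C.Z from rfl, C.gamma_Z hS hp3 ht, C.cW.map_pow hzF,
        show C.cW.v z = C.Z from rfl, ZMod.natCast_zmod_val])
    have h2 := D.psiE h1
    rw [hphi, Subgroup.mem_bot, inv_mul_eq_one] at h2
    exact h2
  have hfree : ∀ f ∈ frattini ↥S, γ f = f → f = 1 := by
    intro f hf hfix
    by_contra hf1
    have hfp : f ^ p = 1 := by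
      have h8 := congrArg Subtype.val (pow_card_eq_one' (x := (⟨f, hf⟩ : frattini ↥S)))
      rwa [Subgroup.coe_pow, hΦ] at h8
    have h3 := (hγz f hf).symm.trans hfix
    conv_rhs at h3 => rw [← pow_one f]
    rw [pow_eq_pow_iff_modEq, orderOf_eq_prime hfp hf1, ← ZMod.natCast_eq_natCast_iff, ZMod.natCast_zmod_val,
      Nat.cast_one] at h3
    exact ht2 (by rw [h3, one_pow])
  have hcU : ∀ v ∈ Subgroup.center S, ∃ k : ZMod p, C.cU.v v = k • C.W0 := by
    intro v hv
    obtain ⟨i, j, k, h⟩ := C.spanU (C.cU.v v)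
    have hb : ∀ a : S, C.b v a = 0 := fun a => by
      show C.cW.v (v⁻¹ * a * v * a⁻¹) = 0
      rw [mul_assoc v⁻¹ a v, Subgroup.mem_center_iff.1 hv a, inv_mul_cancel_left, mul_inv_cancel, C.cW.map_one]
    have hF0 : C.F = 0 := by
      obtain ⟨a, b, c, hy⟩ := C.phiE_span hS hp3 (y := 1) (one_mem _)
      have hmem : D.e⁻¹ * D.w * D.e * D.w⁻¹ ∈ phi (E.subgroupOf S) := by
        simpa using comm_mem_phi (hS.to_subgroup _) ((E.subgroupOf S).inv_mem D.eE) D.wE
      rw [hphi, Subgroup.mem_bot] at hmem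
      show C.cW.v _ = 0
      rw [hmem, C.cW.map_one]
    have hx : i • C.Z = 0 := by
      have := C.b_of_coords hS hp3 (m := v) (n := D.x) (i' := 0) (j' := 1) (k' := 0) h
        (by rw [zero_smul, one_smul, zero_smul, zero_add, add_zero]; rfl)
      rw [hb, hF0, hxw, smul_zero, smul_zero, add_zero, add_zero] at this
      simpa using this.symm
    have he : j • C.Z = 0 := by
      have := C.b_of_coords hS hp3 (m := v) (n := D.e) (i' := 1) (j' := 0) (k' := 0) h
        (by rw [zero_smul, one_smul, zero_smul, add_zero, add_zero]; rfl)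
      rw [hb, hF0, hxw, smul_zero, smul_zero, add_zero, add_zero] at this
      simpa using this.symm
    refine ⟨k, ?_⟩
    rw [h, (smul_eq_zero.1 hx).resolve_right (C.Z_ne_zero hS hp3),
      (smul_eq_zero.1 he).resolve_right (C.Z_ne_zero hS hp3), zero_smul, zero_smul, zero_add, zero_add]
  have htriv : ∀ v ∈ Subgroup.center S, v⁻¹ * γ v ∈ frattini ↥S := fun v hv => by
    obtain ⟨k, hk⟩ := hcU v hv
    refine (C.cU.eq_iff trivial trivial).1 ?_
    rw [← C.rho, hk, map_smul, C.gamma_W0]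
  refine ⟨hne, γ, hγ, hfree, htriv, fun v hv => ⟨fun hfix => ?_, fun hvR => ?_⟩, hcen⟩
  · obtain ⟨r, hr, hr1⟩ : ∃ r ∈ rfix F p E, r ≠ 1 := by
      by_contra h
      push Not at h
      exact hne ((Subgroup.eq_bot_iff_forall _).2 h)
    set r' : S := ⟨r, hES (rfix_le hr)⟩
    have hr' := hcen r' hr
    have hγr : ∀ y : S, (y : Ω) ∈ rfix F p E → γ y = y := fun y hy => by
      obtain ⟨β, hβ, hβe⟩ := exists_aut_restrict hES hγ fun y hy => D.γE y hy
      have h1 := aut_mem_rfix hβ (v := ⟨y, rfix_le hy⟩) hy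
      rw [hβe] at h1
      have h2 := hmiss _ (htriv y (hcen y hy)) (mul_mem (inv_mem hy) h1)
      exact (inv_mul_eq_one.1 h2).symm
    obtain ⟨k, hk⟩ := hcU v hv
    obtain ⟨k0, hk0⟩ := hcU r' hr'
    have hk00 : k0 ≠ 0 := fun h => by
      rw [h, zero_smul] at hk0
      exact hr1 (congrArg Subtype.val (hmiss r' ((C.cU.mem _ trivial).1 hk0) hr))
    set n := (k / k0).val
    have h3 : (r' ^ n)⁻¹ * v ∈ frattini ↥S := (C.cU.eq_iff trivial trivial).1 (by
      rw [C.cU.map_pow trivial, hk0, hk, ZMod.natCast_zmod_val, smul_smul, div_mul_cancel₀ _ hk00])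
    have h4 := hfree _ h3 (by rw [map_mul, map_inv, map_pow, hγr r' hr, hfix])
    rw [← inv_mul_eq_one.1 h4, Subgroup.coe_pow]
    exact pow_mem hr n
  · obtain ⟨β, hβ, hβe⟩ := exists_aut_restrict hES hγ fun y hy => D.γE y hy
    have h1 := aut_mem_rfix hβ (v := ⟨v, rfix_le hvR⟩) hvR
    rw [hβe] at h1
    exact (inv_mul_eq_one.1 (hmiss _ (htriv v hv) (mul_mem (inv_mem hvR) h1))).symm

/-- The only abelian subgroup of order `p ^ 3` when a Jordan block acts on an elementary abelian essential. -/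
theorem eq_of_abelian (hS : IsPGroup p S) (hF : F.IsSaturated p) (hp5 : 5 ≤ p) (hsr : SectionalPRankLE p 3 ↥S)
    (hess : F.IsEssential p E) (hrk : (frattini ↥E).index = p ^ 3) (hT : ¬ IsTransE F p E) (hbot : phi E = ⊥)
    {A : Subgroup Ω} (hAS : A ≤ S) (hA : Nat.card A = p ^ 3) (hab : ∀ a ∈ A, ∀ b ∈ A, a * b = b * a) : A = E := by
  have hES : E ≤ S := hess.2.1.1
  haveI := finite_sub hES
  haveI := finite_sub hAS
  obtain ⟨hE3, hS4⟩ := card_eq_of_phi_bot hS hF hp5 hsr hess hrk hbot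
  by_contra hne
  obtain ⟨s, hsA, hsE⟩ := SetLike.not_le_iff_exists.1
    fun h : A ≤ E => hne (Subgroup.eq_of_le_of_card_ge h (by rw [hE3, hA]))
  have hsN : s ∈ normalizerIn S E := (normalizerIn_eq hS hF hp5 hsr hess hrk).ge (hAS hsA)
  obtain ⟨V, _, _, _, d, a, z, ha, hzP, hz, hblock⟩ := exists_jordan hS hF hess hrk hT hsN hsE
  have hcube := Embedded.dd_cube_P d.card d.emb hzP
  have hind := Units.indep_jordan z hcube hblock
  set c1 := dd z (dd z (d.c.v a)) with hc1
  have hfix : ∀ v : ↥(A ⊓ E), ∃ k : ZMod p, d.c.v v = k • c1 := by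
    rintro ⟨v, hvA, hvE⟩
    obtain ⟨α, β, γ, h⟩ := hind.span d.card (d.c.v v)
    have h1 : dd z (d.c.v v) = 0 := by
      rw [dd_apply, hz v hvE, show s * v * s⁻¹ = v by rw [hab s hsA v hvA, mul_inv_cancel_right], sub_self]
    rw [h] at h1
    simp only [map_add, map_smul, hc1, hcube, smul_zero, add_zero] at h1
    obtain ⟨-, rfl, rfl⟩ := hind 0 α β (by rw [zero_smul, zero_add]; exact h1)
    exact ⟨γ, by rw [h]; simp⟩
  choose k hk using hfix
  have hinj : Function.Injective k := fun v w h => by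
    have h1 := (d.c.eq_iff v.2.2 w.2.2).1 (by rw [hk, hk, h])
    rw [hbot, Subgroup.mem_bot, inv_mul_eq_one] at h1
    exact Subtype.ext h1
  have h2 := Nat.card_le_card_of_injective k hinj
  rw [Nat.card_zmod] at h2
  have h3 : p ^ 2 ≤ Nat.card ↥(A ⊓ E) := by
    have hA' : (A.subgroupOf S).index = p := by
      have h4 := (A.subgroupOf S).card_mul_index
      rw [Nat.card_congr (Subgroup.subgroupOfEquivOfLe hAS).toEquiv, hA, hS4, pow_succ p 3] at h4
      exact Nat.eq_of_mul_eq_mul_left (pow_pos (Fact.out : p.Prime).pos 3) h4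
    have h5 : ((A ⊓ E).subgroupOf S).index ≤ p * p := by
      rw [show (A ⊓ E).subgroupOf S = A.subgroupOf S ⊓ E.subgroupOf S from Subgroup.comap_inf _ _ _]
      refine (Subgroup.index_inf_le).trans ?_
      rw [hA', index_eq hS hF hp5 hsr hess hrk]
    have h6 := ((A ⊓ E).subgroupOf S).card_mul_index
    rw [Nat.card_congr (Subgroup.subgroupOfEquivOfLe (inf_le_left.trans hAS)).toEquiv, hS4] at h6
    by_contra h7
    have h8 : Nat.card ↥(A ⊓ E) * ((A ⊓ E).subgroupOf S).index < p ^ 2 * (p * p) :=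
      (Nat.mul_le_mul_left _ h5).trans_lt (Nat.mul_lt_mul_of_pos_right (not_le.1 h7)
        (Nat.mul_pos (Fact.out : p.Prime).pos (Fact.out : p.Prime).pos))
    rw [h6, show p ^ 2 * (p * p) = p ^ 4 by ring] at h8
    exact lt_irrefl _ h8
  nlinarith [(Fact.out : p.Prime).two_le]

/-- A pearl exists when the core is trivial. -/
theorem exists_pearl (hS : IsPGroup p S) (hF : F.IsSaturated p) (hp5 : 5 ≤ p) (hsr : SectionalPRankLE p 3 ↥S)
    (hSne : S ≠ ⊥) (hO : F.core = ⊥) : ∃ E, F.IsEssential p E ∧ IsPearl p E := by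
  have hp : p.Prime := Fact.out
  have hp3 : 3 ≤ p := by omega
  by_contra hno
  push Not at hno
  have hcases : ∀ E, F.IsEssential p E → TypeA S p E ∨ (frattini ↥E).index = p ^ 3 := by
    intro E hE
    haveI := finite_sub hE.2.1.1
    obtain ⟨j, hj⟩ := (isPGroup_of_le hS hE.2.1.1).index (frattini ↥E)
    have hle := index_le hS hsr hE
    rw [hj, Nat.pow_le_pow_iff_right hp.one_lt] at hle
    rcases eq_or_lt_of_le hle with rfl | hlt
    · exact Or.inr hj
    · exact Or.inl ((pearl_or_typeA hS hF hp5 hsr hE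
        (hj ▸ Nat.pow_le_pow_right hp.pos (Nat.le_of_lt_succ hlt))).resolve_left (hno E hE))
  by_cases hA : ∃ E0, F.IsEssential p E0 ∧ TypeA S p E0
  · obtain ⟨E0, hE0, hA0⟩ := hA
    have hall : ∀ M, F.IsEssential p M → TypeA S p M := by
      intro M hM
      rcases hcases M hM with h | hrk
      · exact h
      by_cases he : M = E0
      · exact he ▸ hA0
      exfalso
      haveI := finite_sub hM.2.1.1
      haveI := finite_sub hE0.2.1.1
      have hN := normalizerIn_eq hS hF hp5 hsr hM hrk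
      obtain ⟨a, b, hgen⟩ := hA0.gen
      by_cases hT : IsTransE F p M
      · obtain ⟨t, γ, -, -, -, -, -, ⟨D⟩⟩ := exists_trans_tdata hS hF hp5 hM hN hT
        obtain ⟨U, W, _, _, _, _, _, _, ⟨C⟩⟩ := exists_tcoord hS D
        have ha : a ∈ S := hgen.ge (Subgroup.subset_closure (by simp))
        have hb : b ∈ S := hgen.ge (Subgroup.subset_closure (by simp))
        set va := C.cU.v ⟨a, ha⟩
        set vb := C.cU.v ⟨b, hb⟩
        have hsurj : Function.Surjective (fun s : ZMod p × ZMod p => s.1 • va + s.2 • vb) := by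
          intro v
          obtain ⟨n, -, rfl⟩ := C.cU.surj v
          have key : ∀ y ∈ S, ∃ hy : y ∈ S, ∃ i j : ZMod p, C.cU.v ⟨y, hy⟩ = i • va + j • vb := by
            intro y hy
            rw [hgen] at hy
            induction hy using Subgroup.closure_induction with
            | mem x hx =>
              rcases hx with rfl | rfl
              · exact ⟨ha, 1, 0, by rw [one_smul, zero_smul, add_zero]⟩
              · exact ⟨hb, 0, 1, by rw [one_smul, zero_smul, zero_add]⟩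
            | one => exact ⟨one_mem _, 0, 0, by rw [zero_smul, zero_smul, add_zero]; exact C.cU.map_one⟩
            | mul x y _ _ hx hy =>
              obtain ⟨hx, i, j, h⟩ := hx
              obtain ⟨hy, i', j', h'⟩ := hy
              refine ⟨mul_mem hx hy, i + i', j + j', ?_⟩
              rw [show (⟨x * y, mul_mem hx hy⟩ : S) = ⟨x, hx⟩ * ⟨y, hy⟩ from rfl,
                C.cU.map_mul _ trivial _ trivial, h, h']
              module
            | inv x _ hx =>
              obtain ⟨hx, i, j, h⟩ := hx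
              refine ⟨inv_mem hx, -i, -j, ?_⟩
              rw [show (⟨x⁻¹, inv_mem hx⟩ : S) = (⟨x, hx⟩ : S)⁻¹ from rfl, C.cU.map_inv trivial, h]
              module
          obtain ⟨_, i, j, h⟩ := key n n.2
          exact ⟨(i, j), h.symm⟩
        have h1 := Nat.card_le_card_of_surjective _ hsurj
        rw [C.card_U, Nat.card_prod, Nat.card_zmod, ← sq, Nat.pow_le_pow_iff_right hp.one_lt] at h1
        omega
      · obtain ⟨y, hy, hyM⟩ : ∃ y ∈ E0, y ∉ M := by
          refine SetLike.not_le_iff_exists.1 fun hle => ?_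
          have h1 := hA0.max M hle hM.2.1.1 he
          have h2 := index_eq hS hF hp5 hsr hM hrk
          rw [h1, Subgroup.subgroupOf_self, Subgroup.index_top] at h2
          exact hp.one_lt.ne h2
        have hyN : y ∈ normalizerIn S M := hN.ge (hE0.2.1.1 hy)
        obtain ⟨V, _, _, _, d, a', z, ha', hzP, hz, hblock⟩ := exists_jordan hS hF hM hrk hT hyN hyM
        have hbot := phi_eq_bot_of_jordan hS hp5 hsr hM d ha' hyN hyM (hA0.expE y hy) hzP hz hblock
        obtain ⟨-, hS4⟩ := card_eq_of_phi_bot hS hF hp5 hsr hM hrk hbot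
        have h5 := hA0.big
        rw [hS4, Nat.pow_le_pow_iff_right hp.one_lt] at h5
        omega
    haveI := finite_sub hE0.2.1.1
    refine core_ne_bot hS hF (R := S.lowerCentralSeries 3) ?_ ?_ ?_ ?_ hO
    · rw [hA0.lcs, Ne, Subgroup.map_eq_bot_iff_of_injective _ E0.subtype_injective]
      exact hA0.ne_bot
    · exact hA0.lcs.le.trans ((Subgroup.map_subtype_le _).trans hE0.2.1.1)
    · intro α hα v hv
      obtain ⟨φ, hφ, -, hφα⟩ := exists_hom_of_aut le_rfl hα
      rw [← hφα]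
      exact FusionEssential.PClosed.hom_base_mem_series hφ v hv
    · intro E hE
      haveI := finite_sub hE.2.1.1
      rw [(hall E hE).lcs]
      refine ⟨Subgroup.map_subtype_le _, fun α _ v hv => ?_⟩
      obtain ⟨w, hw, he⟩ := hv
      rw [show w = v from Subtype.ext he] at hw
      exact ⟨α v, aut_mem_psi α hw, rfl⟩
  push Not at hA
  have hrank : ∀ E, F.IsEssential p E → (frattini ↥E).index = p ^ 3 := fun E hE =>
    (hcases E hE).resolve_left (hA E hE)
  by_cases hT : ∃ E0, F.IsEssential p E0 ∧ IsTransE F p E0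
  · obtain ⟨E0, hE0, hT0⟩ := hT
    haveI := finite_sub hE0.2.1.1
    have hN0 := normalizerIn_eq hS hF hp5 hsr hE0 (hrank E0 hE0)
    obtain ⟨t, γ0, -, ht, ht2, ht3, -, ⟨D0⟩⟩ := exists_trans_tdata hS hF hp5 hE0 hN0 hT0
    obtain ⟨U, W, _, _, _, _, _, _, ⟨C0⟩⟩ := exists_tcoord hS D0
    have hgood0 := good_of_essential hS hF hp5 hsr hE0 (hrank E0 hE0)
    have hphi : ∀ M, F.IsEssential p M → phi M = phi E0 := by
      intro M hM
      have h := phi_eq_of_good C0 hS hp3 hsr ht ht2 ht3 hgood0 (good_of_essential hS hF hp5 hsr hM (hrank M hM))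
      rw [phi_subgroupOf_eq hS hF hp5 hsr hM (hrank M hM), phi_subgroupOf_eq hS hF hp5 hsr hE0 (hrank E0 hE0)] at h
      have h' := congrArg (Subgroup.map S.subtype) h
      rwa [Subgroup.map_subgroupOf_eq_of_le ((phi_le M).trans hM.2.1.1),
        Subgroup.map_subgroupOf_eq_of_le ((phi_le E0).trans hE0.2.1.1)] at h'
    by_cases hne : phi E0 = ⊥
    swap
    · refine core_ne_bot hS hF (R := phi E0) hne ((phi_le E0).trans hE0.2.1.1) ?_ ?_ hO
      · intro α _ v hv
        have h1 : α v ∈ phi ((E0.subgroupOf S).map α.toMonoidHom) := by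
          rw [phi_map hS α]
          exact ⟨v, (mem_phi_subgroupOf hE0.2.1.1 hS).2 hv, rfl⟩
        rw [phi_eq_of_good C0 hS hp3 hsr ht ht2 ht3 hgood0 (hgood0.map hS α)] at h1
        exact (mem_phi_subgroupOf hE0.2.1.1 hS).1 h1
      · intro E hE
        rw [← hphi E hE]
        exact ⟨phi_le E, fun α _ v hv => mem_phi.2 (aut_mem_frattini α (mem_phi.1 hv))⟩
    have hS4 := (card_eq_of_phi_bot hS hF hp5 hsr hE0 (hrank E0 hE0) hne).2
    have hΦ : Nat.card (frattini ↥S) = p := by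
      have h := (frattini ↥S).card_mul_index
      rw [frattini_index C0, hS4, pow_succ' p 3] at h
      exact Nat.eq_of_mul_eq_mul_right (pow_pos hp.pos 3) h
    have hallT : ∀ M, F.IsEssential p M → IsTransE F p M := by
      intro M hM
      by_contra hTM
      have hMS := hM.2.1.1
      haveI := finite_sub hMS
      have hN := normalizerIn_eq hS hF hp5 hsr hM (hrank M hM)
      obtain ⟨⟨x, hx⟩, hxM⟩ := Resistant67.exists_normalizer_not_mem hS hF hM
      obtain ⟨V, _, _, _, d, a, z, ha, hzP, hz, hblock⟩ := exists_jordan hS hF hM (hrank M hM) hTM hx hxM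
      have hcube := Embedded.dd_cube_P d.card d.emb hzP
      have hind := Units.indep_jordan z hcube hblock
      have hdd : ∀ y ∈ M, dd z (d.c.v y) = d.c.v (y⁻¹ * (x * y * x⁻¹)) := fun y hy => by
        rw [dd_apply, hz y hy, d.c.map_mul _ (M.inv_mem hy) _ (conj_mem_of_normalizer hx.2 hy), d.c.map_inv hy]; abel
      have hstep : ∀ y ∈ M, y⁻¹ * (x * y * x⁻¹) ∈ M := fun y hy =>
        M.mul_mem (M.inv_mem hy) (conj_mem_of_normalizer hx.2 hy)
      have hfr : ∀ (y : Ω) (hy : y ∈ M), ∃ h : y⁻¹ * (x * y * x⁻¹) ∈ S,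
          (⟨_, h⟩ : S) ∈ frattini ↥S := fun y hy => by
        refine ⟨hMS (hstep y hy), ?_⟩
        have := PGroups.commutatorElement_mem_frattini hS (⟨y, hMS hy⟩ : S)⁻¹ ⟨x, hx.1⟩
        convert this using 1
        exact Subtype.ext (by simp [commutatorElement_def, mul_assoc])
      set e2 := a⁻¹ * (x * a * x⁻¹) with he2
      set e1 := e2⁻¹ * (x * e2 * x⁻¹) with he1
      have he2M : e2 ∈ M := hstep a ha
      have he1M : e1 ∈ M := hstep e2 he2M
      obtain ⟨h2S, h2F⟩ := hfr a ha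
      obtain ⟨h1S, h1F⟩ := hfr e2 he2M
      have hv2 : d.c.v e2 = dd z (d.c.v a) := (hdd a ha).symm
      have hv1 : d.c.v e1 = dd z (dd z (d.c.v a)) := by rw [← hv2, ← hdd e2 he2M]
      have hne2 : (⟨⟨e2, h2S⟩, h2F⟩ : frattini ↥S) ≠ 1 := fun h => hblock (by
        have : e2 = 1 := congrArg (fun v : frattini ↥S => ((v : S) : Ω)) h
        rw [← hv2, this, d.c.map_one, map_zero])
      obtain ⟨i, hi⟩ := Subgroup.mem_zpowers_iff.1
        ((zpowers_eq_top_of_prime_card hΦ hne2).ge (Subgroup.mem_top (⟨⟨e1, h1S⟩, h1F⟩ : frattini ↥S)))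
      have hi' : e2 ^ i = e1 := congrArg (fun v : frattini ↥S => ((v : S) : Ω)) hi
      obtain ⟨-, -, h⟩ := hind 0 (-(i : ZMod p)) 1 (by
        rw [← hv1, ← hv2, ← hi', d.c.map_zpow he2M]; module)
      exact one_ne_zero h
    have hdata := fun M hM => exists_fix_data hS hF hp5 hM (normalizerIn_eq hS hF hp5 hsr hM (hrank M hM))
      (hallT M hM) (hphi M hM ▸ hne : phi M = ⊥) hΦ
    obtain ⟨hne0, γ, hγ, hfree, htriv, hiff, hcen⟩ := hdata E0 hE0
    have hcenφ : ∀ φ : MulAut S, ∀ v ∈ Subgroup.center S, φ v ∈ Subgroup.center S := fun φ v hv =>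
      Subgroup.mem_center_iff.2 fun g => by
        obtain ⟨g, rfl⟩ := φ.surjective g
        rw [← map_mul, ← map_mul, Subgroup.mem_center_iff.1 hv g]
    refine core_ne_bot hS hF (R := rfix F p E0) hne0 (rfix_le.trans hE0.2.1.1) ?_ ?_ hO
    · intro φ hφ v hv
      refine (hiff _ (hcenφ φ v (hcen v hv))).1 ?_
      rw [commute_on_center hS hF hΦ hφ hγ htriv (hcen v hv), (hiff v (hcen v hv)).2 hv]
    · intro M hM
      obtain ⟨-, γM, hγM, hfreeM, htrivM, hiffM, hcenM⟩ := hdata M hM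
      have heq : rfix F p M = rfix F p E0 := by
        refine le_antisymm (fun w hw => ?_) fun w hw => ?_
        · set v : S := ⟨w, hM.2.1.1 (rfix_le hw)⟩
          have hv : v ∈ Subgroup.center S := hcenM v hw
          have h1 : γM (γ v) = γ v := by
            rw [commute_on_center hS hF hΦ hγ hγM htrivM hv, (hiffM v hv).2 hw]
          have h3 : γM (v⁻¹ * γ v) = v⁻¹ * γ v := by rw [map_mul, map_inv, h1, (hiffM v hv).2 hw]
          exact (hiff v hv).1 (inv_mul_eq_one.1 (hfreeM _ (htriv v hv) h3)).symm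
        · set v : S := ⟨w, hE0.2.1.1 (rfix_le hw)⟩
          have hv : v ∈ Subgroup.center S := hcen v hw
          have h1 : γ (γM v) = γM v := by
            rw [commute_on_center hS hF hΦ hγM hγ htriv hv, (hiff v hv).2 hw]
          have h3 : γ (v⁻¹ * γM v) = v⁻¹ * γM v := by rw [map_mul, map_inv, h1, (hiff v hv).2 hw]
          exact (hiffM v hv).1 (inv_mul_eq_one.1 (hfree _ (htrivM v hv) h3)).symm
      rw [← heq]
      exact ⟨rfix_le, fun α hα v hv => aut_mem_rfix hα hv⟩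
  push Not at hT
  by_cases hOm : ∀ E, F.IsEssential p E → ∀ v ∈ S, v ^ p = 1 → v ∈ E
  · set R := Subgroup.closure {v | v ∈ S ∧ v ^ p = 1} with hR
    have hRS : R ≤ S := (Subgroup.closure_le _).2 fun v hv => hv.1
    have hinv : ∀ P : Subgroup Ω, P ≤ S → R ≤ P → ∀ α : MulAut P, ∀ v : P, (v : Ω) ∈ R → ((α v : P) : Ω) ∈ R := by
      intro P hPS hRP α v hv
      have hle : R ≤ ((R.comap P.subtype).comap α.toMonoidHom).map P.subtype := by
        rw [hR, Subgroup.closure_le]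
        rintro w ⟨hwS, hwp⟩
        have hwP : w ∈ P := hRP (Subgroup.subset_closure ⟨hwS, hwp⟩)
        refine ⟨⟨w, hwP⟩, Subgroup.subset_closure ⟨hPS (SetLike.coe_mem _), ?_⟩, rfl⟩
        show ((α ⟨w, hwP⟩ : P) : Ω) ^ p = 1
        rw [← Subgroup.coe_pow, ← map_pow, show (⟨w, hwP⟩ : P) ^ p = 1 from Subtype.ext hwp, map_one]
        rfl
      obtain ⟨v', hv', he⟩ := hle hv
      rwa [show v' = v from Subtype.ext he] at hv'
    refine core_ne_bot hS hF (R := R) ?_ hRS (fun α _ => hinv S le_rfl hRS α) (fun E hE => ?_) hO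
    · obtain ⟨k, hk⟩ := IsPGroup.iff_card.1 hS
      have hk0 : k ≠ 0 := fun h => hSne (Subgroup.eq_bot_of_card_eq S (by rw [hk, h, pow_zero]))
      obtain ⟨g, hg⟩ := exists_prime_orderOf_dvd_card' (G := S) p (hk ▸ dvd_pow_self p hk0)
      intro hbot
      have h1 : (g : Ω) ∈ R := Subgroup.subset_closure ⟨g.2, by
        rw [← Subgroup.coe_pow, ← hg, pow_orderOf_eq_one]; rfl⟩
      rw [hbot, Subgroup.mem_bot] at h1
      rw [show g = 1 from Subtype.ext h1, orderOf_one] at hg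
      exact hp.one_lt.ne hg
    · have hRE : R ≤ E := (Subgroup.closure_le _).2 fun v hv => hOm E hE v hv.1 hv.2
      exact ⟨hRE, fun α _ => hinv E hE.2.1.1 hRE α⟩
  push Not at hOm
  obtain ⟨E, hE, x, hxS, hxp, hxE⟩ := hOm
  have hES := hE.2.1.1
  haveI := finite_sub hES
  have hphi : ∀ M, F.IsEssential p M → ∀ y ∈ S, y ∉ M → y ^ p = 1 → phi M = ⊥ := by
    intro M hM y hyS hyM hyp
    have hyN : y ∈ normalizerIn S M := (normalizerIn_eq hS hF hp5 hsr hM (hrank M hM)).ge hyS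
    obtain ⟨V, _, _, _, d, a, z, ha, hzP, hz, hblock⟩ := exists_jordan hS hF hM (hrank M hM) (hT M hM) hyN hyM
    exact phi_eq_bot_of_jordan hS hp5 hsr hM d ha hyN hyM hyp hzP hz hblock
  have hbotE := hphi E hE x hxS hxE hxp
  obtain ⟨hE3, hS4⟩ := card_eq_of_phi_bot hS hF hp5 hsr hE (hrank E hE) hbotE
  have hEp := isPGroup_of_le hS hES
  have hab : ∀ a ∈ E, ∀ b ∈ E, a * b = b * a := fun a ha b hb => by
    have := comm_mem_phi hEp ha hb
    rw [hbotE, Subgroup.mem_bot, mul_inv_eq_one, mul_inv_eq_iff_eq_mul] at this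
    exact this
  have hexp : ∀ a ∈ E, a ^ p = 1 := fun a ha => by
    have := pow_mem_phi hEp ha
    rwa [hbotE, Subgroup.mem_bot] at this
  have huniq : ∀ M, F.IsEssential p M → M = E := by
    intro M hM
    haveI := finite_sub hM.2.1.1
    by_cases hc : ∀ v ∈ S, v ^ p = 1 → v ∈ M
    · have hMi := index_eq hS hF hp5 hsr hM (hrank M hM)
      have h1 := (M.subgroupOf S).card_mul_index
      rw [hMi, Nat.card_congr (Subgroup.subgroupOfEquivOfLe hM.2.1.1).toEquiv, hS4, pow_succ p 3] at h1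
      exact (Subgroup.eq_of_le_of_card_ge (fun v hv => hc v (hES hv) (hexp v hv))
        (by rw [Nat.eq_of_mul_eq_mul_right hp.pos h1, hE3])).symm
    · push Not at hc
      obtain ⟨y, hyS, hyp, hyM⟩ := hc
      have hb := hphi M hM y hyS hyM hyp
      refine eq_of_abelian hS hF hp5 hsr hE (hrank E hE) (hT E hE) hbotE hM.2.1.1
        (card_eq_of_phi_bot hS hF hp5 hsr hM (hrank M hM) hb).1 fun a ha b hb' => ?_
      have := comm_mem_phi (isPGroup_of_le hS hM.2.1.1) ha hb'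
      rw [hb, Subgroup.mem_bot, mul_inv_eq_one, mul_inv_eq_iff_eq_mul] at this
      exact this
  refine core_ne_bot hS hF (R := E) (fun h => ?_) hES (fun α _ v hv => ?_) (fun M hM => ?_) hO
  · rw [(Subgroup.eq_bot_iff_card E).1 h] at hE3
    exact absurd hE3.symm (Nat.one_lt_pow three_ne_zero hp.one_lt).ne'
  · have h1 : (((E.subgroupOf S).map α.toMonoidHom).map S.subtype) = E := by
      refine eq_of_abelian hS hF hp5 hsr hE (hrank E hE) (hT E hE) hbotE (Subgroup.map_subtype_le _) ?_ ?_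
      · rw [Subgroup.card_map_of_injective S.subtype_injective,
          Subgroup.card_map_of_injective (f := α.toMonoidHom) α.injective,
          Nat.card_congr (Subgroup.subgroupOfEquivOfLe hES).toEquiv, hE3]
      · rintro _ ⟨_, ⟨a, ha, rfl⟩, rfl⟩ _ ⟨_, ⟨b, hb, rfl⟩, rfl⟩
        show ((α a : S) : Ω) * (α b : S) = (α b : S) * (α a : S)
        rw [← Subgroup.coe_mul, ← Subgroup.coe_mul, ← map_mul, ← map_mul,
          show a * b = b * a from Subtype.ext (hab a ha b hb)]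
    exact h1.le ⟨α v, ⟨v, Subgroup.mem_subgroupOf.2 hv, rfl⟩, rfl⟩
  · rw [huniq M hM]
    exact ⟨le_rfl, fun α _ v _ => SetLike.coe_mem _⟩

end Cfsg.Agent.Lib.SectionalThree
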