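import Cfsg.Agent.Lib.EssentialRankThree.Automizer

/-!
# Orbits on maximal subgroups of a `3`-group on at most three generators

A group of automorphisms, with inner elements as its `3`-elements, moving a maximal subgroup moves it to
another one with the same stabilizer.
-/

set_option autoImplicit false
set_option linter.style.haveILetI false
set_option linter.unusedSectionVars false
set_option maxHeartbeats 800000

namespace Cfsg.Agent.Lib.SectionalThree.Orbit

open Cfsg Cfsg.Agent.Lib Cfsg.Agent.Lib.EssentialRankThree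
open Cfsg.Agent.Lib.Resistant67 (aut_mem_frattini)
open Cfsg.Agent.Lib.EssentialRankThree.Units (GV)

universe u

theorem zmod_three : ∀ a : ZMod 3, a = 0 ∨ a = 1 ∨ a = -1 := by decide

theorem zmod_three_neg : ∀ a : ZMod 3, a = -a → a = 0 := by decide

variable [Fact (Nat.Prime 3)] {G : Type u} [Group G]

section Count

variable {V : Type u} [AddCommGroup V] [Module (ZMod 3) V] [Finite V] {N : Subgroup G}

/-- The kernel of a functional, in the group. -/
def kerSub (c : Coord 3 (⊤ : Subgroup G) N V) (f : Module.Dual (ZMod 3) V) : Subgroup G where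
  carrier := {x | f (c.v x) = 0}
  one_mem' := by show f (c.v 1) = 0; rw [c.map_one, map_zero]
  mul_mem' := fun {x y} hx hy => by
    show f (c.v (x * y)) = 0
    rw [c.map_mul x trivial y trivial, map_add, show f (c.v x) = 0 from hx, show f (c.v y) = 0 from hy, add_zero]
  inv_mem' := fun {x} hx => by
    show f (c.v x⁻¹) = 0
    rw [c.map_inv trivial, map_neg, show f (c.v x) = 0 from hx, neg_zero]

theorem mem_kerSub {c : Coord 3 (⊤ : Subgroup G) N V} {f : Module.Dual (ZMod 3) V} {x : G} :
    x ∈ kerSub c f ↔ f (c.v x) = 0 := Iff.rfl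

variable (c : Coord 3 (⊤ : Subgroup G) N V)

theorem index_kerSub {f : Module.Dual (ZMod 3) V} (hf : f ≠ 0) : (kerSub c f).index = 3 := by
  let θ : G →* Multiplicative (ZMod 3) :=
    MonoidHom.mk' (fun x => Multiplicative.ofAdd (f (c.v x))) fun x y => by
      rw [c.map_mul x trivial y trivial, map_add, ofAdd_add]
  have hk : θ.ker = kerSub c f := by
    ext x
    exact ⟨fun h => Multiplicative.ofAdd.injective h, fun h => congrArg Multiplicative.ofAdd h⟩
  have hsurj : Function.Surjective θ := by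
    intro a
    obtain ⟨v, hv⟩ := LinearMap.surjective hf a.toAdd
    obtain ⟨x, -, rfl⟩ := c.surj v
    exact ⟨x, by show Multiplicative.ofAdd (f (c.v x)) = a; rw [hv]; rfl⟩
  rw [← hk, Subgroup.index_ker, MonoidHom.range_eq_top.2 hsurj, Subgroup.card_top,
    Nat.card_congr Multiplicative.toAdd, Nat.card_zmod]

theorem exists_kerSub [Finite G] {M : Subgroup G} (hM : M.index = 3) (hNM : N ≤ M) :
    ∃ f : Module.Dual (ZMod 3) V, f ≠ 0 ∧ kerSub c f = M := by
  let W : Submodule (ZMod 3) V :=
    { carrier := {w | ∃ x ∈ M, c.v x = w}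
      zero_mem' := ⟨1, one_mem _, c.map_one⟩
      add_mem' := by
        rintro _ _ ⟨a, ha, rfl⟩ ⟨b, hb, rfl⟩
        exact ⟨a * b, mul_mem ha hb, c.map_mul a trivial b trivial⟩
      smul_mem' := by
        rintro s _ ⟨a, ha, rfl⟩
        exact ⟨a ^ s.val, pow_mem ha _, by rw [c.map_pow trivial, ZMod.natCast_zmod_val]⟩ }
  have hW : W < ⊤ := by
    refine lt_top_iff_ne_top.2 fun h => ?_
    have hMtop : M = ⊤ := eq_top_iff.2 fun g _ => by
      obtain ⟨m, hm, hmv⟩ := h.ge (Submodule.mem_top (x := c.v g))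
      simpa using M.mul_mem hm (hNM ((c.eq_iff trivial trivial).1 hmv))
    rw [hMtop, Subgroup.index_top] at hM
    omega
  obtain ⟨f, hf, hle⟩ := W.exists_le_ker_of_lt_top hW
  refine ⟨f, hf, ?_⟩
  have hle' : M ≤ kerSub c f := fun x hx => hle ⟨x, hx, rfl⟩
  refine (Subgroup.eq_of_le_of_card_ge hle' (le_of_eq ?_)).symm
  have h1 := M.card_mul_index
  rw [← (kerSub c f).card_mul_index, hM, index_kerSub c hf] at h1
  omega

theorem eq_or_neg_of_kerSub {f g : Module.Dual (ZMod 3) V} (hf : f ≠ 0) (hg : g ≠ 0)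
    (h : kerSub c f = kerSub c g) : g = f ∨ g = -f := by
  obtain ⟨v, hv⟩ := LinearMap.surjective hf 1
  have hker : ∀ u, f u = 0 → g u = 0 := fun u hu => by
    obtain ⟨x, -, rfl⟩ := c.surj u
    exact (mem_kerSub (c := c) (f := g)).1 (h ▸ mem_kerSub.2 hu)
  have hga : ∀ u, g u = g v * f u := fun u => by
    have := hker (u - f u • v) (by rw [map_sub, map_smul, hv, smul_eq_mul, mul_one, sub_self])
    rw [map_sub, map_smul, smul_eq_mul, sub_eq_zero] at this
    rw [this, mul_comm]
  rcases zmod_three (g v) with h0 | h0 | h0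
  · exact absurd (LinearMap.ext fun u => by rw [hga, h0, zero_mul]; rfl) hg
  · exact Or.inl (LinearMap.ext fun u => by rw [hga, h0, one_mul])
  · exact Or.inr (LinearMap.ext fun u => by rw [hga, h0, neg_one_mul]; rfl)

include c in
/-- The number of subgroups of index three over `N`. -/
theorem two_mul_card_max [Finite G] :
    2 * Nat.card {M : Subgroup G // M.index = 3 ∧ N ≤ M} + 1 = Nat.card V := by
  classical
  choose f hf hfM using fun M : {M : Subgroup G // M.index = 3 ∧ N ≤ M} => exists_kerSub c M.2.1 M.2.2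
  have hD : Nat.card (Module.Dual (ZMod 3) V) = Nat.card V :=
    (Nat.card_congr (Module.finBasis (ZMod 3) V).toDualEquiv.toEquiv).symm
  have hne : ∀ g : Module.Dual (ZMod 3) V, g ≠ 0 → g ≠ -g := fun g hg h => hg (LinearMap.ext fun u => by
    have h' : g u = -g u := congrArg (fun l : Module.Dual (ZMod 3) V => l u) h
    exact zmod_three_neg _ h')
  let ψ : {M : Subgroup G // M.index = 3 ∧ N ≤ M} × Bool → {g : Module.Dual (ZMod 3) V // g ≠ 0} := fun z =>
    ⟨if z.2 then f z.1 else -f z.1, by split <;> simp [hf]⟩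
  have hker : ∀ M b, kerSub c (ψ (M, b)).1 = M.1 := fun M b => by
    cases b
    · exact (Subgroup.ext fun x => by
        show (-f M) (c.v x) = 0 ↔ _
        rw [LinearMap.neg_apply, neg_eq_zero, ← mem_kerSub (c := c), hfM])
    · exact hfM M
  have hb : Function.Bijective ψ := by
    refine ⟨?_, fun g => ?_⟩
    · rintro ⟨M, b⟩ ⟨M', b'⟩ h
      have hM : M = M' := Subtype.ext (by rw [← hker M b, h, hker])
      subst hM
      have h' := congrArg Subtype.val h
      cases b <;> cases b'
      · rfl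
      · exact absurd h'.symm (hne _ (hf M))
      · exact absurd h' (hne _ (hf M))
      · rfl
    · set M : {M : Subgroup G // M.index = 3 ∧ N ≤ M} := ⟨kerSub c g.1, index_kerSub c g.2, fun x hx => by
        show g.1 (c.v x) = 0
        rw [(c.mem x trivial).2 hx, map_zero]⟩
      rcases eq_or_neg_of_kerSub c (hf M) g.2 (hfM M) with h | h
      · exact ⟨(M, true), Subtype.ext h.symm⟩
      · exact ⟨(M, false), Subtype.ext h.symm⟩
  have h1 := Nat.card_congr (Equiv.ofBijective ψ hb)
  rw [Nat.card_prod, Nat.card_eq_fintype_card (α := Bool), Fintype.card_bool] at h1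
  have h2 : Nat.card {g : Module.Dual (ZMod 3) V // g ≠ 0} + 1 = Nat.card (Module.Dual (ZMod 3) V) := by
    haveI : Finite (Module.Dual (ZMod 3) V) := Finite.of_injective _ DFunLike.coe_injective
    haveI : Fintype (Module.Dual (ZMod 3) V) := Fintype.ofFinite _
    rw [Nat.card_eq_fintype_card, Nat.card_eq_fintype_card, Fintype.card_subtype_compl, Fintype.card_subtype_eq]
    exact Nat.succ_pred_eq_of_pos Fintype.card_pos
  rw [← hD, ← h2, ← h1, mul_comm]

theorem card_gv_dvd (h : Nat.card V ≤ 27) : Nat.card (GV 3 V) ∣ 11232 := by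
  haveI : Fintype V := Fintype.ofFinite V
  have hn : Module.finrank (ZMod 3) V ≤ 3 := by
    rw [Nat.card_eq_fintype_card, Module.card_eq_pow_finrank (K := ZMod 3), ZMod.card] at h
    exact (Nat.pow_le_pow_iff_right (a := 3) (by norm_num)).1 (h.trans (by norm_num))
  have h1 : Nat.card (GV 3 V) = Nat.card (Matrix.GeneralLinearGroup (Fin (Module.finrank (ZMod 3) V)) (ZMod 3)) :=
    Nat.card_congr (_root_.Units.mapEquiv (algEquivMatrix (Module.finBasis (ZMod 3) V)).toMulEquiv).toEquiv
  rw [h1, Matrix.card_GL_field, ZMod.card]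
  rcases (show Module.finrank (ZMod 3) V = 0 ∨ Module.finrank (ZMod 3) V = 1 ∨ Module.finrank (ZMod 3) V = 2 ∨
    Module.finrank (ZMod 3) V = 3 by omega) with h | h | h | h <;> rw [h] <;> decide

end Count

variable [Finite G]

theorem exists_coord_top (hG : IsPGroup 3 G) (N : Subgroup G) (hN : frattini G ≤ N) :
    ∃ (V : Type u) (_ : AddCommGroup V) (_ : Module (ZMod 3) V) (_ : Finite V) (_ : Coord 3 (⊤ : Subgroup G) N V),
      Nat.card V = N.index := by
  have hn := Resistant67.normal_of_frattini_le hG hN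
  obtain ⟨V, i1, i2, i3, c, hV⟩ := exists_coord (p := 3) (⊤ : Subgroup G) N le_top
    (fun a _ b hb => hn.conj_mem b hb a)
    (fun a _ b _ => hN (by
      have := PGroups.commutatorElement_mem_frattini hG a b
      rwa [commutatorElement_def] at this))
    (fun a _ => hN (PGroups.pow_mem_frattini hG a))
  exact ⟨V, i1, i2, i3, c, hV.trans (Subgroup.relIndex_top_right N)⟩

/-- A subgroup of index three contains the Frattini subgroup. -/
theorem frattini_le_of_index {M : Subgroup G} (hM : M.index = 3) : frattini G ≤ M := by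
  refine frattini_le_coatom ⟨fun h => by simp [h] at hM, fun A hA => Subgroup.index_eq_one.1 ?_⟩
  have h1 := Subgroup.relIndex_mul_index hA.le
  rw [hM] at h1
  rcases (Nat.dvd_prime (Fact.out : Nat.Prime 3)).1 (Dvd.intro_left _ h1) with h | h
  · exact h
  · rw [h] at h1
    exact absurd (Subgroup.relIndex_eq_one.1 (by omega)) (not_le_of_gt hA)

/-- The action on the subgroups of index three. -/
def perm : MulAut G →* Equiv.Perm {M : Subgroup G // M.index = 3} where
  toFun α :=
    { toFun := fun M => ⟨M.1.map α.toMonoidHom, by exact (Subgroup.index_map_equiv M.1 α).trans M.2⟩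
      invFun := fun M => ⟨M.1.map (α⁻¹).toMonoidHom, by exact (Subgroup.index_map_equiv M.1 α⁻¹).trans M.2⟩
      left_inv := fun M => Subtype.ext (by
        show (M.1.map _).map _ = _
        rw [Subgroup.map_map]; convert Subgroup.map_id M.1; ext x; simp)
      right_inv := fun M => Subtype.ext (by
        show (M.1.map _).map _ = _
        rw [Subgroup.map_map]; convert Subgroup.map_id M.1; ext x; simp) }
  map_one' := Equiv.ext fun M => Subtype.ext (by
    show M.1.map _ = _; exact Subgroup.map_id M.1)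
  map_mul' α β := Equiv.ext fun M => Subtype.ext (by
    show M.1.map _ = (M.1.map _).map _
    rw [Subgroup.map_map]; rfl)

theorem perm_apply (α : MulAut G) (M : {M : Subgroup G // M.index = 3}) : (perm α M).1 = M.1.map α.toMonoidHom := rfl

theorem card_range_dvd (hG : IsPGroup 3 G) (hd : (frattini G).index ≤ 27) (H : Subgroup (MulAut G))
    (hinn : ∀ α ∈ H, (∃ k, α ^ 3 ^ k = 1) → ∃ s, α = MulAut.conj s) :
    Nat.card (perm.comp H.subtype).range ∣ 416 := by
  set θ := perm.comp H.subtype
  obtain ⟨V, _, _, _, c, hV⟩ := exists_coord_top hG (frattini G) le_rfl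
  have hlift : ∀ α : MulAut G, ∃ L : V →ₗ[ZMod 3] V, ∀ x ∈ (⊤ : Subgroup G), L (c.v x) = c.v (α x) := fun α =>
    c.exists_lift α (fun x _ y _ => map_mul α x y) (fun _ _ => trivial) fun x hx => aut_mem_frattini α hx
  choose L hL using hlift
  have hLext : ∀ f g : V →ₗ[ZMod 3] V, (∀ x : G, f (c.v x) = g (c.v x)) → f = g := fun f g h =>
    LinearMap.ext fun w => by obtain ⟨x, -, rfl⟩ := c.surj w; exact h x
  let ρ₀ : MulAut G →* Module.End (ZMod 3) V :=
    { toFun := L
      map_one' := hLext _ _ fun x => by rw [hL _ x trivial]; rfl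
      map_mul' := fun α β => hLext _ _ fun x => by
        rw [hL _ x trivial, Module.End.mul_apply, hL _ x trivial, hL _ _ trivial]; rfl }
  set ρ := ρ₀.toHomUnits.comp H.subtype
  have hker : ρ.ker ≤ θ.ker := fun a ha => Equiv.ext fun M => Subtype.ext (by
    show M.1.map (a : MulAut G).toMonoidHom = M.1
    have hfix : ∀ x : G, c.v ((a : MulAut G) x) = c.v x := fun x => by
      rw [← hL _ x trivial]
      exact congrArg (fun u : GV 3 V => u.1 (c.v x)) ha
    have hΦ := frattini_le_of_index M.2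
    refine Subgroup.eq_of_le_of_card_ge ?_ (le_of_eq ?_)
    · rintro _ ⟨x, hx, rfl⟩
      have h1 := hΦ ((c.eq_iff trivial trivial).1 (hfix x).symm)
      simpa using M.1.mul_mem hx h1
    · exact Nat.card_congr (M.1.equivMapOfInjective _ (a : MulAut G).injective).toEquiv)
  have h1 : Nat.card θ.range ∣ 11232 := by
    rw [← Subgroup.index_ker]
    refine (Subgroup.index_dvd_of_le hker).trans ?_
    rw [Subgroup.index_ker]
    exact ρ.range.card_subgroup_dvd_card.trans (card_gv_dvd (hV.le.trans hd))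
  have h3 : ¬ 3 ∣ Nat.card θ.range := by
    intro hdvd
    obtain ⟨⟨_, a, rfl⟩, hq⟩ := exists_prime_orderOf_dvd_card' 3 hdvd
    obtain ⟨e, m, hpm, hm⟩ := Nat.exists_eq_pow_mul_and_not_dvd (orderOf_pos a).ne' 3 (by norm_num)
    obtain ⟨s, hs⟩ := hinn ((a : MulAut G) ^ m) (pow_mem a.2 m) ⟨e, by
      rw [← pow_mul, mul_comm, ← hm, ← SubgroupClass.coe_pow, pow_orderOf_eq_one]; rfl⟩
    have h2 : θ a ^ m = 1 := by
      rw [← map_pow]
      refine Equiv.ext fun M => Subtype.ext ?_
      show M.1.map ((a ^ m : H) : MulAut G).toMonoidHom = M.1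
      rw [SubgroupClass.coe_pow, hs]
      haveI := Resistant67.normal_of_frattini_le hG (frattini_le_of_index M.2)
      refine Subgroup.eq_of_le_of_card_ge ?_ (le_of_eq ?_)
      · rintro _ ⟨x, hx, rfl⟩
        exact (inferInstance : M.1.Normal).conj_mem x hx s
      · exact Nat.card_congr (M.1.equivMapOfInjective _ (MulAut.conj s).injective).toEquiv
    have h4 : orderOf (⟨θ a, a, rfl⟩ : θ.range) ∣ m := orderOf_dvd_of_pow_eq_one (Subtype.ext h2)
    rw [hq] at h4
    exact hpm h4
  have hco : (Nat.card θ.range).Coprime (3 ^ 3) :=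
    (((Fact.out : Nat.Prime 3).coprime_iff_not_dvd.2 h3).symm.pow_right 3)
  exact hco.dvd_of_dvd_mul_right (show Nat.card θ.range ∣ 416 * 3 ^ 3 from h1)

theorem isPGroup_two_of_dvd {Q : Type*} [Group Q] (h : Nat.card Q ∣ 32) : IsPGroup 2 Q := by
  obtain ⟨k, -, hk⟩ := (Nat.dvd_prime_pow Nat.prime_two).1 (show Nat.card Q ∣ 2 ^ 5 from h)
  exact IsPGroup.of_card hk

/-- A maximal subgroup moved by `H` is moved to one with the same stabilizer. -/
theorem exists_stab_eq (hG : IsPGroup 3 G) (hd : (frattini G).index ≤ 27) {E : Subgroup G} (hE : E.index = 3)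
    (H : Subgroup (MulAut G)) (hinn : ∀ α ∈ H, (∃ k, α ^ 3 ^ k = 1) → ∃ s, α = MulAut.conj s)
    (hmove : ∃ α ∈ H, E.map α.toMonoidHom ≠ E)
    (hK : (frattini G).index = 27 → ∃ K : Subgroup G, frattini G ≤ K ∧ K ≤ E ∧ K.index = 9 ∧
      ∀ α ∈ H, E.map α.toMonoidHom = E → K.map α.toMonoidHom = K) :
    ∃ α ∈ H, E.map α.toMonoidHom ≠ E ∧ ∀ β ∈ H, (E.map β.toMonoidHom = E ↔
      (E.map α.toMonoidHom).map β.toMonoidHom = E.map α.toMonoidHom) := by
  haveI : Fact (Nat.Prime 2) := ⟨Nat.prime_two⟩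
  set Γ : Subgroup (Equiv.Perm {M : Subgroup G // M.index = 3}) := (perm.comp H.subtype).range
  set x0 : {M : Subgroup G // M.index = 3} := ⟨E, hE⟩
  have hΓ := card_range_dvd hG hd H hinn
  have hsmul : ∀ (g : Γ) (M : {M : Subgroup G // M.index = 3}), g • M = g.1 M := fun _ _ => rfl
  have hrep : ∀ β ∈ H, ∃ g : Γ, g.1 = perm β := fun β hβ => ⟨⟨_, ⟨⟨β, hβ⟩, rfl⟩⟩, rfl⟩
  set st := MulAction.stabilizer Γ x0
  have hos := Nat.card_congr (MulAction.orbitProdStabilizerEquivGroup Γ x0)
  rw [Nat.card_prod] at hos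
  -- a second point of the orbit fixed by the stabilizer
  suffices key : ∃ x ∈ MulAction.orbit Γ x0, x ≠ x0 ∧ st ≤ MulAction.stabilizer Γ x by
    obtain ⟨x, hxo, hx, hle⟩ := key
    obtain ⟨⟨_, ⟨a, ha⟩, rfl⟩, rfl⟩ := hxo
    refine ⟨a, ha, fun h => hx (Subtype.ext h), fun β hβ => ?_⟩
    obtain ⟨g, hg⟩ := hrep β hβ
    set g0 : Γ := ⟨perm a, ⟨⟨a, ha⟩, rfl⟩⟩
    have heq : st = MulAction.stabilizer Γ (g0 • x0) := by
      refine Subgroup.eq_of_le_of_card_ge hle (le_of_eq ?_)
      exact (Nat.card_congr (MulAction.stabilizerEquivStabilizer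
        (show g0 • x0 = g0 • x0 from rfl)).toEquiv).symm
    have h1 : E.map β.toMonoidHom = E ↔ g ∈ st := by
      rw [MulAction.mem_stabilizer_iff, hsmul, hg]
      exact ⟨fun h => Subtype.ext h, fun h => congrArg Subtype.val h⟩
    have h2 : (E.map a.toMonoidHom).map β.toMonoidHom = E.map a.toMonoidHom ↔ g ∈ MulAction.stabilizer Γ (g0 • x0) := by
      rw [MulAction.mem_stabilizer_iff, hsmul g, hg]
      exact ⟨fun h => Subtype.ext h, fun h => congrArg Subtype.val h⟩
    rw [h1, h2, heq]
  have hfix : ∀ (O : Set {M : Subgroup G // M.index = 3}), IsPGroup 2 st → x0 ∈ O →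
      (∀ g ∈ st, ∀ x ∈ O, (g : Γ) • x ∈ O) → 2 ∣ Nat.card O →
      ∃ x ∈ O, x ≠ x0 ∧ st ≤ MulAction.stabilizer Γ x := by
    intro O h2 hx0 hinv heven
    let act : MulAction st O :=
      { smul := fun g x => ⟨(g : Γ) • x.1, hinv g g.2 x.1 x.2⟩
        one_smul := fun x => Subtype.ext (one_smul Γ x.1)
        mul_smul := fun g g' x => Subtype.ext (mul_smul (g : Γ) (g' : Γ) x.1) }
    obtain ⟨y, hy, hy0⟩ := h2.exists_fixed_point_of_prime_dvd_card_of_fixed_point O heven
      (a := ⟨x0, hx0⟩) (fun g => Subtype.ext g.2)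
    refine ⟨y.1, y.2, fun h => hy0 (Subtype.ext h.symm), fun g hg => ?_⟩
    exact congrArg Subtype.val (hy ⟨g, hg⟩)
  have hk1 : 1 < Nat.card (MulAction.orbit Γ x0) := by
    obtain ⟨a, ha, hne⟩ := hmove
    obtain ⟨g, hg⟩ := hrep a ha
    refine Finite.one_lt_card_iff_nontrivial.2 ⟨⟨x0, MulAction.mem_orbit_self x0⟩, ⟨g • x0, MulAction.mem_orbit x0 g⟩, ?_⟩
    intro h
    have h' := congrArg (fun z : MulAction.orbit Γ x0 => z.1.1) h
    simp only [hsmul, hg, perm_apply] at h'
    exact hne h'.symm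
  obtain ⟨V, _, _, _, c, hV⟩ := exists_coord_top hG (frattini G) le_rfl
  have hX : 2 * Nat.card {M : Subgroup G // M.index = 3} + 1 = (frattini G).index := by
    rw [← hV, ← two_mul_card_max c]
    exact congrArg (fun n => 2 * n + 1) (Nat.card_congr
      (Equiv.subtypeEquivRight fun M => ⟨fun h => ⟨h, frattini_le_of_index h⟩, And.left⟩))
  have hkX : Nat.card (MulAction.orbit Γ x0) ≤ Nat.card {M : Subgroup G // M.index = 3} :=
    Finite.card_subtype_le _
  by_cases h13 : 13 ∣ Nat.card Γ
  · -- an element of order `13`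
    obtain ⟨g, hg⟩ := exists_prime_orderOf_dvd_card' (G := Γ) 13 (hp := ⟨by norm_num⟩) h13
    haveI : Fintype {M : Subgroup G // M.index = 3} := Fintype.ofFinite _
    have hfac : 13 ∣ (Nat.card {M : Subgroup G // M.index = 3}).factorial := by
      rw [← Nat.card_perm, ← hg, ← Subgroup.orderOf_coe g]
      exact orderOf_dvd_natCard _
    rw [Nat.Prime.dvd_factorial (by norm_num)] at hfac
    have hcardX : Nat.card {M : Subgroup G // M.index = 3} = 13 := by omega
    have hmove' : ∃ x : {M : Subgroup G // M.index = 3}, g • x ≠ x := by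
      by_contra h
      push Not at h
      have : g = 1 := Subtype.ext (Equiv.ext fun x => h x)
      rw [this, orderOf_one] at hg
      omega
    -- the orbit of `g` through a moved point is everything
    haveI hp13 : Fact (Nat.Prime 13) := ⟨by norm_num⟩
    obtain ⟨x1, hx1⟩ := hmove'
    have horb : MulAction.orbit (Subgroup.zpowers g) x1 = Set.univ := by
      have hpg : IsPGroup 13 (Subgroup.zpowers g) := IsPGroup.of_card (n := 1) (by rw [Nat.card_zpowers, hg, pow_one])
      obtain ⟨n, hn⟩ := hpg.card_orbit x1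
      haveI : Finite (MulAction.orbit (Subgroup.zpowers g) x1) := Subtype.finite
      refine Set.eq_of_subset_of_ncard_le (Set.subset_univ _) ?_ (Set.toFinite _)
      rw [Set.ncard_univ, hcardX, ← Nat.card_coe_set_eq, hn]
      refine Nat.le_self_pow ?_ 13
      rintro rfl
      haveI := (Nat.card_eq_one_iff_unique.1 (by rw [hn, pow_zero])).1
      exact hx1 (congrArg Subtype.val (Subsingleton.elim
        (⟨g • x1, ⟨g, Subgroup.mem_zpowers g⟩, rfl⟩ : MulAction.orbit (Subgroup.zpowers g) x1)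
        ⟨x1, MulAction.mem_orbit_self x1⟩))
    have hall : ∀ x, x ∈ MulAction.orbit Γ x0 := fun x => by
      obtain ⟨a, ha⟩ := horb.ge (Set.mem_univ x)
      obtain ⟨b, hb⟩ := horb.ge (Set.mem_univ x0)
      refine ⟨(a : Γ) * (b : Γ)⁻¹, ?_⟩
      show ((a : Γ) * (b : Γ)⁻¹) • x0 = x
      rw [mul_smul, ← ha]
      congr 1
      rw [← hb]
      exact inv_smul_smul (b : Γ) x1
    have hk : Nat.card (MulAction.orbit Γ x0) = 13 := by
      rw [Nat.card_congr (Equiv.subtypeUnivEquiv hall), hcardX]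
    have hst : IsPGroup 2 st := isPGroup_two_of_dvd (by
      have : 13 * Nat.card st ∣ 13 * 32 := by rw [← hk, hos, hk]; exact hΓ
      exact Nat.dvd_of_mul_dvd_mul_left (by norm_num) this)
    obtain ⟨K, hΦK, hKE, hK9, hKinv⟩ := hK (by omega)
    obtain ⟨W, _, _, _, cK, hW⟩ := exists_coord_top hG K hΦK
    have hY := two_mul_card_max cK
    rw [hW, hK9] at hY
    obtain ⟨x, hxK, hx, hle⟩ := hfix {x | K ≤ x.1} hst hKE (fun g hg x hx => by
      obtain ⟨_, ⟨a, ha⟩, rfl⟩ := g
      have hEa : E.map a.toMonoidHom = E := congrArg Subtype.val hg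
      show K ≤ x.1.map a.toMonoidHom
      rw [← hKinv a ha hEa]
      exact Subgroup.map_mono hx) (by
        have h4 : Nat.card ({x : {M : Subgroup G // M.index = 3} | K ≤ x.1} : Set _) = 4 := by
          refine Eq.trans (Nat.card_congr (Equiv.subtypeSubtypeEquivSubtypeInter (fun M : Subgroup G => M.index = 3) fun M => K ≤ M)) ?_
          omega
        rw [h4]; norm_num)
    exact ⟨x, hall x, hx, hle⟩
  · have h2 : Nat.card Γ ∣ 32 :=
      (((Nat.Prime.coprime_iff_not_dvd (by norm_num : Nat.Prime 13)).2 h13).symm).dvd_of_dvd_mul_right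
        (show Nat.card Γ ∣ 32 * 13 from hΓ)
    have hΓ2 : IsPGroup 2 Γ := isPGroup_two_of_dvd h2
    refine hfix _ (hΓ2.to_subgroup st) (MulAction.mem_orbit_self x0)
      (fun g _ x hx => MulAction.mem_orbit_of_mem_orbit g hx) ?_
    obtain ⟨n, hn⟩ := hΓ2.card_orbit x0
    rw [hn] at hk1 ⊢
    exact dvd_pow_self 2 (by rintro rfl; simp at hk1)

end Cfsg.Agent.Lib.SectionalThree.Orbit
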