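import Cfsg.Agent.Lib.TwoEssential.SympModel
import Cfsg.Agent.Lib.SectionalThree.CenterCase

/-!
# A normal pearl in sectional rank three gives a Sylow subgroup of `Sp₄(p)`

A group of order `p ^ 4` and sectional rank three with an extraspecial subgroup `E` of exponent `p` and
index `p` on whose central factor it acts nontrivially.
-/

set_option autoImplicit false
set_option linter.style.haveILetI false
set_option linter.unusedSectionVars false

namespace Cfsg.Agent.Lib.SectionalThree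

open Cfsg Cfsg.Agent.Lib Cfsg.Agent.Lib.TwoEssential
open scoped commutatorElement

universe u

variable {p : ℕ} [Fact p.Prime]

/-- A group with the relations and a unique normal form is a Sylow subgroup of `Sp₄(p)`. -/
theorem nonempty_mulEquiv_sylow_of_rel (hp2 : p ≠ 2) {P : Type u} [Group P] [Finite P] (r : Rel p P)
    (hr : Function.Bijective r.fn) :
    ∃ R : Sylow p (Matrix.symplecticGroup (Fin 2) (ZMod p)),
      Nonempty (P ≃* (R : Subgroup (Matrix.symplecticGroup (Fin 2) (ZMod p)))) := by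
  have hp : p.Prime := Fact.out
  obtain ⟨φ, hφ⟩ := r.exists_hom spRel hr (spRel_injective hp2)
  have hnd : ∀ k, k ≠ 0 → ¬ p ∣ p ^ k - 1 := fun k hk hd => hp.not_dvd_one (by
    have h1 : 1 ≤ p ^ k := Nat.one_le_pow _ _ hp.pos
    have := Nat.dvd_sub (dvd_pow_self p hk) hd
    rwa [Nat.sub_sub_self h1] at this)
  have hfac : (Nat.card (Matrix.symplecticGroup (Fin 2) (ZMod p))).factorization p = 4 := by
    rw [Symplectic.card_sp (Nat.card_zmod p) 2, Finset.prod_range_succ, Finset.prod_range_succ,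
      Finset.prod_range_zero, one_mul]
    have h2 : p ^ (2 * (0 + 1)) - 1 ≠ 0 := fun e => hnd _ (by norm_num) (e ▸ dvd_zero p)
    have h4 : p ^ (2 * (1 + 1)) - 1 ≠ 0 := fun e => hnd _ (by norm_num) (e ▸ dvd_zero p)
    rw [Nat.factorization_mul (pow_ne_zero _ hp.ne_zero) (Nat.mul_ne_zero h2 h4),
      Nat.factorization_mul h2 h4, Finsupp.add_apply, Finsupp.add_apply,
      Nat.factorization_eq_zero_of_not_dvd (hnd _ (by norm_num)),
      Nat.factorization_eq_zero_of_not_dvd (hnd _ (by norm_num)), Nat.factorization_pow, Finsupp.smul_apply,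
      hp.factorization_self]
    norm_num
  have hP : Nat.card P = p ^ 4 := by
    rw [← Nat.card_congr (Equiv.ofBijective r.fn hr)]
    simp only [Nat.card_prod, Nat.card_fin]
    ring
  have hcard : Nat.card φ.range = p ^ (Nat.card (Matrix.symplecticGroup (Fin 2) (ZMod p))).factorization p := by
    rw [hfac, ← hP]
    exact Nat.card_congr (MonoidHom.ofInjective hφ).toEquiv.symm
  exact ⟨Sylow.ofCard φ.range hcard,
    ⟨(MonoidHom.ofInjective hφ).trans (MulEquiv.subgroupCongr (Sylow.coe_ofCard _ hcard).symm)⟩⟩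

/-- The relations in a group of order `p ^ 4` with a normal extraspecial pearl. -/
theorem exists_rel_of_extraspecial {P : Type u} [Group P] [Finite P] (hP : IsPGroup p P)
    (hsr : ¬ SectionalPRankLE p 2 P) {E : Subgroup P} (hEi : E.index = p) (hE : IsExtraspecial p ↥E)
    (hE3 : Nat.card E = p ^ 3) (hexp : ∀ x ∈ E, x ^ p = 1)
    (hmove : ∃ g : P, ∃ e ∈ E, ⁅g, e⁆ ∉ (Subgroup.center ↥E).map E.subtype) :
    ∃ r : Rel p P, Function.Bijective r.fn := by
  have hp : p.Prime := Fact.out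
  set Zc := (Subgroup.center ↥E).map E.subtype with hZc
  have hZcard : Nat.card Zc = p := by rw [hZc, Subgroup.card_subtype]; exact hE.2
  have hP4 : Nat.card P = p ^ 4 := by rw [← E.card_mul_index, hE3, hEi, ← pow_succ]
  have hEn : E.Normal := Resistant67.normal_of_frattini_le hP (frattini_le_coatom (by
    refine ⟨fun h => ?_, fun A hA => Subgroup.index_eq_one.1 ?_⟩
    · rw [h, Subgroup.index_top] at hEi; exact hp.one_lt.ne hEi
    · have h1 := Subgroup.relIndex_mul_index hA.le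
      rw [hEi] at h1
      rcases (Nat.dvd_prime hp).1 (Dvd.intro_left _ h1) with h | h
      · exact h
      · rw [h] at h1
        exact absurd (Subgroup.relIndex_eq_one.1
          (Nat.eq_of_mul_eq_mul_right hp.pos (h1.trans (one_mul p).symm))) (not_le_of_gt hA)))
  have hEcomm : ∀ a ∈ E, ∀ b ∈ E, ⁅a, b⁆ ∈ Zc := fun a ha b hb => by
    refine ⟨⁅(⟨a, ha⟩ : E), (⟨b, hb⟩ : E)⁆, ?_, rfl⟩
    rw [← hE.1.2.2, _root_.commutator_def]
    exact Subgroup.commutator_mem_commutator (Subgroup.mem_top _) (Subgroup.mem_top _)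
  obtain ⟨a0, ha0, b0, hb0, hab0⟩ : ∃ a ∈ E, ∃ b ∈ E, ⁅a, b⁆ ≠ 1 := by
    by_contra h
    push Not at h
    have : Subgroup.center ↥E = ⊤ := eq_top_iff.2 fun x _ => Subgroup.mem_center_iff.2 fun y =>
      Subtype.ext (commutatorElement_eq_one_iff_mul_comm.1 (h y y.2 x x.2))
    have h2 := hE.2
    rw [this, Subgroup.card_top, hE3] at h2
    exact absurd (Nat.pow_right_injective hp.two_le (h2.trans (pow_one p).symm)) (by norm_num)
  -- the abelian subgroup
  obtain ⟨H, K, -, hHc, hHp, hle⟩ := exists_section hP hsr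
  have hK : K = ⊥ := by
    by_contra hK
    have hKp : p ≤ Nat.card K := by
      obtain ⟨k, hk⟩ := IsPGroup.iff_card.1 (hP.to_subgroup K)
      rw [hk]
      refine Nat.le_self_pow ?_ p
      rintro rfl
      exact hK (Subgroup.card_eq_one.1 (by rw [hk, pow_zero]))
    have hH := Subgroup.card_le_card_group H
    have hHtop : H = ⊤ := Subgroup.eq_top_of_card_eq _ (le_antisymm hH (by
      rw [hP4, pow_succ]; exact (Nat.mul_le_mul_left _ hKp).trans hle))
    have hKc : Nat.card K ≤ p := by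
      rw [hHtop, Subgroup.card_top, hP4, pow_succ p 3] at hle
      exact Nat.le_of_mul_le_mul_left hle (pow_pos hp.pos 3)
    have hz := hEcomm a0 ha0 b0 hb0
    have hKZ : K ≤ Zc := by
      have hzK : ⁅a0, b0⁆ ∈ K := hHc a0 (hHtop ▸ Subgroup.mem_top _) b0 (hHtop ▸ Subgroup.mem_top _)
      have hz' : Subgroup.zpowers ⁅a0, b0⁆ = Zc := by
        refine Subgroup.eq_of_le_of_card_ge (Subgroup.zpowers_le.2 hz) (le_of_eq ?_)
        rw [Nat.card_zpowers, hZcard, orderOf_eq_prime (hexp _ (Subgroup.map_subtype_le _ hz)) hab0]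
      have hzK' : Zc ≤ K := hz' ▸ Subgroup.zpowers_le.2 hzK
      exact (Subgroup.eq_of_le_of_card_ge hzK' (hKc.trans hZcard.ge)).ge
    obtain ⟨g, e, he, hge⟩ := hmove
    exact hge (hKZ (hHc g (hHtop ▸ Subgroup.mem_top g) e (hHtop ▸ Subgroup.mem_top e)))
  subst hK
  rw [Subgroup.card_bot, mul_one] at hle
  have hHab : ∀ x ∈ H, ∀ y ∈ H, x * y = y * x := fun x hx y hy =>
    commutatorElement_eq_one_iff_mul_comm.1 (Subgroup.mem_bot.1 (hHc x hx y hy))
  have hHexp : ∀ x ∈ H, x ^ p = 1 := fun x hx => Subgroup.mem_bot.1 (hHp x hx)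
  have hHne : H ≠ ⊤ := fun h => hab0 (commutatorElement_eq_one_iff_mul_comm.2
    (hHab a0 (h ▸ Subgroup.mem_top _) b0 (h ▸ Subgroup.mem_top _)))
  have hH3 : Nat.card H = p ^ 3 := by
    obtain ⟨k, hk⟩ := IsPGroup.iff_card.1 (hP.to_subgroup H)
    have h1 : Nat.card H < p ^ 4 := by
      rw [← hP4]
      exact lt_of_le_of_ne (Subgroup.card_le_card_group H) fun h => hHne (Subgroup.eq_top_of_card_eq H h)
    rw [hk] at hle h1 ⊢
    rw [Nat.pow_le_pow_iff_right hp.one_lt] at hle
    rw [Nat.pow_lt_pow_iff_right hp.one_lt] at h1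
    rw [show k = 3 by omega]
  have hHi : H.index = p := by
    have := H.card_mul_index
    rw [hH3, hP4, pow_succ p 3] at this
    exact Nat.eq_of_mul_eq_mul_left (pow_pos hp.pos 3) this
  haveI hHn : H.Normal := Resistant67.normal_of_frattini_le hP (frattini_le_coatom (by
    refine ⟨hHne, fun A hA => Subgroup.index_eq_one.1 ?_⟩
    have h1 := Subgroup.relIndex_mul_index hA.le
    rw [hHi] at h1
    rcases (Nat.dvd_prime hp).1 (Dvd.intro_left _ h1) with h | h
    · exact h
    · rw [h] at h1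
      exact absurd (Subgroup.relIndex_eq_one.1
        (Nat.eq_of_mul_eq_mul_right hp.pos (h1.trans (one_mul p).symm))) (not_le_of_gt hA)))
  have hEH : ¬ E ≤ H := fun h => hab0 (commutatorElement_eq_one_iff_mul_comm.2 (hHab a0 (h ha0) b0 (h hb0)))
  have hHE : ¬ H ≤ E := fun h => hEH (Subgroup.eq_of_le_of_card_ge h (by rw [hE3, hH3])).ge
  obtain ⟨x, hx, hxH⟩ := SetLike.not_le_iff_exists.1 hEH
  obtain ⟨e, he, heE⟩ := SetLike.not_le_iff_exists.1 hHE
  set D := H ⊓ E
  have hZE : Zc ≤ E := Subgroup.map_subtype_le _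
  have hZcen : ∀ z ∈ Zc, ∀ y ∈ E, Commute y z := by
    rintro _ ⟨z, hz, rfl⟩ y hy
    exact congrArg Subtype.val (Subgroup.mem_center_iff.1 hz ⟨y, hy⟩)
  have hZn : Zc.Normal := ⟨fun z hz g => by
    obtain ⟨w, hw, rfl⟩ := hz
    haveI := hEn
    have hgw := hEn.conj_mem (w : P) w.2 g
    refine ⟨⟨_, hgw⟩, Subgroup.mem_center_iff.2 fun y => Subtype.ext ?_, rfl⟩
    have hy := hEn.conj_mem (y : P) y.2 g⁻¹
    rw [inv_inv] at hy
    have h := congrArg Subtype.val (Subgroup.mem_center_iff.1 hw ⟨g⁻¹ * y * g, hy⟩)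
    simp only [Subgroup.coe_mul] at h
    calc (y : P) * (g * w * g⁻¹) = g * ((g⁻¹ * y * g) * w) * g⁻¹ := by group
      _ = g * (w * (g⁻¹ * y * g)) * g⁻¹ := by rw [h]
      _ = g * w * g⁻¹ * y := by group⟩
  have hxe : ⁅x, e⁆ ∈ D := by
    refine ⟨?_, ?_⟩
    · rw [commutatorElement_def]; exact H.mul_mem (hHn.conj_mem e he x) (H.inv_mem he)
    · rw [commutatorElement_def, show x * e * x⁻¹ * e⁻¹ = x * (e * x⁻¹ * e⁻¹) by group]
      exact E.mul_mem hx (hEn.conj_mem _ (E.inv_mem hx) e)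
  set d := ⁅x, e⁆ with hd
  -- every element is a product
  have hgenH : ∀ g : P, ∃ m ∈ H, ∃ k : ℕ, g = m * x ^ k := fun g => exists_pow_mul hHi hxH g
  have hgenE : ∀ g : P, ∃ m ∈ E, ∃ k : ℕ, g = m * e ^ k := fun g => exists_pow_mul (M := E) hEi heE g
  have hHD : ∀ h ∈ H, ∃ m ∈ D, ∃ k : ℕ, h = m * e ^ k := fun h hh => by
    obtain ⟨m, hm, k, rfl⟩ := hgenE h
    exact ⟨m, ⟨by simpa using H.mul_mem hh (H.inv_mem (H.pow_mem he k)), hm⟩, k, rfl⟩
  have hdZ : d ∉ Zc := by
    intro hdZ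
    haveI := hZn
    set q := QuotientGroup.mk' Zc
    have hq1 : Commute (q x) (q e) := by
      rw [← commutatorElement_eq_one_iff_commute, ← map_commutatorElement]
      exact (QuotientGroup.eq_one_iff _).2 hdZ
    have hqD : ∀ m ∈ D, Commute (q x) (q m) := fun m hm => by
      rw [← commutatorElement_eq_one_iff_commute, ← map_commutatorElement]
      exact (QuotientGroup.eq_one_iff _).2 (hEcomm x hx m hm.2)
    have hqH : ∀ a ∈ H, ∀ b ∈ H, Commute (q a) (q b) := fun a ha b hb => (show Commute a b from hHab a ha b hb).map q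
    have hqxH : ∀ h ∈ H, Commute (q x) (q h) := fun h hh => by
      obtain ⟨m, hm, k, rfl⟩ := hHD h hh
      rw [map_mul, map_pow]
      exact (hqD m hm).mul_right (hq1.pow_right k)
    obtain ⟨g, y, hy, hgy⟩ := hmove
    refine hgy ((QuotientGroup.eq_one_iff _).1 ?_)
    show q ⁅g, y⁆ = 1
    rw [map_commutatorElement, commutatorElement_eq_one_iff_commute]
    obtain ⟨a, ha, i, rfl⟩ := hgenH g
    obtain ⟨b, hb, j, rfl⟩ := hgenH y
    rw [map_mul, map_mul, map_pow, map_pow]
    exact (((hqH a ha b hb).mul_right ((hqxH a ha).symm.pow_right j))).mul_left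
      (((hqxH b hb).pow_left i).mul_right ((Commute.refl (q x)).pow_pow i j))
  have hzZ : ⁅x, d⁆ ∈ Zc := hEcomm x hx d hxe.2
  have hzH : ⁅x, d⁆ ∈ H := by
    rw [commutatorElement_def]; exact H.mul_mem (hHn.conj_mem d hxe.1 x) (H.inv_mem hxe.1)
  set z := ⁅x, d⁆ with hz
  have hz1 : z ≠ 1 := by
    intro hz1
    refine hdZ ⟨⟨d, hxe.2⟩, Subgroup.mem_center_iff.2 fun y => Subtype.ext ?_, rfl⟩
    obtain ⟨m, hm, k, hy⟩ := hgenH (y : P)
    show (y : P) * d = d * (y : P)
    rw [hy]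
    exact ((show Commute m d from hHab m hm d hxe.1).mul_left
      ((commutatorElement_eq_one_iff_commute.1 hz1).pow_left k)).eq
  let r : Rel p P :=
    { x := x, e := e, d := d, z := z
      xp := hexp x hx, ep := hHexp e he, dp := hHexp d hxe.1, zp := hHexp z hzH
      hed := hHab e he d hxe.1
      hez := hHab e he z hzH
      hdz := hHab d hxe.1 z hzH
      hxz := hZcen z hzZ x hx
      hxe := by rw [hd, commutatorElement_def]; group
      hxd := by rw [hz, commutatorElement_def]; group }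
  refine ⟨r, Function.Injective.bijective_of_nat_card_le ?_ ?_⟩
  · rintro ⟨a, b, c, i⟩ ⟨a', b', c', i'⟩ hh
    have hm : ∀ a b c : ℕ, r.T a b c ∈ H := fun a b c =>
      mul_mem (mul_mem (pow_mem hzH c) (pow_mem hxe.1 b)) (pow_mem he a)
    obtain ⟨rfl, h1⟩ := pow_cancel hxH (hexp x hx) (hm _ _ _) (hm _ _ _) hh
    obtain ⟨rfl, h2⟩ := pow_cancel heE (hHexp e he)
      (mul_mem (pow_mem (hZE hzZ) _) (pow_mem hxe.2 _)) (mul_mem (pow_mem (hZE hzZ) _) (pow_mem hxe.2 _)) h1
    obtain ⟨rfl, h3⟩ := pow_cancel hdZ (hHexp d hxe.1) (pow_mem hzZ _) (pow_mem hzZ _) h2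
    obtain ⟨rfl, -⟩ := pow_cancel (K := ⊥) (fun hh : z ∈ (⊥ : Subgroup P) => hz1 (Subgroup.mem_bot.1 hh))
      (hHexp z hzH) (one_mem _) (one_mem _) (((one_mul _).trans h3).trans (one_mul _).symm)
    rfl
  · rw [hP4]
    simp only [Nat.card_prod, Nat.card_fin]
    exact le_of_eq (by ring)

end Cfsg.Agent.Lib.SectionalThree
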