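import Cfsg.Agent.Lib.SectionalThree.CenterCase
import Cfsg.Agent.Lib.SectionalThree.OrbitFixed
import Cfsg.Agent.Lib.SectionalThree.PearlNormal
import Cfsg.Agent.Lib.TwoEssential.FusionEnd
import Cfsg.Agent.S3074

/-!
# All essential subgroups normal

In sectional rank three with trivial core this forces a Sylow subgroup of `Sp₄(p)`: for `p ≥ 5` through a
pearl, for `p = 3` through two essential subgroups with the same stabilizer.
-/

set_option autoImplicit false
set_option linter.style.haveILetI false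
set_option linter.unusedSectionVars false
set_option maxHeartbeats 800000

namespace Cfsg.Agent.Lib.SectionalThree

open Cfsg Cfsg.FusionSystem Cfsg.Agent.Lib Cfsg.Agent.Lib.FS Cfsg.Agent.Lib.TwoEssential
open Cfsg.Agent.Lib.Resistant67 (conjN conjN_apply aut_mem_frattini)
open scoped commutatorElement

universe u

/-- The conclusion. -/
def SpSylow (p : ℕ) [Fact p.Prime] (G : Type u) [Group G] : Prop :=
  ∃ P : Sylow p ↥(Matrix.symplecticGroup (Fin 2) (ZMod p)),
    Nonempty (G ≃* ↥(P : Subgroup ↥(Matrix.symplecticGroup (Fin 2) (ZMod p))))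

variable {p : ℕ} [Fact p.Prime]

/-- A side transported by an automorphism normalising the group of extensions. -/
noncomputable def sideTransport {P : Type u} [Group P] {E : Subgroup P} {H : Subgroup (MulAut P)}
    (s : Side p P E H H.subtype) (α : MulAut P) (hα : ∀ b ∈ H, α * b * α⁻¹ ∈ H ∧ α⁻¹ * b * α ∈ H) :
    Side p P (E.map α.toMonoidHom) H H.subtype :=
  { A := s.A
    act := (MulAut.congr (α.subgroupMap E)).toMonoidHom.comp s.act
    R := s.R
    conjR := fun g => by
      obtain ⟨r, hr, he⟩ := s.conjR (α⁻¹ g)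
      refine ⟨r, hr, fun x => ?_⟩
      show α ((s.act r ((α.subgroupMap E).symm x) : E) : P) = _
      rw [he, map_mul, map_mul, map_inv, MulAut.apply_inv_self]
      congr 2
      exact congrArg Subtype.val ((α.subgroupMap E).apply_symm_apply x)
    innR := fun r hr => by
      obtain ⟨g, he⟩ := s.innR r hr
      refine ⟨α g, fun x => ?_⟩
      show α ((s.act r ((α.subgroupMap E).symm x) : E) : P) = _
      rw [he, map_mul, map_mul, map_inv]
      congr 2
      exact congrArg Subtype.val ((α.subgroupMap E).apply_symm_apply x)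
    ext := fun a ha => by
      obtain ⟨b, hb⟩ := s.ext a ha
      refine ⟨⟨α * (b : MulAut P) * α⁻¹, (hα b b.2).1⟩, fun x => ?_⟩
      show α ((b : MulAut P) (α⁻¹ (x : P))) = α ((s.act a ((α.subgroupMap E).symm x) : E) : P)
      rw [← hb]; rfl
    res := fun b => by
      obtain ⟨a, ha⟩ := s.res ⟨α⁻¹ * (b : MulAut P) * α, (hα b b.2).2⟩
      refine ⟨a, fun x => ?_⟩
      show (b : MulAut P) (x : P) = α ((s.act a ((α.subgroupMap E).symm x) : E) : P)
      rw [← ha]
      show _ = α (α⁻¹ ((b : MulAut P) (α (((α.subgroupMap E).symm x : E) : P))))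
      rw [MulAut.apply_inv_self]
      congr 1
      exact (congrArg Subtype.val ((α.subgroupMap E).apply_symm_apply x)).symm
    notp := by
      obtain ⟨l, hl, hc, h1⟩ := s.notp
      have hinj := (MulAut.congr (α.subgroupMap E)).injective
      exact ⟨l, hl, (orderOf_injective (MulAut.congr (α.subgroupMap E)).toMonoidHom hinj (s.act l)).symm ▸ hc,
        fun h => h1 (hinj (h.trans (map_one _).symm))⟩ }

variable {Ω : Type u} [Group Ω] {S : Subgroup Ω} [Finite S] {F : FusionSystem S}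

/-- A pearl normal in `S`. -/
theorem spSylow_of_pearl (hS : IsPGroup p S) (hF : F.IsSaturated p) (hp2 : p ≠ 2)
    (hsr : SectionalPRankLE p 3 ↥S ∧ ¬ SectionalPRankLE p 2 ↥S) {E : Subgroup Ω} (hess : F.IsEssential p E)
    (hpearl : IsPearl p E) (hn : (E.subgroupOf S).Normal) : SpSylow p ↥S := by
  have hp : p.Prime := Fact.out
  have hp3 : 3 ≤ p := lt_of_le_of_ne hp.two_le (Ne.symm hp2)
  have hES : E ≤ S := hess.2.1.1
  haveI := finite_sub hES
  have hidx := index_eq_prime hS hF hp3 hsr.1 hess hn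
  have hcardE : Nat.card (E.subgroupOf S) = Nat.card E := Nat.card_congr (Subgroup.subgroupOfEquivOfLe hES).toEquiv
  obtain ⟨⟨n0, hn0⟩, hn0E⟩ := Resistant67.exists_normalizer_not_mem hS hF hess
  rcases hpearl with ⟨hab, hE2⟩ | ⟨hext, hE3, hexp⟩
  · exfalso
    obtain ⟨e, he, hne⟩ : ∃ e ∈ E, n0 * e ≠ e * n0 := by
      by_contra h
      push Not at h
      exact hn0E (hess.1.2 E (isConj_refl F hES) ⟨hn0.1, fun y hy => (h y hy).symm⟩)
    have := card_ge_of_rank hS hsr.2 (a := (⟨n0, hn0.1⟩ : S)) (b := ⟨e, hES he⟩)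
      fun h => hne (congrArg Subtype.val h)
    rw [← (E.subgroupOf S).card_mul_index, hidx, hcardE, hE2, ← pow_succ,
      Nat.pow_le_pow_iff_right hp.one_lt] at this
    omega
  have hidx2 : (frattini ↥E).index ≤ p ^ 2 := by
    have h1 := (frattini ↥E).card_mul_index
    rw [hext.1.2.1, hext.2, hE3, pow_succ' p 2] at h1
    rw [hext.1.2.1]
    exact (Nat.eq_of_mul_eq_mul_left hp.pos h1).le
  obtain ⟨T, hT⟩ := exists_mover hS hF hess hidx2 hn0 hn0E
  obtain ⟨a, b, hab⟩ : ∃ a b : E, a * b ≠ b * a := by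
    by_contra h
    push Not at h
    have : Subgroup.center ↥E = ⊤ := eq_top_iff.2 fun x _ => Subgroup.mem_center_iff.2 fun y => h y x
    have h2 := hext.2
    rw [this, Subgroup.card_top, hE3] at h2
    exact absurd (Nat.pow_right_injective hp.two_le (h2.trans (pow_one p).symm)) (by norm_num)
  have hE' : IsExtraspecial p ↥(E.subgroupOf S) := by
    refine (S3074.isExtraspecial_of_card (hcardE.trans hE3)
      (fun g => Subtype.ext (Subtype.ext (hexp _ (Subgroup.mem_subgroupOf.1 g.2))))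
      (a := (⟨⟨a, hES a.2⟩, Subgroup.mem_subgroupOf.2 a.2⟩ : E.subgroupOf S))
      (b := ⟨⟨b, hES b.2⟩, Subgroup.mem_subgroupOf.2 b.2⟩) ?_).1
    exact fun h => hab (Subtype.ext (congrArg (fun w : E.subgroupOf S => ((w : S) : Ω)) h))
  suffices hmove : ∃ g : S, ∃ v ∈ E.subgroupOf S,
      ⁅g, v⁆ ∉ (Subgroup.center ↥(E.subgroupOf S)).map (E.subgroupOf S).subtype by
    obtain ⟨r, hr⟩ := exists_rel_of_extraspecial hS hsr.2 hidx hE' (hcardE.trans hE3)
      (fun x hx => Subtype.ext (hexp _ (Subgroup.mem_subgroupOf.1 hx))) hmove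
    exact nonempty_mulEquiv_sylow_of_rel hp2 r hr
  refine ⟨⟨n0, hn0.1⟩, ⟨T.y, hES T.y.2⟩, Subgroup.mem_subgroupOf.2 T.y.2, ?_⟩
  rintro ⟨w, hw, hwe⟩
  refine T.x_not_mem ?_
  rw [hext.1.2.1]
  have hwE : T.y * T.x * T.y⁻¹ = (⟨((w : S) : Ω), Subgroup.mem_subgroupOf.1 w.2⟩ : E) := by
    refine Subtype.ext ?_
    show (T.y : Ω) * T.x * (T.y : Ω)⁻¹ = ((w : S) : Ω)
    rw [show ((w : S) : Ω) = n0 * T.y * n0⁻¹ * (T.y : Ω)⁻¹ by
      rw [show (w : S) = ⁅(⟨n0, hn0.1⟩ : S), ⟨T.y, hES T.y.2⟩⁆ from hwe, commutatorElement_def]; rfl,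
      ← hT T.y, T.fy, Subgroup.coe_mul]
  have hcen : (⟨((w : S) : Ω), Subgroup.mem_subgroupOf.1 w.2⟩ : E) ∈ Subgroup.center ↥E :=
    Subgroup.mem_center_iff.2 fun y => Subtype.ext (congrArg (fun v : E.subgroupOf S => ((v : S) : Ω))
      (Subgroup.mem_center_iff.1 hw ⟨⟨y, hES y.2⟩, Subgroup.mem_subgroupOf.2 y.2⟩))
  rw [← hwE] at hcen
  have := Subgroup.Normal.conj_mem inferInstance _ hcen T.y⁻¹
  rwa [inv_inv, show T.y⁻¹ * (T.y * T.x * T.y⁻¹) * T.y = T.x by group] at this

/-- The configuration with a central cyclic subgroup does not occur. -/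
theorem false_of_LC (hS : IsPGroup p S) (hF : F.IsSaturated p) (hp3 : 3 ≤ p)
    (hsr : SectionalPRankLE p 3 ↥S ∧ ¬ SectionalPRankLE p 2 ↥S) (hO : F.core = ⊥)
    (hall : ∀ E, F.IsEssential p E → S ≤ Subgroup.normalizer (E : Set Ω) ∧ (E.subgroupOf S).index = p)
    {X : Pair p S} {T : Subgroup S} (hT : LC X T) : False := by
  have hp : p.Prime := Fact.out
  have hc := LC.center_eq hT hS
  obtain ⟨x, hx, y, hy, hz, hzp, hzT⟩ := hT.z0
  have hz1 : ⁅x, y⁆ ≠ 1 := fun h => hzT (h ▸ one_mem _)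
  have hDcen : ∀ d ∈ X.D, d ∈ Subgroup.center S := fun d hd => hc.ge hd
  have hxD : x ∉ X.D := fun h => hz1 (by
    rw [commutatorElement_eq_one_iff_mul_comm]; exact (Subgroup.mem_center_iff.1 (hDcen x h) y).symm)
  have hyD : y ∉ X.D := fun h => hz1 (by
    rw [commutatorElement_eq_one_iff_mul_comm]; exact Subgroup.mem_center_iff.1 (hDcen y h) x)
  refine false_of_small_derived hS hF hzp hz1 hz (fun a b => ?_) (hc ▸ X.index_D) hp3 hsr.1 hsr.2 hO hall
  haveI : (Subgroup.zpowers ⁅x, y⁆).Normal := ⟨fun v hv g => by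
    rw [Subgroup.mem_center_iff.1 (Subgroup.zpowers_le.2 hz hv) g, mul_inv_cancel_right]; exact hv⟩
  haveI := X.D_normal
  set q := QuotientGroup.mk' (Subgroup.zpowers ⁅x, y⁆)
  have hxy : Commute (q x) (q y) := by
    rw [← commutatorElement_eq_one_iff_commute, ← map_commutatorElement]
    exact (QuotientGroup.eq_one_iff _).2 (Subgroup.mem_zpowers _)
  have hdec : ∀ g : S, ∃ d ∈ X.D, ∃ i j : ℕ, g = d * x ^ i * y ^ j := fun g => by
    obtain ⟨a, ha, b, hb, rfl⟩ := X.exists_mul g
    obtain ⟨d, hd, i, rfl⟩ := exists_pow_mul_relIndex X.relIndex_D1 hx hxD ha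
    obtain ⟨d', hd', j, rfl⟩ := exists_pow_mul_relIndex X.relIndex_D2 hy hyD hb
    refine ⟨d * d', X.D.mul_mem hd hd', i, j, ?_⟩
    calc d * x ^ i * (d' * y ^ j) = d * (x ^ i * d') * y ^ j := by group
      _ = d * d' * x ^ i * y ^ j := by rw [Subgroup.mem_center_iff.1 (hDcen d' hd') (x ^ i)]; group
  refine (QuotientGroup.eq_one_iff _).1 ?_
  show q ⁅a, b⁆ = 1
  rw [map_commutatorElement, commutatorElement_eq_one_iff_commute]
  obtain ⟨d, hd, i, j, rfl⟩ := hdec a
  obtain ⟨d', hd', i', j', rfl⟩ := hdec b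
  have hdc : ∀ d ∈ X.D, ∀ g, Commute (q d) (q g) := fun d hd g =>
    (show Commute d g from (Subgroup.mem_center_iff.1 (hDcen d hd) g).symm).map q
  rw [map_mul, map_mul, map_mul, map_mul, map_pow, map_pow, map_pow, map_pow]
  have h1 : Commute (q x) (q d' * q x ^ i' * q y ^ j') :=
    (((hdc d' hd' x).symm).mul_right ((Commute.refl _).pow_right i')).mul_right (hxy.pow_right j')
  have h2 : Commute (q y) (q d' * q x ^ i' * q y ^ j') :=
    (((hdc d' hd' y).symm).mul_right (hxy.symm.pow_right i')).mul_right ((Commute.refl _).pow_right j')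
  have h3 : Commute (q d) (q d' * q x ^ i' * q y ^ j') := by
    rw [← map_pow, ← map_pow, ← map_mul, ← map_mul]; exact hdc d hd _
  exact (h3.mul_left (h1.pow_left i)).mul_left (h2.pow_left j)

/-- A subgroup of index `p ^ 2` in `S` fixed by the stabilizer of a side on three generators. -/
theorem exists_middle {G : Type u} [Group G] [Finite G] (hG : IsPGroup p G) (hsr : SectionalPRankLE p 3 G)
    {E : Subgroup G} [hEn : E.Normal] (hEi : E.index = p) (hd : (frattini G).index = p ^ 3) {B : Type u} [Group B]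
    {bact : B →* MulAut G} (s : Side p G E B bact) :
    ∃ K : Subgroup G, frattini G ≤ K ∧ K ≤ E ∧ K.index = p ^ 2 ∧
      ∀ b : B, K.map (bact b).toMonoidHom = K := by
  have hp : p.Prime := Fact.out
  have hEΦ : frattini G ≤ E := frattini_le_coatom (by
    refine ⟨fun h => ?_, fun A hA => Subgroup.index_eq_one.1 ?_⟩
    · rw [h, Subgroup.index_top] at hEi; exact hp.one_lt.ne hEi
    · have h1 := Subgroup.relIndex_mul_index hA.le
      rw [hEi] at h1
      rcases (Nat.dvd_prime hp).1 (Dvd.intro_left _ h1) with h | h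
      · exact h
      · rw [h] at h1
        exact absurd (Subgroup.relIndex_eq_one.1
          (Nat.eq_of_mul_eq_mul_right hp.pos (h1.trans (one_mul p).symm))) (not_le_of_gt hA))
  haveI hφn : s.phi.Normal := s.inv_normal s.inv_phi s.phi_le
  have hφΦ : s.phi ≤ frattini G := by
    rintro _ ⟨v, hv, rfl⟩
    refine Subgroup.mem_subgroupOf.1 ((PGroups.frattini_le_of_pow_commutator (p := p)
      ((frattini G).subgroupOf E) (fun w => ?_) ?_ : frattini ↥E ≤ (frattini G).subgroupOf E) hv)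
    · exact Subgroup.mem_subgroupOf.2 (PGroups.pow_mem_frattini hG (w : G))
    · rw [_root_.commutator_def, Subgroup.commutator_le]
      intro a _ b _
      exact Subgroup.mem_subgroupOf.2 (PGroups.commutatorElement_mem_frattini hG (a : G) (b : G))
  have hEΦi : (frattini G).relIndex E = p ^ 2 := by
    have := Subgroup.relIndex_mul_index hEΦ
    rw [hd, hEi] at this
    exact Nat.eq_of_mul_eq_mul_right hp.pos (this.trans (by ring))
  have hφi : s.phi.relIndex E ≤ p ^ 3 := by
    refine rank_le hsr (fun x hx y hy => s.comm_mem_phi hG hx hy) fun x hx => s.pow_mem_phi hG hx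
  have hnct := s.not_ct_phi hG
  have hfac : ¬ ∀ g : G, ∀ v ∈ E, g * v * g⁻¹ * v⁻¹ ∈ s.phi := fun h =>
    hnct (s.ct_of_central s.inv_self le_rfl s.inv_phi s.phi_le h)
  have hstep : s.phi.relIndex (frattini G) = p := by
    have h1 := Subgroup.relIndex_mul_relIndex s.phi (frattini G) E hφΦ hEΦ
    rw [hEΦi] at h1
    obtain ⟨k, hk⟩ := (hG.to_subgroup (frattini G)).index (s.phi.subgroupOf (frattini G))
    have hk' : s.phi.relIndex (frattini G) = p ^ k := hk
    rw [← h1, hk', ← pow_add, Nat.pow_le_pow_iff_right hp.one_lt] at hφi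
    rcases (show k = 0 ∨ k = 1 by omega) with rfl | rfl
    · exfalso
      refine hfac fun g v hv => ?_
      rw [pow_zero] at hk'
      rw [eq_of_relIndex_eq_one hφΦ hk']
      exact commutatorElement_def g v ▸ PGroups.commutatorElement_mem_frattini hG g v
    · rwa [pow_one] at hk'
  set q := QuotientGroup.mk' s.phi
  set K := E ⊓ (Subgroup.center (G ⧸ s.phi)).comap q with hK
  have hmem : ∀ {v : G}, v ∈ K ↔ v ∈ E ∧ ∀ g : G, g * v * g⁻¹ * v⁻¹ ∈ s.phi := fun {v} => by
    refine ⟨fun h => ⟨h.1, fun g => ?_⟩, fun h => ⟨h.1, Subgroup.mem_center_iff.2 fun gq => ?_⟩⟩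
    · rw [← QuotientGroup.eq_one_iff]
      show q (g * v * g⁻¹ * v⁻¹) = 1
      rw [map_mul, map_mul, map_mul, map_inv, map_inv, Subgroup.mem_center_iff.1 h.2 (q g), mul_inv_cancel_right,
        mul_inv_cancel]
    · obtain ⟨g, rfl⟩ := QuotientGroup.mk'_surjective s.phi gq
      have h1 : q (g * v * g⁻¹ * v⁻¹) = 1 := (QuotientGroup.eq_one_iff _).2 (h.2 g)
      rwa [map_mul, map_mul, map_mul, map_inv, map_inv, mul_inv_eq_one, mul_inv_eq_iff_eq_mul] at h1
  have hΦK : frattini G ≤ K := fun v hv =>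
    hmem.2 ⟨hEΦ hv, fun g => comm_mem_of_relIndex hG hφΦ hstep g hv⟩
  have hKne : K ≠ E := fun h => hfac fun g v hv => (hmem.1 (h.ge hv)).2 g
  refine ⟨K, hΦK, inf_le_left, ?_, fun b => ?_⟩
  · obtain ⟨x, hx⟩ : ∃ x, x ∉ E := by
      by_contra h
      push Not at h
      rw [(Subgroup.eq_top_iff' E).2 h, Subgroup.index_top] at hEi
      exact hp.one_lt.ne hEi
    -- the commutator with `x` detects `K`
    let δ : E →* G ⧸ s.phi := MonoidHom.mk' (fun v => q ⁅x, (v : G)⁆) fun v w => by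
      have hc : q ⁅x, (w : G)⁆ ∈ Subgroup.center (G ⧸ s.phi) :=
        (hΦK (PGroups.commutatorElement_mem_frattini hG x (w : G))).2
      rw [Subgroup.coe_mul, show ⁅x, (v : G) * (w : G)⁆ = ⁅x, (v : G)⁆ * ((v : G) * ⁅x, (w : G)⁆ * (v : G)⁻¹) by
        simp only [commutatorElement_def]; group, map_mul, map_mul, map_mul, map_inv,
        Subgroup.mem_center_iff.1 hc (q v), mul_inv_cancel_right]
    have hker : δ.ker ≤ K.subgroupOf E := fun v hv => by
      refine Subgroup.mem_subgroupOf.2 (hmem.2 ⟨v.2, fun g => ?_⟩)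
      have hxv : Commute (q x) (q (v : G)) := by
        rw [← commutatorElement_eq_one_iff_commute, ← map_commutatorElement]; exact hv
      obtain ⟨m, hm, k, rfl⟩ := exists_pow_mul hEi hx g
      rw [← QuotientGroup.eq_one_iff]
      show q _ = 1
      have hmv : Commute (q m) (q (v : G)) := by
        rw [← commutatorElement_eq_one_iff_commute, ← map_commutatorElement]
        exact (QuotientGroup.eq_one_iff _).2 (commutatorElement_def m (v : G) ▸ s.comm_mem_phi hG hm v.2)
      have hall : Commute (q (m * x ^ k)) (q (v : G)) := by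
        rw [map_mul, map_pow]; exact hmv.mul_left (hxv.pow_left k)
      rw [map_mul, map_mul, map_inv, map_mul, map_inv, hall.eq, mul_inv_cancel_right, mul_inv_cancel]
    have hle : K.relIndex E ≤ p := by
      refine (Nat.le_of_dvd (Nat.pos_of_ne_zero δ.ker.index_ne_zero_of_finite)
        (Subgroup.index_dvd_of_le hker)).trans ?_
      rw [Subgroup.index_ker]
      refine (Subgroup.card_le_of_le (?_ : δ.range ≤ (frattini G).map q)).trans (le_of_eq ?_)
      · rintro _ ⟨v, rfl⟩
        exact ⟨_, PGroups.commutatorElement_mem_frattini hG x (v : G), rfl⟩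
      · exact (Side.relIndex_eq_card hφΦ).trans hstep
    have h1 := Subgroup.relIndex_mul_index (inf_le_left : K ≤ E)
    rw [hEi] at h1
    obtain ⟨k, hk⟩ := (hG.to_subgroup E).index (K.subgroupOf E)
    have hk' : K.relIndex E = p ^ k := hk
    rcases Nat.eq_zero_or_pos k with rfl | hk0
    · exact absurd (eq_of_relIndex_eq_one inf_le_left (hk'.trans (pow_zero p))) hKne
    · rw [hk'] at hle
      have : k = 1 := le_antisymm ((Nat.pow_le_pow_iff_right hp.one_lt).1 (hle.trans_eq (pow_one p).symm)) hk0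
      rw [← h1, hk', this, pow_one, sq]
  · refine Subgroup.eq_of_le_of_card_ge ?_ (le_of_eq ?_)
    · rintro _ ⟨v, hv, rfl⟩
      refine hmem.2 ⟨s.bact_mem b (hmem.1 hv).1, fun g => ?_⟩
      obtain ⟨g, rfl⟩ := (bact b).surjective g
      show bact b g * bact b v * (bact b g)⁻¹ * (bact b v)⁻¹ ∈ s.phi
      rw [← map_inv, ← map_inv, ← map_mul, ← map_mul, ← map_mul]
      exact s.inv_bact s.inv_phi s.phi_le b ((hmem.1 hv).2 g)
    · exact (Nat.card_congr (K.equivMapOfInjective _ (bact b).injective).toEquiv)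

/-- All essential subgroups normal. -/
theorem spSylow_of_normal (hS : IsPGroup p S) (hF : F.IsSaturated p) (hp2 : p ≠ 2)
    (hsr : SectionalPRankLE p 3 ↥S ∧ ¬ SectionalPRankLE p 2 ↥S) (hO : F.core = ⊥)
    (hnorm : ∀ E, F.IsEssential p E → S ≤ Subgroup.normalizer (E : Set Ω)) : SpSylow p ↥S := by
  have hp : p.Prime := Fact.out
  have hp3 : 3 ≤ p := lt_of_le_of_ne hp.two_le (Ne.symm hp2)
  have hSne : S ≠ ⊥ := fun h => hsr.2 fun H N _ A _ _ => by
    have hsub : Subsingleton S := ⟨fun a b => Subtype.ext (by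
      rw [(Subgroup.eq_bot_iff_forall S).1 h _ a.2, (Subgroup.eq_bot_iff_forall S).1 h _ b.2])⟩
    haveI : Subsingleton H := ⟨fun a b => Subtype.ext (hsub.elim _ _)⟩
    haveI : Subsingleton (H ⧸ N) := QuotientGroup.mk_surjective.subsingleton
    rw [Nat.card_of_subsingleton (1 : A)]
    exact Nat.one_le_pow _ _ hp.pos
  have hn : ∀ {E}, F.IsEssential p E → (E.subgroupOf S).Normal := fun {E} hE =>
    ⟨fun v hv g => Subgroup.mem_subgroupOf.2
      (conj_mem_of_normalizer (hnorm E hE g.2) (Subgroup.mem_subgroupOf.1 hv))⟩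
  have hidx : ∀ {E}, F.IsEssential p E → (E.subgroupOf S).index = p := fun hE =>
    index_eq_prime hS hF hp3 hsr.1 hE (hn hE)
  rcases Nat.lt_or_ge p 5 with hlt | hp5
  swap
  · obtain ⟨E, hE, hpearl⟩ := exists_pearl hS hF hp5 hsr.1 hSne hO
    exact spSylow_of_pearl hS hF hp2 hsr hE hpearl (hn hE)
  have hp_eq : p = 3 := by
    interval_cases p
    · rfl
    · exact absurd hp (by norm_num)
  obtain ⟨E0, hE0⟩ : ∃ E, F.IsEssential p E := by
    by_contra hex
    push Not at hex
    exact core_ne_bot hS hF hSne le_rfl (fun α _ v _ => SetLike.coe_mem _) (fun E hE => absurd hE (hex E)) hO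
  by_cases hinv : ∀ E, F.IsEssential p E → ∀ φ ∈ F.autGroup S, (E.subgroupOf S).map φ.toMonoidHom = E.subgroupOf S
  · by_cases hone : ∀ E, F.IsEssential p E → E = E0
    · exfalso
      haveI := finite_sub hE0.2.1.1
      refine core_ne_bot (R := E0) hS hF (fun h => ?_) hE0.2.1.1 (fun α hα v hv => ?_) (fun E hE => ?_) hO
      · obtain ⟨g, hg⟩ := Resistant67.exists_normalizer_not_mem hS hF hE0
        refine hg (hE0.1.2 E0 (isConj_refl F hE0.2.1.1) ⟨g.2.1, fun y hy => ?_⟩)
        rw [(Subgroup.eq_bot_iff_forall E0).1 h y hy, one_mul, mul_one]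
      · exact Subgroup.mem_subgroupOf.1 ((hinv E0 hE0 α hα).le ⟨v, Subgroup.mem_subgroupOf.2 hv, rfl⟩)
      · rw [hone E hE]
        exact ⟨le_rfl, fun α _ v _ => SetLike.coe_mem _⟩
    · push Not at hone
      obtain ⟨E1, hE1, hne⟩ := hone
      obtain ⟨X, -, hSp⟩ := sp_of_fusion hS hp2 hsr hF hO hne hE1 hE0 (hinv E1 hE1) (hinv E0 hE0)
      exact hSp.nonempty_mulEquiv_sylow hS hp2
  push Not at hinv
  obtain ⟨E, hE, φ0, hφ0, hmove⟩ := hinv
  subst hp_eq
  haveI := hn hE
  set E' := E.subgroupOf S with hE'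
  let H : Subgroup (MulAut S) :=
    { carrier := {b | b ∈ F.autGroup S ∧ E'.map b.toMonoidHom = E'}
      one_mem' := ⟨one_mem _, Subgroup.map_id _⟩
      mul_mem' := fun {a b} ha hb => ⟨mul_mem ha.1 hb.1, by
        rw [show (a * b).toMonoidHom = a.toMonoidHom.comp b.toMonoidHom from rfl, ← Subgroup.map_map, hb.2, ha.2]⟩
      inv_mem' := fun {a} ha => ⟨inv_mem ha.1, by
        conv_lhs => rw [← ha.2]
        rw [Subgroup.map_map]
        convert Subgroup.map_id E'
        ext x
        exact congrArg Subtype.val (MulAut.inv_apply_self S a x)⟩ }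
  have hs1 : Side 3 S E' H H.subtype := sideOfEssential hS hF hE (hn hE) H (fun b hb => hb.1)
    (fun b hb x hx => Subgroup.mem_subgroupOf.1 (hb.2.le ⟨x, Subgroup.mem_subgroupOf.2 hx, rfl⟩))
    (fun b hb h => ⟨hb, Subgroup.eq_of_le_of_card_ge
      (by rintro _ ⟨x, hx, rfl⟩; exact Subgroup.mem_subgroupOf.2 (h x (Subgroup.mem_subgroupOf.1 hx)))
      (le_of_eq (Nat.card_congr (E'.equivMapOfInjective _ b.injective).toEquiv))⟩)
  have hd : (frattini ↥S).index ≤ 27 := by
    have := rank_le hsr.1 (H := (⊤ : Subgroup S)) (K := frattini ↥S)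
      (fun x _ y _ => commutatorElement_def x y ▸ PGroups.commutatorElement_mem_frattini hS x y)
      (fun x _ => PGroups.pow_mem_frattini hS x)
    rw [Subgroup.relIndex_top_right] at this
    exact this.trans (by norm_num)
  obtain ⟨α, hα, hne, hstab⟩ := Orbit.exists_stab_eq hS hd (hidx hE) (F.autGroup S)
    (fun β hβ ⟨k, hk⟩ => inn_of_base hS hF hβ hk) ⟨φ0, hφ0, hmove⟩ (fun h27 => by
      obtain ⟨K, h1, h2, h3, h4⟩ := exists_middle hS hsr.1 (hidx hE) (h27.trans (by norm_num)) hs1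
      exact ⟨K, h1, h2, h3.trans (by norm_num), fun β hβ hfix => h4 ⟨β, hβ, hfix⟩⟩)
  have hconj : ∀ b ∈ H, α * b * α⁻¹ ∈ H ∧ α⁻¹ * b * α ∈ H := by
    have hmap : ∀ (β γ : MulAut S) (M : Subgroup S),
        M.map (β * γ).toMonoidHom = (M.map γ.toMonoidHom).map β.toMonoidHom := fun β γ M => by
      rw [Subgroup.map_map]; rfl
    rintro b ⟨hb, hbE⟩
    have hc1 : α * b * α⁻¹ ∈ F.autGroup S := mul_mem (mul_mem hα hb) (inv_mem hα)
    have hc2 : α⁻¹ * b * α ∈ F.autGroup S := mul_mem (mul_mem (inv_mem hα) hb) hα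
    refine ⟨⟨hc1, (hstab _ hc1).2 ?_⟩, hc2, ?_⟩
    · rw [← hmap, inv_mul_cancel_right, hmap, hbE]
    · rw [hmap, hmap, (hstab b hb).1 hbE, ← hmap, inv_mul_cancel]
      exact Subgroup.map_id E'
  let X : Pair 3 S :=
    { E1 := E'
      E2 := E'.map α.toMonoidHom
      n1 := hn hE
      n2 := (hn hE).map _ α.surjective
      i1 := hidx hE
      i2 := (Subgroup.index_map_equiv E' α).trans (hidx hE)
      ne := fun h => hne h.symm
      B := H
      bact := H.subtype
      s1 := hs1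
      s2 := sideTransport hs1 α hconj }
  rcases outcome hp2 X hS hsr.1 with ⟨T, hT⟩ | hh | hh
  · exact (false_of_LC hS hF hp3 hsr hO (fun E hE => ⟨hnorm E hE, hidx hE⟩) hT).elim
  · exact hh.nonempty_mulEquiv_sylow hS hp2
  · exact hh.nonempty_mulEquiv_sylow hS hp2

end Cfsg.Agent.Lib.SectionalThree
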