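import Cfsg.Agent.Lib.SectionalThree.PearlGroup
import Cfsg.Agent.Lib.FusionEssential.RankTwo
import Cfsg.Agent.S5186

/-!
# Two-generator essential subgroups in sectional rank three

Such a subgroup is a pearl, or it is normal in a two-generator group `S` of order at least `p ^ 5` and its second
layer is the fourth term of the lower central series of `S`.
-/

set_option autoImplicit false
set_option linter.style.haveILetI false
set_option linter.unusedSectionVars false
set_option maxHeartbeats 800000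

namespace Cfsg.Agent.Lib.SectionalThree

open Cfsg Cfsg.FusionSystem Cfsg.Agent.Lib Cfsg.Agent.Lib.FS Cfsg.Agent.Lib.EssentialRankThree
open Cfsg.Agent.Lib.Resistant67 (conjN conjN_apply aut_mem_frattini mem_of_trivial_frattini)
open scoped commutatorElement

universe u

variable {Ω : Type u} [Group Ω] {S : Subgroup Ω} [Finite S] {p : ℕ} [Fact p.Prime] {F : FusionSystem S}
  {E : Subgroup Ω}

/-- `E` is elementary abelian of order `p ^ 2` or extraspecial of order `p ^ 3` and exponent `p`. -/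
def IsPearl (p : ℕ) (E : Subgroup Ω) : Prop :=
  (IsElementaryAbelian p E ∧ Nat.card E = p ^ 2) ∨
    (IsExtraspecial p ↥E ∧ Nat.card E = p ^ 3 ∧ ∀ x ∈ E, x ^ p = 1)

/-- A two-generator essential subgroup which is not a pearl. -/
structure TypeA (S : Subgroup Ω) (p : ℕ) [Fact p.Prime] (E : Subgroup Ω) : Prop where
  normal : S ≤ Subgroup.normalizer (E : Set Ω)
  gen : ∃ a b, S = Subgroup.closure {a, b}
  lcs : S.lowerCentralSeries 3 = (psi p ↥E).map E.subtype
  ne_bot : psi p ↥E ≠ ⊥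
  big : p ^ 5 ≤ Nat.card S
  expE : ∀ e ∈ E, e ^ p = 1
  max : ∀ A : Subgroup Ω, E ≤ A → A ≤ S → A ≠ E → A = S

/-- The maximal subgroups over the Frattini subgroup of a two-generator group. -/
theorem eq_of_between {G : Type u} [Group G] [Finite G] (hG : IsPGroup p G) (hidx : (frattini G).index = p ^ 2)
    {x : G} (hx : x ∉ frattini G) {A : Subgroup G} (hA : frattini G ≤ A) (hxA : x ∈ A) (hAt : A ≠ ⊤) :
    A = Subgroup.zpowers x ⊔ frattini G := by
  refine (eq_of_le_of_not_lt (sup_le (Subgroup.zpowers_le.2 hxA) hA) fun hlt => ?_).symm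
  have h1 := PGroupTheory.prime_mul_index_le hG (lt_of_le_of_ne le_sup_right fun h =>
    hx (h.ge (Subgroup.mem_sup_left (Subgroup.mem_zpowers x))) : frattini G < Subgroup.zpowers x ⊔ frattini G)
  have h2 := PGroupTheory.prime_mul_index_le hG hlt
  have h3 := PGroupTheory.prime_mul_index_le hG (lt_top_iff_ne_top.2 hAt)
  rw [Subgroup.index_top, mul_one] at h3
  have h4 := (Nat.mul_le_mul_left p ((Nat.mul_le_mul_left p h3).trans h2)).trans h1
  rw [hidx, show p * (p * p) = p ^ 3 by ring] at h4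
  exact absurd ((Nat.pow_le_pow_iff_right (Fact.out : p.Prime).one_lt).1 h4) (by norm_num)

/-- An element of `N_S(E)` outside `E` moves the Frattini quotient. -/
theorem exists_mover (hS : IsPGroup p S) (hF : F.IsSaturated p) (hess : F.IsEssential p E)
    (hidx : (frattini ↥E).index ≤ p ^ 2) {n : Ω} (hn : n ∈ normalizerIn S E) (hnE : n ∉ E) :
    ∃ T : Mover p ↥E, ∀ e : E, ((T.θ e : E) : Ω) = n * e * n⁻¹ := by
  have hES : E ≤ S := hess.2.1.1
  haveI := finite_sub hES
  have hEp := isPGroup_of_le hS hES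
  have hi := FusionEssential.RankTwo.index_eq hS hF hess hidx
  set g : normalizerIn S E := ⟨n, hn⟩
  set θ : MulAut E := (conjN F hES g : MulAut E) with hθ
  let π := QuotientGroup.mk' (frattini ↥E)
  have hπ : ∀ v, π v = 1 ↔ v ∈ frattini ↥E := fun v => QuotientGroup.eq_one_iff v
  have hπs : Function.Surjective π := QuotientGroup.mk'_surjective _
  letI : CommGroup (↥E ⧸ frattini ↥E) :=
    { (inferInstance : Group (↥E ⧸ frattini ↥E)) with
      mul_comm := fun a b => by
        obtain ⟨a, rfl⟩ := hπs a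
        obtain ⟨b, rfl⟩ := hπs b
        refine (commutatorElement_eq_one_iff_mul_comm).1 ?_
        rw [← map_commutatorElement]
        exact (hπ _).2 (PGroups.commutatorElement_mem_frattini hEp a b) }
  have hHp : IsPGroup p (↥E ⧸ frattini ↥E) := hEp.to_quotient _
  have hbot : ∀ w, w ∈ frattini (↥E ⧸ frattini ↥E) → w = 1 := by
    intro w hw
    obtain ⟨v, rfl⟩ := (FusionEssential.RankTwo.frattini_eq hHp w).1 hw
    obtain ⟨v, rfl⟩ := hπs v
    rw [← map_pow]; exact (hπ _).2 (PGroups.pow_mem_frattini hEp v)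
  have hidx' : (frattini (↥E ⧸ frattini ↥E)).index = p ^ 2 := by
    rw [(Subgroup.eq_bot_iff_forall _).2 hbot, Subgroup.index_bot, ← Subgroup.index_eq_card, hi]
  let θ' : MulAut (↥E ⧸ frattini ↥E) := QuotientGroup.congr (frattini ↥E) (frattini ↥E) θ
    (Subgroup.characteristic_iff_map_eq.1 frattini_characteristic θ)
  have hθ' : ∀ v, θ' (π v) = π (θ v) := fun v => rfl
  have hit : ∀ (k : ℕ) v, (θ' ^ k) (π v) = π ((θ ^ k) v) := by
    intro k
    induction k with
    | zero => intro v; rfl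
    | succ k ih => intro v; rw [pow_succ, MulAut.mul_apply, hθ', ih, pow_succ, MulAut.mul_apply]
  have hδ : ∀ v, FusionEssential.RankTwo.delta θ' (π v) = π (v⁻¹ * θ v) := fun v => by
    rw [FusionEssential.RankTwo.delta_apply, hθ', map_mul, map_inv]
  obtain ⟨m, hm⟩ := Resistant67.conjN_pow_eq_one (F := F) hS hES g
  obtain ⟨y, hy⟩ : ∃ y, y⁻¹ * θ y ∉ frattini ↥E := by
    by_contra h
    push Not at h
    exact hnE (mem_of_trivial_frattini hS hF hess (g := g) h)
  obtain ⟨L, -, hLt, hd1, hd2⟩ := FusionEssential.RankTwo.exists_line hHp hidx' (θ := θ') (m := m)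
    (MulEquiv.ext fun w => by
      obtain ⟨v, rfl⟩ := hπs w
      rw [hit, hθ, hm]; rfl)
    (fun h => hy ((hπ _).1 (hbot _ (hδ y ▸ h (π y)))))
  have hdd : ∀ w, FusionEssential.RankTwo.delta θ' (FusionEssential.RankTwo.delta θ' w) ∈
      frattini (↥E ⧸ frattini ↥E) := fun w => hd2 _ (hd1 w)
  set x := y⁻¹ * θ y with hx
  have hdx : x⁻¹ * θ x ∈ frattini ↥E := (hπ _).1 (hbot _ (by rw [← hδ, hx, ← hδ]; exact hdd _))
  have hxL : π x ∈ L := by rw [hx, ← hδ]; exact hd1 _
  have hyL : π y ∉ L := fun h => hy ((hπ _).1 (hbot _ (by rw [← hδ]; exact hd2 _ h)))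
  have hgp : ((g ^ p : normalizerIn S E) : Ω) ∈ E :=
    mem_of_trivial_frattini hS hF hess (g := g ^ p) fun v => (hπ _).1 (hbot _ (by
      rw [map_pow, Subgroup.coe_pow, ← hθ, map_mul, map_inv, ← hit, ← FusionEssential.RankTwo.delta_apply]
      exact FusionEssential.RankTwo.delta_pow_mem hHp hdd (π v)))
  have hdvd : ∀ {v : ↥E} {k : ℤ}, π v ^ k = 1 → v ∉ frattini ↥E → (p : ℤ) ∣ k := by
    intro v k hk hv
    rw [← orderOf_eq_prime (show π v ^ p = 1 by rw [← map_pow]; exact (hπ _).2 (PGroups.pow_mem_frattini hEp v))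
      (fun h => hv ((hπ v).1 h))]
    exact orderOf_dvd_iff_zpow_eq_one.2 hk
  have hind : ∀ i j : ℤ, x ^ i * y ^ j ∈ frattini ↥E → (p : ℤ) ∣ i ∧ (p : ℤ) ∣ j := by
    intro i j h
    have h1 : π x ^ i * π y ^ j = 1 := by rw [← map_zpow, ← map_zpow, ← map_mul]; exact (hπ _).2 h
    have hj : (p : ℤ) ∣ j := by
      by_contra hj
      obtain ⟨u, v, huv⟩ := ((Nat.prime_iff_prime_int.1 (Fact.out : p.Prime)).coprime_iff_not_dvd.2 hj)
      refine hyL ?_
      rw [← zpow_one (π y), ← huv, zpow_add, mul_comm u, zpow_mul, zpow_natCast, mul_comm v, zpow_mul,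
        ← inv_eq_of_mul_eq_one_right h1, show π y ^ p = 1 by
          rw [← map_pow]; exact (hπ _).2 (PGroups.pow_mem_frattini hEp y), one_zpow, one_mul]
      exact zpow_mem (inv_mem (zpow_mem hxL _)) v
    obtain ⟨t, rfl⟩ := hj
    rw [zpow_mul, zpow_natCast, show π y ^ p = 1 by
      rw [← map_pow]; exact (hπ _).2 (PGroups.pow_mem_frattini hEp y), one_zpow, mul_one] at h1
    exact ⟨hdvd h1 hy, dvd_mul_right _ _⟩
  have hgen : Subgroup.closure {x, y} = ⊤ := by
    refine frattini_nongenerating (by_contra fun hne => hyL ?_)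
    have h1 := eq_of_between hEp hi hy (le_sup_right : frattini ↥E ≤ Subgroup.closure {x, y} ⊔ frattini ↥E)
      (Subgroup.mem_sup_left (Subgroup.subset_closure (Or.inl rfl))) hne
    have h2 : y ∈ (L.comap π) := by
      refine (sup_le (Subgroup.zpowers_le.2 hxL) fun v hv => ?_ : Subgroup.zpowers x ⊔ frattini ↥E ≤ L.comap π)
        (h1.le (Subgroup.mem_sup_left (Subgroup.subset_closure (Or.inr rfl))))
      rw [Subgroup.mem_comap, (hπ v).2 hv]; exact one_mem _
    exact h2
  refine ⟨⟨θ, x, y, by rw [hx, mul_inv_cancel_left], hdx, hgen, hind, hi, ⟨⟨_, hgp⟩, MulEquiv.ext fun v => ?_⟩,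
    fun M hM hMi => FusionEssential.RankTwo.eq_or_eq_top hS hF hess hidx hM fun γ _ => hMi γ⟩, fun e => rfl⟩
  refine Subtype.ext ?_
  rw [hθ, ← Subgroup.coe_pow, ← map_pow, conjN_apply]
  rfl

/-- A two-generator essential subgroup is a pearl or of type `A`. -/
theorem pearl_or_typeA (hS : IsPGroup p S) (hF : F.IsSaturated p) (hp5 : 5 ≤ p) (hsr : SectionalPRankLE p 3 ↥S)
    (hess : F.IsEssential p E) (hidx : (frattini ↥E).index ≤ p ^ 2) : IsPearl p E ∨ TypeA S p E := by
  have hp : p.Prime := Fact.out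
  have hES : E ≤ S := hess.2.1.1
  haveI := finite_sub hES
  have hEp := isPGroup_of_le hS hES
  have hi := FusionEssential.RankTwo.index_eq hS hF hess hidx
  have hsrE : SectionalPRankLE p 3 ↥E :=
    sectional_of_injective (Subgroup.inclusion hES) (Subgroup.inclusion_injective hES) hsr
  obtain ⟨⟨n0, hn0⟩, hn0E⟩ := Resistant67.exists_normalizer_not_mem hS hF hess
  obtain ⟨T0, hT0⟩ := exists_mover hS hF hess hidx hn0 hn0E
  by_cases hC : psi p ↥E = ⊥
  · left
    obtain ⟨k, hk⟩ := IsPGroup.iff_card.1 hEp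
    have h3 := T0.card_le_of_psi_eq_bot hp5 hEp hC
    have h2 : p ^ 2 ≤ Nat.card E := hi ▸ Nat.le_of_dvd Nat.card_pos (frattini ↥E).index_dvd_card
    rw [hk, Nat.pow_le_pow_iff_right hp.one_lt] at h2 h3
    rcases (show k = 2 ∨ k = 3 by omega) with rfl | rfl
    · rcases FusionEssential.RankTwo.abelian_rank_two hS hF hess
        ⟨⟨IsPGroup.commutative_of_card_eq_prime_sq hk⟩⟩ hidx with h | ⟨h, -⟩
      · exact Or.inl h
      · omega
    · rcases Cfsg.Agent.S5186.result p hS F hF E hess hk with h | ⟨-, he, hx⟩ | ⟨h, -⟩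
      · exfalso
        have hΦ : frattini ↥E = ⊥ := by
          refine le_bot_iff.1 (PGroups.frattini_le_of_pow_commutator (p := p) ⊥ (fun v => ?_) ?_)
          · rw [Subgroup.mem_bot]; exact Subtype.ext (h.2 v v.2)
          · rw [_root_.commutator_def, Subgroup.commutator_le]
            intro a _ b _
            rw [Subgroup.mem_bot, commutatorElement_eq_one_iff_mul_comm]
            exact h.1.is_comm.comm a b
        rw [hΦ, Subgroup.index_bot, hk] at hi
        exact absurd (Nat.pow_right_injective hp.two_le hi) (by norm_num)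
      · exact Or.inr ⟨he, hk, hx⟩
      · omega
  right
  set N := normalizerIn S E with hN
  have hNS : N ≤ S := normalizerIn_le E
  have hEN : E ≤ N := le_normalizerIn hES
  haveI := finite_sub hNS
  have hNp := isPGroup_of_le hS hNS
  obtain ⟨hexp, hcent, -, hcard⟩ := T0.rich hp5 hEp hsrE hC
  have hmove : ∀ n ∈ N, n ∉ E → ∃ c ∈ (psi p ↥E).map E.subtype, n * c * n⁻¹ ≠ c := by
    intro n hn hnE
    obtain ⟨T, hT⟩ := exists_mover hS hF hess hidx hn hnE
    obtain ⟨-, -, ⟨c, hc, hne⟩, -⟩ := T.rich hp5 hEp hsrE hC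
    exact ⟨c, ⟨c, hc, rfl⟩, fun h => hne (Subtype.ext ((hT c).trans h))⟩
  -- the common line `M / Φ(E)`
  have hNconj : ∀ n ∈ N, ∀ e ∈ E, n * e * n⁻¹ ∈ E := fun n hn e he => conj_mem_of_normalizer hn.2 he
  set M := EssentialRankThree.layer p N E with hM
  have hME : M ≤ E := layer_le hNconj
  have hMn : ∀ n ∈ N, ∀ v ∈ M, n * v * n⁻¹ ∈ M := fun n hn v hv =>
    conj_mem_layer (Subgroup.le_normalizer hn) hn.2 hv
  have hΦM : phi E ≤ M := phi_le_of hEp (fun e he v hv _ => hMn e (hEN he) v hv) (fun v hv => pow_mem_layer hv)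
    (fun a ha b hb => comm_mem_layer ha (hEN hb))
  have hΦsub : frattini ↥E ≤ M.subgroupOf E := fun v hv => Subgroup.mem_subgroupOf.2 (hΦM (mem_phi.2 hv))
  have hx0 : (T0.x : Ω) = (T0.y : Ω)⁻¹ * n0 * T0.y * n0⁻¹ := by
    have h := hT0 T0.y
    rw [T0.fy, Subgroup.coe_mul] at h
    rw [mul_assoc (T0.y : Ω)⁻¹, mul_assoc (T0.y : Ω)⁻¹, ← h, inv_mul_cancel_left]
  have hx0M : (T0.x : Ω) ∈ M := by
    have h := comm_mem_layer (p := p) (E := N) (inv_mem T0.y.2) hn0
    rw [inv_inv, ← hx0] at h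
    exact h
  have hMtop : M.subgroupOf E ≠ ⊤ := fun h => by
    have hle : E ≤ (⊥ : Subgroup Ω) := le_of_le_sup_layer hNp hEN hNconj bot_le
      (fun _ _ r hr => by rw [Subgroup.mem_bot] at hr; subst hr; simp)
      fun f hf => ⟨1, one_mem _, f, Subgroup.mem_subgroupOf.1 (h.ge (Subgroup.mem_top (⟨f, hf⟩ : E))), (one_mul f).symm⟩
    exact T0.x_not_mem (by rw [show T0.x = 1 from Subtype.ext (Subgroup.mem_bot.1 (hle T0.x.2))]; exact one_mem _)
  have hMeq := eq_of_between hEp hi T0.x_not_mem hΦsub (Subgroup.mem_subgroupOf.2 hx0M) hMtop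
  have hM2 : EssentialRankThree.layer p N M ≤ phi E := by
    intro m hm
    by_contra hmΦ
    have hmE : m ∈ E := hME (layer_le hMn hm)
    have hmnot : (⟨m, hmE⟩ : E) ∉ frattini ↥E := fun h => hmΦ (mem_phi.2 h)
    have hMeq' := eq_of_between hEp hi hmnot hΦsub (Subgroup.mem_subgroupOf.2 (layer_le hMn hm)) hMtop
    refine T0.x_not_mem (mem_phi.1 (le_of_le_sup_layer hNp (hME.trans hEN) hMn ((phi_le E).trans hEN)
      (fun n hn r hr => conj_mem_phi hn.2 hr) (fun f hf => ?_) hx0M))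
    obtain ⟨a, ha, r, hr, he⟩ := Subgroup.mem_sup_of_normal_right.1
      (hMeq'.le (Subgroup.mem_subgroupOf.2 hf : (⟨f, hME hf⟩ : E) ∈ M.subgroupOf E))
    obtain ⟨k, rfl⟩ := Subgroup.mem_zpowers_iff.1 ha
    refine ⟨m ^ k * (r : Ω) * (m ^ k)⁻¹, conj_mem_phi (Subgroup.le_normalizer (E.zpow_mem hmE k)) (mem_phi.2 hr),
      m ^ k, zpow_mem hm k, ?_⟩
    rw [inv_mul_cancel_right]
    exact (congrArg Subtype.val he).symm
  have hMt : ∀ n ∈ N, ∀ f ∈ M, f⁻¹ * (n * f * n⁻¹) ∈ phi E := fun n hn f hf => by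
    have := hM2 (comm_mem_layer (p := p) (inv_mem hf) hn)
    rwa [inv_inv, show f⁻¹ * n * f * n⁻¹ = f⁻¹ * (n * f * n⁻¹) by group] at this
  -- `N` is generated by `y` and `n0`
  let π := QuotientGroup.mk' (frattini ↥E)
  have hπ : ∀ v, π v = 1 ↔ v ∈ frattini ↥E := fun v => QuotientGroup.eq_one_iff v
  have hθpow : ∀ (k : ℕ) (v : E), (((T0.θ ^ k) v : E) : Ω) = n0 ^ k * v * (n0 ^ k)⁻¹ := by
    intro k
    induction k with
    | zero => intro v; simp
    | succ k ih => intro v; rw [pow_succ, MulAut.mul_apply, ih, hT0, pow_succ]; group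
  have hπx : π (T0.θ T0.x) = π T0.x := by
    rw [← mul_inv_cancel_left T0.x (T0.θ T0.x), map_mul, (hπ _).2 T0.dx, mul_one]
  have hπk : ∀ k : ℕ, π ((T0.θ ^ k) T0.x) = π T0.x ∧ π ((T0.θ ^ k) T0.y) = π T0.y * π T0.x ^ k := by
    intro k
    induction k with
    | zero => simp
    | succ k ih =>
      have h1 : ∀ v w, π v = π w → π (T0.θ v) = π (T0.θ w) := fun v w h => by
        have h2 := aut_mem_frattini T0.θ ((hπ _).1 (show π (v⁻¹ * w) = 1 by rw [map_mul, map_inv, h, inv_mul_cancel]))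
        rw [map_mul, map_inv, ← hπ, map_mul, map_inv, inv_mul_eq_one] at h2
        exact h2
      refine ⟨?_, ?_⟩
      · rw [pow_succ', MulAut.mul_apply, h1 _ _ ih.1, hπx]
      · rw [pow_succ', MulAut.mul_apply, h1 _ (T0.y * T0.x ^ k) (by rw [ih.2, map_mul, map_pow]), map_mul,
          map_mul π, map_pow T0.θ, map_pow, hπx, T0.fy, map_mul, mul_assoc, ← pow_succ']
  have hdec : ∀ n ∈ N, ∃ (k : ℕ), ∃ e ∈ E, n = n0 ^ k * e := by
    intro n hn
    have hmM : (T0.y : Ω)⁻¹ * n * T0.y * n⁻¹ ∈ M := by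
      have h := comm_mem_layer (p := p) (E := N) (inv_mem T0.y.2) hn
      rwa [inv_inv] at h
    obtain ⟨a, ha, r, hr, he⟩ := Subgroup.mem_sup_of_normal_right.1
      (hMeq.le (Subgroup.mem_subgroupOf.2 hmM : (⟨_, hME hmM⟩ : E) ∈ M.subgroupOf E))
    obtain ⟨k, rfl⟩ := (isOfFinOrder_of_finite T0.x).mem_powers_iff_mem_zpowers.2 ha
    set cn : MulAut E := (conjN F hES ⟨n, hn⟩ : MulAut E)
    have heq : ∀ v, π (cn v) = π ((T0.θ ^ k) v) := by
      have h : MonoidHom.eqLocus (π.comp cn.toMonoidHom) (π.comp (T0.θ ^ k).toMonoidHom) = ⊤ := by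
        refine T0.eq_top_of_mem ?_ ?_
        · show π (cn T0.x) = π ((T0.θ ^ k) T0.x)
          rw [(hπk k).1]
          refine (inv_mul_eq_one.1 ?_).symm
          rw [← map_inv, ← map_mul, hπ, ← mem_phi]
          exact hMt n hn _ hx0M
        · show π (cn T0.y) = π ((T0.θ ^ k) T0.y)
          rw [(hπk k).2, show cn T0.y = T0.y * (T0.x ^ k * r) from Subtype.ext (by
            show n * (T0.y : Ω) * n⁻¹ = T0.y * _
            rw [show ((T0.x ^ k * r : E) : Ω) = (T0.y : Ω)⁻¹ * n * T0.y * n⁻¹ from congrArg Subtype.val he]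
            group), map_mul, map_mul, (hπ r).2 hr, mul_one, map_pow]
      exact fun v => h.ge (Subgroup.mem_top v)
    have hn' : (n0 ^ k)⁻¹ * n ∈ N := N.mul_mem (N.inv_mem (N.pow_mem hn0 k)) hn
    refine ⟨k, _, mem_of_trivial_frattini hS hF hess (g := ⟨_, hn'⟩) fun v => ?_, (mul_inv_cancel_left _ _).symm⟩
    obtain ⟨w, hw⟩ : ∃ w, w = (conjN F hES ⟨(n0 ^ k)⁻¹ * n, hn'⟩ : MulAut E) v := ⟨_, rfl⟩
    rw [← hw]
    have h1 : (T0.θ ^ k) w = cn v := Subtype.ext (by
      rw [hθpow, hw, conjN_apply]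
      show n0 ^ k * ((n0 ^ k)⁻¹ * n * v * ((n0 ^ k)⁻¹ * n)⁻¹) * (n0 ^ k)⁻¹ = n * v * n⁻¹
      group)
    have h2 : (T0.θ ^ k) (v⁻¹ * w) ∈ frattini ↥E := by
      rw [← hπ, map_mul, map_mul π, map_inv, map_inv, h1, heq, inv_mul_cancel]
    have h3 := aut_mem_frattini (T0.θ ^ k)⁻¹ h2
    rwa [MulAut.inv_apply_self] at h3
  have hclE : E ≤ Subgroup.closure {(T0.y : Ω), n0} := by
    intro e he
    have hx : (T0.x : Ω) ∈ Subgroup.closure {(T0.y : Ω), n0} := by
      rw [hx0]
      have hy := Subgroup.subset_closure (k := {(T0.y : Ω), n0}) (Or.inl rfl)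
      have hn := Subgroup.subset_closure (k := {(T0.y : Ω), n0}) (Or.inr rfl)
      exact mul_mem (mul_mem (mul_mem (inv_mem hy) hn) hy) (inv_mem hn)
    exact ((T0.eq_top_of_mem (M := (Subgroup.closure {(T0.y : Ω), n0}).comap E.subtype) hx
      (Subgroup.subset_closure (Or.inl rfl))).ge (Subgroup.mem_top (⟨e, he⟩ : E)))
  have hgenN : N = Subgroup.closure {(T0.y : Ω), n0} := by
    refine le_antisymm (fun n hn => ?_) ((Subgroup.closure_le _).2 ?_)
    · obtain ⟨k, e, he, rfl⟩ := hdec n hn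
      exact mul_mem (pow_mem (Subgroup.subset_closure (k := {(T0.y : Ω), n0}) (Or.inr rfl)) k) (hclE he)
    · rintro v (rfl | rfl)
      exacts [hEN T0.y.2, hn0]
  -- the lower central series of `N`
  have hl1 : N.lowerCentralSeries 1 ≤ M := by
    rw [Subgroup.lowerCentralSeries_succ, Subgroup.lowerCentralSeries_zero, Subgroup.commutator_le]
    haveI : (M.subgroupOf N).Normal := ⟨fun v hv n => Subgroup.mem_subgroupOf.2
      (hMn n n.2 v (Subgroup.mem_subgroupOf.1 hv))⟩
    let q := QuotientGroup.mk' (M.subgroupOf N)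
    have hgen' : Subgroup.closure {q ⟨T0.y, hEN T0.y.2⟩, q ⟨n0, hn0⟩} = ⊤ := by
      have h : Subgroup.closure {(⟨T0.y, hEN T0.y.2⟩ : N), ⟨n0, hn0⟩} = ⊤ := by
        apply Subgroup.map_injective N.subtype_injective
        rw [MonoidHom.map_closure, Set.image_pair, ← MonoidHom.range_eq_map, Subgroup.range_subtype]
        exact hgenN.symm
      have := congrArg (Subgroup.map q) h
      rwa [MonoidHom.map_closure, Set.image_pair, Subgroup.map_top_of_surjective q (QuotientGroup.mk'_surjective _)]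
        at this
    intro a ha b hb
    have hc : Commute (q ⟨a, ha⟩) (q ⟨b, hb⟩) := by
      refine commute_of_pair hgen' (commutatorElement_eq_one_iff_commute.1 ?_) _ _
      rw [← map_commutatorElement]
      exact (QuotientGroup.eq_one_iff _).2 (Subgroup.mem_subgroupOf.2 (comm_mem_layer T0.y.2 hn0))
    rw [← commutatorElement_eq_one_iff_commute, ← map_commutatorElement] at hc
    exact Subgroup.mem_subgroupOf.1 ((QuotientGroup.eq_one_iff _).1 hc)
  have hl2 : N.lowerCentralSeries 2 ≤ phi E := by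
    rw [Subgroup.lowerCentralSeries_succ]
    refine (Subgroup.commutator_mono hl1 le_rfl).trans (Subgroup.commutator_le.2 fun a ha b hb => hM2 ?_)
    exact comm_mem_layer ha hb
  have hl3 : N.lowerCentralSeries 3 ≤ (psi p ↥E).map E.subtype := by
    rw [Subgroup.lowerCentralSeries_succ]
    refine (Subgroup.commutator_mono hl2 le_rfl).trans (Subgroup.commutator_le.2 ?_)
    rintro _ ⟨f, hf, rfl⟩ b hb
    by_cases hbE : b ∈ E
    · exact ⟨f * ⟨b, hbE⟩ * f⁻¹ * (⟨b, hbE⟩ : E)⁻¹, comm_mem_layer hf (Subgroup.mem_top _), rfl⟩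
    · obtain ⟨T, hT⟩ := exists_mover hS hF hess hidx hb hbE
      refine ⟨_, T.fix_mod hp5 hEp T.fy T.dx (inv_mem hf), ?_⟩
      show ((f⁻¹⁻¹ * T.θ f⁻¹ : E) : Ω) = ⁅(f : Ω), b⁆
      rw [Subgroup.coe_mul, hT, inv_inv, Subgroup.coe_inv, commutatorElement_def]
      group
  have hg1 : (T0.x : Ω) ∈ N.lowerCentralSeries 1 := by
    rw [Subgroup.lowerCentralSeries_succ, Subgroup.lowerCentralSeries_zero, hx0]
    have := Subgroup.commutator_mem_commutator (inv_mem (hEN T0.y.2)) hn0
    rwa [commutatorElement_def, inv_inv] at this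
  have hg2 : phi E ≤ N.lowerCentralSeries 2 := by
    rintro _ ⟨f, hf, rfl⟩
    haveI : ((N.lowerCentralSeries 2).subgroupOf E).Normal := ⟨fun v hv e => by
      rw [Subgroup.mem_subgroupOf] at hv ⊢
      have h3 : ⁅(e : Ω), (v : Ω)⁆ ∈ N.lowerCentralSeries 2 := by
        have h4 : ⁅(v : Ω), (e : Ω)⁆ ∈ N.lowerCentralSeries 3 := by
          rw [Subgroup.lowerCentralSeries_succ]
          exact Subgroup.commutator_mem_commutator hv (hEN e.2)
        rw [← commutatorElement_inv]
        exact inv_mem (Subgroup.lowerCentralSeries_antitone _ (by norm_num) h4)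
      have := mul_mem h3 hv
      rwa [commutatorElement_def, inv_mul_cancel_right] at this⟩
    let q := QuotientGroup.mk' ((N.lowerCentralSeries 2).subgroupOf E)
    have hK := commutator_le_ker q fun a b => by
      refine commute_of_pair (T0.map_gen q (QuotientGroup.mk'_surjective _))
        (commutatorElement_eq_one_iff_commute.1 ?_) _ _
      rw [← map_commutatorElement]
      refine (QuotientGroup.eq_one_iff _).2 (Subgroup.mem_subgroupOf.2 ?_)
      rw [Subgroup.lowerCentralSeries_succ]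
      exact Subgroup.commutator_mem_commutator hg1 (hEN T0.y.2)
    rw [QuotientGroup.ker_mk'] at hK
    exact Subgroup.mem_subgroupOf.1 (hK (T0.frattini_le_commutator hp5 hEp hf))
  have hg3 : (psi p ↥E).map E.subtype ≤ N.lowerCentralSeries 3 := by
    rw [Subgroup.map_le_iff_le_comap]
    show EssentialRankThree.layer p ⊤ (frattini ↥E) ≤ _
    rw [EssentialRankThree.layer, Subgroup.closure_le]
    rintro _ (⟨f, -, rfl⟩ | ⟨f, hf, e, -, rfl⟩)
    · rw [SetLike.mem_coe, hexp f]; exact one_mem _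
    · rw [SetLike.mem_coe, Subgroup.mem_comap, Subgroup.lowerCentralSeries_succ]
      exact Subgroup.commutator_mem_commutator (hg2 (mem_phi.2 hf)) (hEN e.2)
  have hlcs : N.lowerCentralSeries 3 = (psi p ↥E).map E.subtype := le_antisymm hl3 hg3
  -- `N = S`
  have hNeq : N = S := by
    by_contra hne
    obtain ⟨g, hg, hgN⟩ := SetLike.exists_of_lt (normalizerIn_ne_of_lt hS (lt_of_le_of_ne hNS hne))
    have hgmap : ∀ c ∈ N.lowerCentralSeries 3, g⁻¹ * c * g ∈ N.lowerCentralSeries 3 := by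
      intro c hc
      have hmem : (MulAut.conj g⁻¹).toMonoidHom c ∈ (N.lowerCentralSeries 3).map (MulAut.conj g⁻¹).toMonoidHom :=
        Subgroup.mem_map_of_mem _ hc
      have hmap : N.map (MulAut.conj g⁻¹).toMonoidHom = N := by
        ext v
        constructor
        · rintro ⟨w, hw, rfl⟩
          have := conj_mem_of_normalizer (inv_mem hg.2) hw
          simpa using this
        · intro hv
          exact ⟨g * v * g⁻¹, conj_mem_of_normalizer hg.2 hv, by simp [mul_assoc]⟩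
      rw [Subgroup.map_lowerCentralSeries, hmap] at hmem
      simpa [mul_assoc] using hmem
    refine hgN ⟨hg.1, mem_normalizer_of_conj_mem fun e he => ?_⟩
    by_contra hne'
    obtain ⟨c, hc, hcne⟩ := hmove _ (conj_mem_of_normalizer hg.2 (hEN he)) hne'
    rw [← hlcs] at hc
    have h1 := hgmap c hc
    rw [hlcs] at h1
    obtain ⟨c', hc', he'⟩ := h1
    have h2 : (c' : Ω) * e = e * c' := congrArg Subtype.val (hcent c' hc' ⟨e, he⟩).eq
    refine hcne ?_
    have hc2 : c = g * (c' : Ω) * g⁻¹ := by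
      rw [show (c' : Ω) = g⁻¹ * c * g from he']; group
    rw [hc2]
    calc g * e * g⁻¹ * (g * c' * g⁻¹) * (g * e * g⁻¹)⁻¹ = g * (e * c') * e⁻¹ * g⁻¹ := by group
      _ = g * (c' * e) * e⁻¹ * g⁻¹ := by rw [h2]
      _ = g * c' * g⁻¹ := by group
  refine ⟨fun s hs => (hNeq.ge hs : s ∈ N).2, ⟨_, _, hNeq.symm.trans hgenN⟩, hNeq ▸ hlcs, hC, ?_,
    fun e he => congrArg Subtype.val (hexp ⟨e, he⟩), fun A hEA hAS hAE => ?_⟩
  rotate_left
  · obtain ⟨n, hnA, hnE⟩ := SetLike.exists_of_lt (lt_of_le_of_ne hEA (Ne.symm hAE))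
    obtain ⟨g0, hg0⟩ := T0.inner
    have hn0p : n0 ^ p ∈ E := mem_of_trivial_frattini hS hF hess (g := ⟨n0 ^ p, N.pow_mem hn0 p⟩) fun v => by
      rw [show (conjN F hES ⟨n0 ^ p, N.pow_mem hn0 p⟩ : MulAut E) v = g0 * v * g0⁻¹ from Subtype.ext (by
        have h : ((MulAut.conj g0 v : E) : Ω) = n0 ^ p * v * (n0 ^ p)⁻¹ := by rw [← hg0, hθpow]
        rw [conjN_apply]; exact h.symm)]
      simpa [commutatorElement_def, mul_assoc] using PGroups.commutatorElement_mem_frattini hEp v⁻¹ g0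
    obtain ⟨k, e, he, rfl⟩ := hdec n (hNeq.ge (hAS hnA))
    have hk : ¬ p ∣ k := by
      rintro ⟨t, rfl⟩
      exact hnE (E.mul_mem (by rw [pow_mul]; exact E.pow_mem hn0p t) he)
    have hkA : n0 ^ k ∈ A := by
      have := A.mul_mem hnA (A.inv_mem (hEA he))
      rwa [mul_inv_cancel_right] at this
    obtain ⟨u, v, huv⟩ := Int.isCoprime_iff_gcd_eq_one.2 (show Int.gcd k p = 1 by
      exact_mod_cast (hp.coprime_iff_not_dvd.2 hk).symm)
    refine le_antisymm hAS (hNeq.ge.trans (hgenN.le.trans ((Subgroup.closure_le _).2 ?_)))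
    rintro w (rfl | rfl)
    · exact hEA T0.y.2
    · have h := A.mul_mem (A.zpow_mem hkA u) (A.zpow_mem (hEA hn0p) v)
      rwa [← zpow_natCast, ← zpow_natCast w p, ← zpow_mul, ← zpow_mul, ← zpow_add, mul_comm (k : ℤ),
        mul_comm (p : ℤ), huv, zpow_one] at h
  have hlt : E.subgroupOf S < ⊤ := lt_top_iff_ne_top.2 fun h =>
    hn0E (Subgroup.subgroupOf_eq_top.1 h hn0.1)
  have h1 := PGroupTheory.prime_mul_index_le hS hlt
  rw [Subgroup.index_top, mul_one] at h1
  rw [← (E.subgroupOf S).card_mul_index, Nat.card_congr (Subgroup.subgroupOfEquivOfLe hES).toEquiv, pow_succ]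
  exact Nat.mul_le_mul hcard h1

end Cfsg.Agent.Lib.SectionalThree
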