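import Cfsg.Agent.Lib.SectionalThree.Formulas
import Cfsg.Agent.Lib.FusionEssential.RankTwoGroup

/-!
# Two-generator groups with an automorphism moving the Frattini quotient

For `p ≥ 5` and sectional rank at most three, a two-generator `p`-group whose characteristic subgroups above the
Frattini subgroup are trivial, with an automorphism `θ` acting as a nontrivial unipotent on the Frattini quotient
and `θ ^ p` inner, has order at most `p ^ 3` or has exponent `p` and a central second layer moved by `θ`.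
-/

set_option autoImplicit false
set_option linter.style.haveILetI false
set_option linter.unusedSectionVars false
set_option maxHeartbeats 800000

namespace Cfsg.Agent.Lib.SectionalThree

open Cfsg Cfsg.Agent.Lib Cfsg.Agent.Lib.EssentialRankThree
open scoped commutatorElement

universe u

variable {p : ℕ} [Fact p.Prime] {G : Type u} [Group G] [Finite G]

/-- An automorphism moving the Frattini quotient of a two-generator group. -/
structure Mover (p : ℕ) (G : Type u) [Group G] where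
  /-- The automorphism. -/
  θ : MulAut G
  /-- The fixed generator. -/
  x : G
  /-- The moved generator. -/
  y : G
  fy : θ y = y * x
  dx : x⁻¹ * θ x ∈ frattini G
  gen : Subgroup.closure {x, y} = ⊤
  indep : ∀ i j : ℤ, x ^ i * y ^ j ∈ frattini G → (p : ℤ) ∣ i ∧ (p : ℤ) ∣ j
  idx : (frattini G).index = p ^ 2
  inner : ∃ g, θ ^ p = MulAut.conj g
  irr : ∀ M : Subgroup G, frattini G ≤ M → (∀ α : MulAut G, ∀ v ∈ M, α v ∈ M) → M = frattini G ∨ M = ⊤

theorem commute_of_pair {Q : Type*} [Group Q] {a b : Q} (h : Subgroup.closure {a, b} = ⊤) (hab : Commute a b)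
    (u v : Q) : Commute u v := by
  have hc : IsMulCommutative (Subgroup.closure ({a, b} : Set Q)) := Subgroup.isMulCommutative_closure (by
    rintro s (rfl | rfl) t (rfl | rfl)
    · rfl
    · exact hab.eq
    · exact hab.eq.symm
    · rfl)
  exact congrArg Subtype.val (hc.is_comm.comm ⟨u, h.ge trivial⟩ ⟨v, h.ge trivial⟩)

/-- Conjugation by powers when the displacement is central. -/
theorem pow_conj_central {Q : Type*} [Group Q] {u v c : Q} (h : u * v * u⁻¹ = c * v) (hc : ∀ w, Commute c w)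
    (n : ℕ) : u ^ n * v * (u ^ n)⁻¹ = c ^ n * v := by
  induction n with
  | zero => simp
  | succ n ih =>
    calc u ^ (n + 1) * v * (u ^ (n + 1))⁻¹ = u * (u ^ n * v * (u ^ n)⁻¹) * u⁻¹ := by rw [pow_succ']; group
      _ = u * c ^ n * (v * u⁻¹) := by rw [ih]; group
      _ = c ^ n * u * (v * u⁻¹) := by rw [((hc u).pow_left n).eq]
      _ = c ^ n * (u * v * u⁻¹) := by group
      _ = c ^ (n + 1) * v := by rw [h, pow_succ]; group

/-- A hom with central image kills commutators. -/
theorem commutator_le_ker {Q : Type*} [Group Q] (f : G →* Q) (hf : ∀ a b, Commute (f a) (f b)) :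
    commutator G ≤ f.ker := by
  rw [_root_.commutator_def, Subgroup.commutator_le]
  intro a _ b _
  rw [MonoidHom.mem_ker, map_commutatorElement]
  exact commutatorElement_eq_one_iff_commute.2 (hf a b)

instance psi_normal : (psi p G).Normal := ⟨fun _ hv g => aut_mem_psi (MulAut.conj g) hv⟩

theorem central_mod_psi {f : G} (hf : f ∈ frattini G) (g : G) :
    Commute (QuotientGroup.mk' (psi p G) f) (QuotientGroup.mk' (psi p G) g) := by
  refine commutatorElement_eq_one_iff_commute.1 ?_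
  rw [← map_commutatorElement]
  exact (QuotientGroup.eq_one_iff _).2 (comm_mem_layer hf (Subgroup.mem_top g))

namespace Mover

variable (T : Mover p G)
include T

theorem x_not_mem : T.x ∉ frattini G := fun h => by
  have h1 := (T.indep 1 0 (by simpa using h)).1
  have := Int.le_of_dvd one_pos h1
  have := (Fact.out : p.Prime).two_le
  omega

theorem map_gen {Q : Type*} [Group Q] (f : G →* Q) (hf : Function.Surjective f) :
    Subgroup.closure {f T.x, f T.y} = ⊤ := by
  have h := congrArg (Subgroup.map f) T.gen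
  rw [MonoidHom.map_closure, Set.image_pair, Subgroup.map_top_of_surjective f hf] at h
  exact h

theorem eq_top_of_mem {M : Subgroup G} (hx : T.x ∈ M) (hy : T.y ∈ M) : M = ⊤ := by
  rw [eq_top_iff, ← T.gen, Subgroup.closure_le]
  rintro v (rfl | rfl)
  exacts [hx, hy]

theorem top_of_char {M : Subgroup G} (hM : frattini G ≤ M) (hi : ∀ α : MulAut G, ∀ v ∈ M, α v ∈ M) (hx : T.x ∈ M) :
    M = ⊤ :=
  (T.irr M hM hi).resolve_left fun h => T.x_not_mem (h.le hx)

/-- All `p`-th powers are products of commutators. -/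
theorem pow_mem_commutator (hp5 : 5 ≤ p) (hG : IsPGroup p G) (g : G) : g ^ p ∈ commutator G := by
  let o : G →* Abelianization G := Abelianization.of
  have hs : Function.Surjective o := QuotientGroup.mk_surjective
  have ho : ∀ v, o v = 1 ↔ v ∈ commutator G := fun v => QuotientGroup.eq_one_iff v
  haveI : Finite (Abelianization G) := Finite.of_surjective o hs
  have hH : IsPGroup p (Abelianization G) := hG.of_surjective o hs
  have hΦ : ∀ v, o v ∈ frattini (Abelianization G) ↔ v ∈ frattini G := by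
    intro v
    constructor
    · intro hv
      obtain ⟨w, hw⟩ := (FusionEssential.RankTwo.frattini_eq hH _).1 hv
      obtain ⟨w, rfl⟩ := hs w
      have h1 : (w ^ p)⁻¹ * v ∈ commutator G := (ho _).1 (by rw [map_mul, map_inv, map_pow, hw, inv_mul_cancel])
      have := mul_mem (PGroups.pow_mem_frattini hG w) (PGroups.commutator_le_frattini hG h1)
      rwa [mul_inv_cancel_left] at this
    · refine fun hv => PGroups.frattini_le_of_pow_commutator (p := p) ((frattini (Abelianization G)).comap o)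
        (fun w => ?_) (fun w hw => ?_) hv
      · rw [Subgroup.mem_comap, map_pow]; exact PGroups.pow_mem_frattini hH _
      · rw [Subgroup.mem_comap, (ho w).2 hw]; exact one_mem _
  let θ' : MulAut (Abelianization G) := MulEquiv.abelianizationCongr T.θ
  have hθ' : ∀ v, θ' (o v) = o (T.θ v) := fun v => rfl
  have hθp : θ' ^ p = 1 := by
    have hit : ∀ (n : ℕ) v, (θ' ^ n) (o v) = o ((T.θ ^ n) v) := by
      intro n
      induction n with
      | zero => intro v; rfl
      | succ n ih => intro v; rw [pow_succ, MulAut.mul_apply, hθ', ih, pow_succ, MulAut.mul_apply]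
    obtain ⟨g0, hg0⟩ := T.inner
    refine MulEquiv.ext fun w => ?_
    obtain ⟨v, rfl⟩ := hs w
    rw [hit, hg0, MulAut.conj_apply, map_mul, map_mul, map_inv, mul_comm (o g0), mul_inv_cancel_right]
    rfl
  have hδ : ∀ v, FusionEssential.RankTwo.delta θ' (o v) = o (v⁻¹ * T.θ v) := fun v => by
    rw [FusionEssential.RankTwo.delta_apply, hθ', map_mul, map_inv]
  have h2 : ∀ w, FusionEssential.RankTwo.delta θ' (FusionEssential.RankTwo.delta θ' w) ∈
      frattini (Abelianization G) := by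
    intro w
    obtain ⟨v, rfl⟩ := hs w
    have hM : (frattini (Abelianization G)).comap
        (((FusionEssential.RankTwo.delta θ').comp (FusionEssential.RankTwo.delta θ')).comp o) = ⊤ := by
      refine T.eq_top_of_mem ?_ ?_ <;> rw [Subgroup.mem_comap, MonoidHom.comp_apply, MonoidHom.comp_apply, hδ]
      · exact FusionEssential.RankTwo.delta_frattini hH θ' ((hΦ _).2 T.dx)
      · rw [T.fy, inv_mul_cancel_left, hδ]; exact (hΦ _).2 T.dx
    exact hM.ge (Subgroup.mem_top v)
  have hex : ∃ a : Abelianization G, a ^ p = 1 ∧ a ∉ frattini (Abelianization G) := by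
    by_contra h
    push Not at h
    refine T.x_not_mem ((hΦ _).1 ?_)
    have := FusionEssential.RankTwo.delta_mem_of_five_le hH hp5 hθp h2 h (o T.y)
    rwa [hδ, T.fy, inv_mul_cancel_left] at this
  obtain ⟨a, ha, haΦ⟩ := hex
  set M := ((powMonoidHom p : Abelianization G →* Abelianization G).ker ⊔ frattini (Abelianization G)).comap o
  have hMtop : M = ⊤ := by
    refine (T.irr M (fun v hv => Subgroup.mem_sup_right ((hΦ v).2 hv)) fun α v hv => ?_).resolve_left fun h => ?_
    · rw [Subgroup.mem_comap, show o (α v) = (MulEquiv.abelianizationCongr α : MulAut _) (o v) from rfl]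
      obtain ⟨b, hb, f, hf, he⟩ := Subgroup.mem_sup.1 (Subgroup.mem_comap.1 hv)
      rw [← he, map_mul]
      refine Subgroup.mul_mem_sup ?_ (Resistant67.aut_mem_frattini _ hf)
      rw [MonoidHom.mem_ker, powMonoidHom_apply, ← map_pow, show b ^ p = 1 from hb, map_one]
    · obtain ⟨v, rfl⟩ := hs a
      exact haΦ ((hΦ v).2 (h.le (Subgroup.mem_sup_left ha)))
  have hstep : ∀ w : Abelianization G, ∃ w', w ^ p = w' ^ p ^ 2 := fun w => by
    obtain ⟨v, rfl⟩ := hs w
    obtain ⟨b, hb, f, hf, he⟩ := Subgroup.mem_sup.1 (Subgroup.mem_comap.1 (hMtop.ge (Subgroup.mem_top v)))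
    obtain ⟨w', rfl⟩ := (FusionEssential.RankTwo.frattini_eq hH f).1 hf
    exact ⟨w', by rw [← he, mul_pow, show b ^ p = 1 from hb, one_mul, ← pow_mul, sq]⟩
  have hiter : ∀ n, ∀ w : Abelianization G, ∃ w', w ^ p = w' ^ p ^ (n + 1) := by
    intro n
    induction n with
    | zero => exact fun w => ⟨w, by rw [zero_add, pow_one]⟩
    | succ n ih =>
      intro w
      obtain ⟨w1, h1⟩ := ih w
      obtain ⟨w2, h3⟩ := hstep w1
      refine ⟨w2, ?_⟩
      rw [h1, pow_succ' p n, pow_mul, h3, ← pow_mul, ← pow_add]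
      congr 2; omega
  obtain ⟨e, he⟩ := IsPGroup.iff_card.1 hH
  obtain ⟨w', hw'⟩ := hiter e (o g)
  refine (ho _).1 ?_
  rw [map_pow, hw', pow_succ, pow_mul, ← he, pow_card_eq_one', one_pow]

theorem frattini_le_commutator (hp5 : 5 ≤ p) (hG : IsPGroup p G) : frattini G ≤ commutator G :=
  PGroups.frattini_le_of_pow_commutator (p := p) _ (T.pow_mem_commutator hp5 hG) le_rfl

/-- The commutator of the generators. -/
def z : G := T.x * T.y * T.x⁻¹ * T.y⁻¹

theorem z_mem (hG : IsPGroup p G) : T.z ∈ frattini G := PGroups.commutatorElement_mem_frattini hG T.x T.y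

theorem exists_zc (hp5 : 5 ≤ p) (hG : IsPGroup p G) {f : G} (hf : f ∈ frattini G) :
    ∃ n : ℕ, ∃ c ∈ psi p G, f = T.z ^ n * c := by
  set N := Subgroup.zpowers T.z ⊔ psi p G
  have hNΦ : N ≤ frattini G := sup_le (Subgroup.zpowers_le.2 (T.z_mem hG)) (psi_le G)
  haveI : N.Normal := ⟨fun v hv g => by
    have h1 : g * v * g⁻¹ * v⁻¹ ∈ N := Subgroup.mem_sup_right (comm_mem_layer' (hNΦ hv) (Subgroup.mem_top g))
    have := mul_mem h1 hv
    rwa [inv_mul_cancel_right] at this⟩
  have hK : commutator G ≤ N := by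
    have h := commutator_le_ker (QuotientGroup.mk' N) fun a b => by
      refine commute_of_pair (T.map_gen _ (QuotientGroup.mk'_surjective N)) ?_ _ _
      refine commutatorElement_eq_one_iff_commute.1 ?_
      rw [← map_commutatorElement]
      exact (QuotientGroup.eq_one_iff _).2 (Subgroup.mem_sup_left (Subgroup.mem_zpowers T.z))
    rwa [QuotientGroup.ker_mk'] at h
  obtain ⟨u, hu, c, hc, he⟩ := Subgroup.mem_sup_of_normal_right.1 (hK (T.frattini_le_commutator hp5 hG hf))
  obtain ⟨n, rfl⟩ := (isOfFinOrder_of_finite T.z).mem_powers_iff_mem_zpowers.2 hu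
  exact ⟨n, c, hc, he.symm⟩

/-- An automorphism sending `y` to `y x` and fixing `x` modulo `Φ` fixes `Φ` modulo the second layer. -/
theorem fix_mod (hp5 : 5 ≤ p) (hG : IsPGroup p G) {θ : MulAut G} (hy : θ T.y = T.y * T.x)
    (hx : T.x⁻¹ * θ T.x ∈ frattini G) {f : G} (hf : f ∈ frattini G) : f⁻¹ * θ f ∈ psi p G := by
  let π := QuotientGroup.mk' (psi p G)
  have hπ : ∀ v, π v = 1 ↔ v ∈ psi p G := fun v => QuotientGroup.eq_one_iff v
  have hz : π (θ T.z) = π T.z := by
    obtain ⟨k, hk⟩ : ∃ k, k = T.x⁻¹ * θ T.x := ⟨_, rfl⟩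
    have hθx : θ T.x = T.x * k := by rw [hk, mul_inv_cancel_left]
    have hc : ∀ g, Commute (π k) (π g) := central_mod_psi (hk ▸ hx)
    simp only [z, map_mul, map_inv, hy, hθx]
    calc π T.x * π k * (π T.y * π T.x) * (π T.x * π k)⁻¹ * (π T.y * π T.x)⁻¹
        = π T.x * (π k * (π T.y * π T.x)) * (π k)⁻¹ * (π T.x)⁻¹ * ((π T.x)⁻¹ * (π T.y)⁻¹) := by group
      _ = π T.x * (π T.y * π T.x * π k) * (π k)⁻¹ * (π T.x)⁻¹ * ((π T.x)⁻¹ * (π T.y)⁻¹) := by
          rw [← map_mul, (hc _).eq]
      _ = π T.x * π T.y * (π T.x)⁻¹ * (π T.y)⁻¹ := by group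
  obtain ⟨n, c, hc, rfl⟩ := T.exists_zc hp5 hG hf
  refine (hπ _).1 ?_
  rw [map_mul, map_inv, map_mul θ, map_mul π, map_mul π, map_pow θ, map_pow π, map_pow π, hz, (hπ c).2 hc,
    (hπ _).2 (aut_mem_psi θ hc), mul_one, inv_mul_cancel]

/-- All `p`-th powers lie in the second layer. -/
theorem pow_mem_psi (hp5 : 5 ≤ p) (hG : IsPGroup p G) (g : G) : g ^ p ∈ psi p G := by
  let π := QuotientGroup.mk' (psi p G)
  have hπ : ∀ v, π v = 1 ↔ v ∈ psi p G := fun v => QuotientGroup.eq_one_iff v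
  have hmul : ∀ a b : G, π ((a * b) ^ p) = π (a ^ p) * π (b ^ p) := fun a b => by
    have hk : b * a * b⁻¹ * a⁻¹ ∈ frattini G := PGroups.commutatorElement_mem_frattini hG b a
    have hc : ∀ v, Commute (π b * π a * (π b)⁻¹ * (π a)⁻¹) (π v) := fun v => by
      rw [← map_inv, ← map_inv, ← map_mul, ← map_mul, ← map_mul]; exact central_mod_psi hk v
    have h1 : (π b * π a * (π b)⁻¹ * (π a)⁻¹) ^ p = 1 := by
      rw [← map_inv, ← map_inv, ← map_mul, ← map_mul, ← map_mul, ← map_pow]
      exact (hπ _).2 (pow_mem_layer hk)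
    rw [map_pow, map_mul, mul_pow_class_two _ _ (hc a) (hc b), pow_choose_eq_one h1 two_ne_zero (by omega),
      mul_one, map_pow, map_pow]
  let M : Subgroup G :=
    { carrier := {v | v ^ p ∈ psi p G}
      one_mem' := by simp
      mul_mem' := fun {a b} ha hb => (hπ _).1 (by rw [hmul, (hπ _).2 ha, (hπ _).2 hb, one_mul])
      inv_mem' := fun {a} (ha : a ^ p ∈ psi p G) => by
        show a⁻¹ ^ p ∈ psi p G
        rw [inv_pow]; exact inv_mem ha }
  have hM : M = ⊤ := by
    refine T.top_of_char (fun f hf => pow_mem_layer hf) (fun α v hv => ?_) ?_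
    · show α v ^ p ∈ psi p G
      rw [← map_pow]; exact aut_mem_psi α hv
    · show T.x ^ p ∈ psi p G
      have h := (hπ _).2 (T.fix_mod hp5 hG T.fy T.dx (PGroups.pow_mem_frattini hG T.y))
      rw [map_mul, map_inv, map_pow T.θ, T.fy, hmul, inv_mul_cancel_left] at h
      exact (hπ _).1 h
  exact hM.ge (Subgroup.mem_top g)

theorem card_le_of_psi_eq_bot (hp5 : 5 ≤ p) (hG : IsPGroup p G) (h : psi p G = ⊥) : Nat.card G ≤ p ^ 3 := by
  have hz : T.z ^ p = 1 := Subgroup.mem_bot.1 (h ▸ pow_mem_layer (T.z_mem hG) : T.z ^ p ∈ (⊥ : Subgroup G))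
  have hle : frattini G ≤ Subgroup.zpowers T.z := fun f hf => by
    obtain ⟨n, c, hc, rfl⟩ := T.exists_zc hp5 hG hf
    rw [h, Subgroup.mem_bot] at hc
    rw [hc, mul_one]
    exact pow_mem (Subgroup.mem_zpowers _) n
  have h1 := Subgroup.card_le_of_le hle
  rw [Nat.card_zpowers] at h1
  have h2 : orderOf T.z ≤ p := Nat.le_of_dvd (Fact.out : p.Prime).pos (orderOf_dvd_of_pow_eq_one hz)
  rw [← (frattini G).card_mul_index, T.idx, pow_succ' p 2]
  exact Nat.mul_le_mul_right _ (h1.trans h2)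

/-- Replace `θ` so that it fixes `x` modulo the second layer. -/
theorem exists_adjust (hp5 : 5 ≤ p) (hG : IsPGroup p G) : ∃ (θ : MulAut G) (r : G), θ = T.θ * MulAut.conj r ∧
    θ T.y = T.y * T.x ∧ T.x⁻¹ * θ T.x ∈ psi p G ∧ ∃ g, θ ^ p = MulAut.conj g := by
  let π := QuotientGroup.mk' (psi p G)
  have hπ : ∀ v, π v = 1 ↔ v ∈ psi p G := fun v => QuotientGroup.eq_one_iff v
  obtain ⟨n, c, hc, he⟩ := T.exists_zc hp5 hG T.dx
  refine ⟨T.θ * MulAut.conj (T.y ^ n), T.y ^ n, rfl, ?_, ?_, ?_⟩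
  · rw [MulAut.mul_apply, MulAut.conj_apply, show T.y ^ n * T.y * (T.y ^ n)⁻¹ = T.y by group, T.fy]
  · refine (hπ _).1 ?_
    have hcz : ∀ g, Commute (π T.z) (π g) := central_mod_psi (T.z_mem hG)
    have hu : π (T.y * T.x) * π T.x * (π (T.y * T.x))⁻¹ = (π T.z)⁻¹ * π T.x := by
      simp only [z, map_mul, map_inv]; group
    have hθx : T.θ T.x = T.x * (T.z ^ n * c) := by rw [← he, mul_inv_cancel_left]
    rw [MulAut.mul_apply, MulAut.conj_apply, map_mul T.θ, map_mul T.θ, map_inv T.θ, map_pow T.θ, T.fy, hθx]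
    simp only [map_mul π, map_inv π, map_pow π, (hπ c).2 hc, mul_one]
    rw [← map_mul π]
    set u := π (T.y * T.x)
    calc (π T.x)⁻¹ * (u ^ n * (π T.x * π T.z ^ n) * (u ^ n)⁻¹)
        = (π T.x)⁻¹ * (u ^ n * π T.x * (π T.z ^ n * (u ^ n)⁻¹)) := by group
      _ = (π T.x)⁻¹ * (u ^ n * π T.x * ((u ^ n)⁻¹ * π T.z ^ n)) := by
          rw [(((hcz (T.y * T.x)).pow_pow n n).inv_right).eq]
      _ = (π T.x)⁻¹ * (u ^ n * π T.x * (u ^ n)⁻¹) * π T.z ^ n := by group
      _ = (π T.x)⁻¹ * (((π T.z)⁻¹) ^ n * π T.x) * π T.z ^ n := by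
          rw [pow_conj_central hu fun w => by
            obtain ⟨w, rfl⟩ := QuotientGroup.mk'_surjective _ w
            exact (hcz w).inv_left]
      _ = 1 := by
          rw [((hcz T.x).inv_left.pow_left n).eq, inv_pow]
          group
  · haveI : ((MulAut.conj : G →* MulAut G).range).Normal := ⟨by
      rintro _ ⟨a, rfl⟩ α
      exact ⟨α a, MulEquiv.ext fun v => by simp [MulAut.conj_apply, map_mul, map_inv]⟩⟩
    let q := QuotientGroup.mk' (MulAut.conj : G →* MulAut G).range
    obtain ⟨g0, hg0⟩ := T.inner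
    have h1 : q ((T.θ * MulAut.conj (T.y ^ n)) ^ p) = 1 := by
      rw [map_pow, map_mul, show q (MulAut.conj (T.y ^ n)) = 1 from (QuotientGroup.eq_one_iff _).2 ⟨_, rfl⟩,
        mul_one, ← map_pow, hg0]
      exact (QuotientGroup.eq_one_iff _).2 ⟨_, rfl⟩
    obtain ⟨g, hg⟩ := (QuotientGroup.eq_one_iff _).1 h1
    exact ⟨g, hg.symm⟩

/-- The layer below the second one vanishes, the exponent is `p` and the second layer is moved. -/
theorem rich (hp5 : 5 ≤ p) (hG : IsPGroup p G) (hsr : SectionalPRankLE p 3 G) (hC : psi p G ≠ ⊥) :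
    (∀ g : G, g ^ p = 1) ∧ (∀ c ∈ psi p G, ∀ g, Commute c g) ∧ (∃ c ∈ psi p G, T.θ c ≠ c) ∧ p ^ 4 ≤ Nat.card G := by
  have hp : p.Prime := Fact.out
  have hCi : ∀ α : MulAut G, ∀ v ∈ psi p G, α v ∈ psi p G := fun α v hv => aut_mem_psi α hv
  set D := EssentialRankThree.layer p ⊤ (psi p G) with hDdef
  haveI : D.Normal := layer_normal hCi
  have hDC : D ≤ psi p G := layer_le_self hCi
  have hDi : ∀ α : MulAut G, ∀ v ∈ D, α v ∈ D := fun α v hv => aut_mem_layer hCi α hv
  have hCD : ¬ psi p G ≤ D := fun h => hC (eq_bot_of_eq_layer hG hCi h)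
  have hzC : T.z ∉ psi p G := fun h => by
    have hle : frattini G ≤ psi p G := fun f hf => by
      obtain ⟨n, c, hc, rfl⟩ := T.exists_zc hp5 hG hf
      exact mul_mem (pow_mem h n) hc
    exact hC (le_bot_iff.1 ((psi_le G).trans
      (eq_bot_of_eq_layer hG (fun α v hv => Resistant67.aut_mem_frattini α hv) hle).le))
  -- the quotient by `D`
  let π := QuotientGroup.mk' D
  have hπ : ∀ v, π v = 1 ↔ v ∈ D := fun v => QuotientGroup.eq_one_iff v
  have hπs : Function.Surjective π := QuotientGroup.mk'_surjective D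
  have cen : ∀ c ∈ psi p G, ∀ w, Commute (π c) w := by
    intro c hc w
    obtain ⟨w, rfl⟩ := hπs w
    refine commutatorElement_eq_one_iff_commute.1 ?_
    rw [← map_commutatorElement]
    exact (hπ _).2 (comm_mem_layer hc (Subgroup.mem_top w))
  have expC : ∀ c ∈ psi p G, π c ^ p = 1 := fun c hc => by
    rw [← map_pow]; exact (hπ _).2 (pow_mem_layer hc)
  have comC : ∀ f ∈ frattini G, ∀ g, f * g * f⁻¹ * g⁻¹ ∈ psi p G := fun f hf g => comm_mem_layer hf (Subgroup.mem_top g)
  -- `g ↦ [z, g]`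
  let zh : G →* G ⧸ D := MonoidHom.mk' (fun g => π (T.z * g * T.z⁻¹ * g⁻¹)) fun g h => by
    rw [show T.z * (g * h) * T.z⁻¹ * (g * h)⁻¹ = (T.z * g * T.z⁻¹ * g⁻¹) * (g * (T.z * h * T.z⁻¹ * h⁻¹) * g⁻¹) by group,
      map_mul, map_mul π (g * _), map_mul π g, map_inv, ← (cen _ (comC _ (T.z_mem hG) h) (π g)).eq,
      mul_inv_cancel_right]
  have zh_apply : ∀ g, zh g = π (T.z * g * T.z⁻¹ * g⁻¹) := fun g => rfl
  have zh_cen : ∀ g w, Commute (zh g) w := fun g w => cen _ (comC _ (T.z_mem hG) g) w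
  have zh_exp : ∀ g, zh g ^ p = 1 := fun g => expC _ (comC _ (T.z_mem hG) g)
  have hzconj : ∀ g, π T.z * π g * (π T.z)⁻¹ = zh g * π g := fun g => by
    rw [zh_apply]; simp only [map_mul, map_inv]; group
  have hfconj : ∀ (n : ℕ) (c : G), c ∈ psi p G → ∀ g,
      π (T.z ^ n * c) * π g * (π (T.z ^ n * c))⁻¹ = zh g ^ n * π g := by
    intro n c hc g
    rw [← pow_conj_central (hzconj g) (zh_cen g) n, map_mul, map_pow]
    calc π T.z ^ n * π c * π g * (π T.z ^ n * π c)⁻¹ = π T.z ^ n * (π c * π g) * (π c)⁻¹ * (π T.z ^ n)⁻¹ := by group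
      _ = π T.z ^ n * (π g * π c) * (π c)⁻¹ * (π T.z ^ n)⁻¹ := by rw [(cen c hc _).eq]
      _ = _ := by group
  -- `z` has order `p`
  have hZp : π T.z ^ p = 1 := by
    have ha : T.z⁻¹ * T.x * T.z * T.x⁻¹ ∈ psi p G := by
      have := comC _ (inv_mem (T.z_mem hG)) T.x
      rwa [inv_inv] at this
    have h := conj_pow_formula (x := π T.x) (y := π T.y) (z := π T.z) (a := π (T.z⁻¹ * T.x * T.z * T.x⁻¹)) (l := 1)
      (by simp only [z, map_mul, map_inv]; group)
      (by simp only [map_mul, map_inv]; group)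
      (by rw [mul_one, ((cen _ ha (π T.x))).symm.eq, mul_inv_cancel_right])
      (by group) (cen _ ha _).symm (Commute.one_right _) (Commute.one_right _) p
    rw [← map_pow π T.x, (cen _ (T.pow_mem_psi hp5 hG T.x) (π T.y)).eq, mul_inv_cancel_right, one_pow, mul_one,
      pow_choose_eq_one (expC _ ha) two_ne_zero (by omega), mul_one] at h
    exact right_eq_mul.1 h
  -- the second layer consists of the values of `zh`
  have hrange : psi p G ≤ zh.range.comap π := by
    show EssentialRankThree.layer p ⊤ (frattini G) ≤ _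
    rw [EssentialRankThree.layer, Subgroup.closure_le]
    rintro _ (⟨f, hf, rfl⟩ | ⟨f, hf, g, -, rfl⟩) <;> rw [SetLike.mem_coe, Subgroup.mem_comap] <;>
      obtain ⟨n, c, hc, rfl⟩ := T.exists_zc hp5 hG hf
    · refine ⟨1, ?_⟩
      rw [map_one, map_pow, map_mul, ((cen c hc _).symm).mul_pow, expC c hc, mul_one, map_pow, ← pow_mul,
        mul_comm, pow_mul, hZp, one_pow]
    · refine ⟨g ^ n, ?_⟩
      rw [map_pow, map_mul π _ g⁻¹, map_mul π _ (T.z ^ n * c)⁻¹, map_mul π _ g, map_inv, map_inv, hfconj n c hc g,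
        mul_inv_cancel_right]
  -- the kernel of `zh` is the Frattini subgroup
  have zh_frattini : ∀ f ∈ frattini G, zh f = 1 := by
    intro f hf
    obtain ⟨n, c, hc, rfl⟩ := T.exists_zc hp5 hG hf
    have h1 : ∀ k, zh k = 1 ↔ Commute (π T.z) (π k) := fun k => by
      rw [zh_apply, ← commutatorElement_eq_one_iff_commute, ← map_commutatorElement]; rfl
    rw [h1, map_mul, map_pow]
    exact ((Commute.refl _).pow_right n).mul_right (cen c hc _).symm
  have zh_ker : ∀ g, zh g = 1 → g ∈ frattini G := by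
    let M : Subgroup G :=
      { carrier := {g | ∀ f ∈ frattini G, f * g * f⁻¹ * g⁻¹ ∈ D}
        one_mem' := fun f _ => by simp
        mul_mem' := fun {a b} ha hb f hf => (hπ _).1 (by
          rw [show f * (a * b) * f⁻¹ * (a * b)⁻¹ = (f * a * f⁻¹ * a⁻¹) * (a * (f * b * f⁻¹ * b⁻¹) * a⁻¹) by group,
            map_mul, map_mul π (a * _), map_mul π a, (hπ _).2 (ha f hf), (hπ _).2 (hb f hf), mul_one, one_mul,
            map_inv, mul_inv_cancel])
        inv_mem' := fun {a} ha f hf => (hπ _).1 (by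
          rw [show f * a⁻¹ * f⁻¹ * a⁻¹⁻¹ = a⁻¹ * (f * a * f⁻¹ * a⁻¹)⁻¹ * a by group, map_mul, map_mul, map_inv π (_ * _),
            (hπ _).2 (ha f hf), inv_one, mul_one, map_inv, inv_mul_cancel]) }
    have hiff : ∀ g, zh g = 1 → g ∈ M := fun g hg f hf => (hπ _).1 (by
      obtain ⟨n, c, hc, rfl⟩ := T.exists_zc hp5 hG hf
      rw [map_mul π _ g⁻¹, map_mul π _ (T.z ^ n * c)⁻¹, map_mul π _ g, map_inv, map_inv, hfconj n c hc g, hg,
        one_pow, one_mul, mul_inv_cancel])
    rcases T.irr M (fun g hg => hiff g (zh_frattini g hg)) (fun α g hg f hf => by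
        obtain ⟨f, rfl⟩ := α.surjective f
        rw [← map_inv, ← map_inv, ← map_mul, ← map_mul, ← map_mul]
        refine hDi α _ (hg f ?_)
        have := Resistant67.aut_mem_frattini α⁻¹ hf
        rwa [MulAut.inv_apply_self] at this) with h | h
    · exact fun g hg => h.le (hiff g hg)
    · exfalso
      refine hCD fun c hc => (hπ c).1 ?_
      obtain ⟨g, hg⟩ := hrange hc
      rw [← hg, zh_apply]
      exact (hπ _).2 (h.ge (Subgroup.mem_top g) T.z (T.z_mem hG))
  -- the adjusted automorphism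
  obtain ⟨θ, r, hθr, hθy, hθx, g0, hg0⟩ := T.exists_adjust hp5 hG
  let f : G ⧸ D →* G ⧸ D := QuotientGroup.map D D θ.toMonoidHom fun v hv => hDi θ v hv
  have hf : ∀ v, f (π v) = π (θ v) := fun v => rfl
  have hfz : ∀ g, f (zh g) = zh (θ g) := by
    intro g
    have hc := T.fix_mod hp5 hG hθy (psi_le G hθx) (T.z_mem hG)
    rw [zh_apply, hf, map_mul θ, map_mul θ, map_mul θ, map_inv θ, map_inv θ,
      show θ T.z = T.z ^ 1 * (T.z⁻¹ * θ T.z) by rw [pow_one, mul_inv_cancel_left]]
    rw [map_mul π _ (θ g)⁻¹, map_mul π _ (T.z ^ 1 * _)⁻¹, map_mul π _ (θ g), map_inv, map_inv,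
      hfconj 1 _ hc (θ g), pow_one, mul_inv_cancel_right]
  let ψ : G →* G ⧸ D := MonoidHom.mk' (fun g => (zh g)⁻¹ * zh (θ g)) fun g h => by
    rw [map_mul, map_mul θ, map_mul zh, mul_inv_rev]
    calc (zh h)⁻¹ * (zh g)⁻¹ * (zh (θ g) * zh (θ h)) = (zh h)⁻¹ * ((zh g)⁻¹ * zh (θ g)) * zh (θ h) := by group
      _ = ((zh g)⁻¹ * zh (θ g)) * (zh h)⁻¹ * zh (θ h) := by
          rw [((zh_cen h ((zh g)⁻¹ * zh (θ g))).inv_left).eq]
      _ = _ := by group
  have ψ_apply : ∀ g, ψ g = (zh g)⁻¹ * zh (θ g) := fun g => rfl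
  have ψx : ψ T.x = 1 := by
    rw [ψ_apply, ← map_inv, ← map_mul]; exact zh_frattini _ (psi_le G hθx)
  have ψy : ψ T.y = zh T.x := by rw [ψ_apply, hθy, map_mul, inv_mul_cancel_left]
  have hfψ : ∀ g, f (ψ g) = ψ g := by
    have h : MonoidHom.eqLocus (f.comp ψ) ψ = ⊤ := by
      refine T.eq_top_of_mem ?_ ?_
      · show f (ψ T.x) = ψ T.x
        rw [ψx, map_one]
      · show f (ψ T.y) = ψ T.y
        rw [ψy, hfz]
        have := ψx
        rw [ψ_apply, inv_mul_eq_one] at this
        exact this.symm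
    exact fun g => h.ge (Subgroup.mem_top g)
  have ψ_cen : ∀ g w, Commute (ψ g) w := fun g w => (zh_cen g w).inv_left.mul_left (zh_cen _ w)
  have ψ_exp : ∀ g, ψ g ^ p = 1 := fun g => by
    rw [ψ_apply, ((zh_cen g _).inv_left).mul_pow, inv_pow, zh_exp, zh_exp, inv_one, one_mul]
  -- iterates
  obtain ⟨w, hw⟩ := hrange hθx
  have hfx : f (π T.x) = π T.x * zh w := by
    rw [hw, ← map_mul, mul_inv_cancel_left]; rfl
  have hfw : f (zh w) = zh w * ψ w := by rw [hfz, ψ_apply, mul_inv_cancel_left]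
  have hit : ∀ (n : ℕ) v, f^[n] (π v) = π ((θ ^ n) v) := by
    intro n
    induction n with
    | zero => intro v; rfl
    | succ n ih => intro v; rw [Function.iterate_succ_apply', ih, hf, pow_succ', MulAut.mul_apply]
  have hcone : ∀ v : G ⧸ D, Commute (1 : G ⧸ D) v := Commute.one_left
  have hgy : π g0 * π T.y * (π g0)⁻¹ = π T.y * π T.x ^ p := by
    have h := iterate_formula f (y := π T.y) (x := π T.x) (B := zh w) (A := 1) (A' := ψ w) (zh_cen w) hcone
      (ψ_cen w) (by rw [hf, hθy, map_mul]) (by rw [mul_one, hfx]) hfw (map_one f) (hfψ w) p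
    rw [hit, hg0, MulAut.conj_apply, map_mul, map_mul, map_inv, pow_choose_eq_one (zh_exp w) two_ne_zero (by omega),
      one_pow, pow_choose_eq_one (ψ_exp w) three_ne_zero (by omega), mul_one, mul_one, mul_one] at h
    exact h
  have hgx : π g0 * π T.x * (π g0)⁻¹ = π T.x := by
    have h := iterate_formula f (y := π T.x) (x := zh w) (B := ψ w) (A := 1) (A' := 1) (ψ_cen w) hcone
      hcone hfx (by rw [mul_one, hfw]) (by rw [mul_one, hfψ]) (map_one f) (map_one f) p
    rw [hit, hg0, MulAut.conj_apply, map_mul, map_mul, map_inv, zh_exp,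
      pow_choose_eq_one (ψ_exp w) two_ne_zero (by omega), one_pow, one_pow, mul_one, mul_one, mul_one, mul_one] at h
    exact h
  have hXc : ∀ v, Commute (π T.x ^ p) v := by
    rw [← map_pow]; exact cen _ (T.pow_mem_psi hp5 hG T.x)
  have hxp : π T.x ^ p = 1 := by
    have hg : g0 ∈ frattini G := by
      refine zh_ker g0 ?_
      have h1 : π g0 * π T.z * (π g0)⁻¹ = π T.z := by
        simp only [z, map_mul, map_inv]
        calc π g0 * (π T.x * π T.y * (π T.x)⁻¹ * (π T.y)⁻¹) * (π g0)⁻¹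
            = (π g0 * π T.x * (π g0)⁻¹) * (π g0 * π T.y * (π g0)⁻¹) * (π g0 * π T.x * (π g0)⁻¹)⁻¹ *
              (π g0 * π T.y * (π g0)⁻¹)⁻¹ := by group
          _ = π T.x * π T.y * (π T.x ^ p * (π T.x)⁻¹) * ((π T.x ^ p)⁻¹ * (π T.y)⁻¹) := by rw [hgx, hgy]; group
          _ = π T.x * π T.y * ((π T.x)⁻¹ * π T.x ^ p) * ((π T.x ^ p)⁻¹ * (π T.y)⁻¹) := by rw [(hXc _).eq]
          _ = _ := by group
      have h2 := hzconj g0
      rw [show π T.z * π g0 = π g0 * π T.z by
        conv_lhs => rw [← h1]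
        group, mul_inv_cancel_right] at h2
      exact (right_eq_mul.1 h2)
    obtain ⟨n, c, hc, rfl⟩ := T.exists_zc hp5 hG hg
    rw [hfconj n c hc, ← (hXc (π T.y)).eq] at hgy
    have hB : π T.x ^ p = zh T.y ^ n := (mul_right_cancel hgy).symm
    have hfX : f (π T.x ^ p) = π T.x ^ p := by
      rw [map_pow, hfx, ((zh_cen w _).symm).mul_pow, zh_exp, mul_one]
    rw [hB, map_pow, hfz, hθy, map_mul, ((zh_cen T.y _)).mul_pow, mul_eq_left] at hfX
    have hA : zh T.x ≠ 1 := fun h => T.x_not_mem (zh_ker _ h)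
    obtain ⟨t, rfl⟩ : p ∣ n := by
      rw [← orderOf_eq_prime (zh_exp T.x) hA]
      exact orderOf_dvd_of_pow_eq_one hfX
    rw [hB, pow_mul, zh_exp, one_pow]
  -- exponent `p` modulo `D`
  have hcoset : ∀ g, ∀ k ∈ frattini G, π (g * k) ^ p = π g ^ p := by
    intro g k hk
    obtain ⟨n, c, hc, rfl⟩ := T.exists_zc hp5 hG hk
    rw [map_mul]
    have hcm : π (T.z ^ n * c) * π g * (π (T.z ^ n * c))⁻¹ * (π g)⁻¹ = zh g ^ n := by
      rw [hfconj n c hc, mul_inv_cancel_right]
    refine mul_pow_prime (by omega) ?_ (hcm ▸ (zh_cen g _).pow_left n) (hcm ▸ (zh_cen g _).pow_left n) ?_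
    · rw [map_mul, ((cen c hc _).symm).mul_pow, expC c hc, map_pow, ← pow_mul, mul_comm, pow_mul, hZp, one_pow, mul_one]
    · rw [hcm, ← pow_mul, mul_comm, pow_mul, zh_exp, one_pow]
  have hL : ∀ g : G, ∃ j i : ℕ, ∃ k ∈ frattini G, g = T.y ^ j * T.x ^ i * k := by
    intro g
    have hn : (Subgroup.zpowers T.x ⊔ frattini G).Normal := ⟨fun v hv g => by
      have := Subgroup.mul_mem _ (Subgroup.mem_sup_right (PGroups.commutatorElement_mem_frattini hG g v) :
        ⁅g, v⁆ ∈ Subgroup.zpowers T.x ⊔ frattini G) hv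
      rwa [commutatorElement_def, inv_mul_cancel_right] at this⟩
    have htop : Subgroup.zpowers T.y ⊔ (Subgroup.zpowers T.x ⊔ frattini G) = ⊤ :=
      T.eq_top_of_mem (Subgroup.mem_sup_right (Subgroup.mem_sup_left (Subgroup.mem_zpowers _)))
        (Subgroup.mem_sup_left (Subgroup.mem_zpowers _))
    obtain ⟨a, ha, l, hl, rfl⟩ := Subgroup.mem_sup_of_normal_right.1 (htop.ge (Subgroup.mem_top g))
    obtain ⟨b, hb, k, hk, rfl⟩ := Subgroup.mem_sup_of_normal_right.1 hl
    obtain ⟨j, rfl⟩ := (isOfFinOrder_of_finite T.y).mem_powers_iff_mem_zpowers.2 ha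
    obtain ⟨i, rfl⟩ := (isOfFinOrder_of_finite T.x).mem_powers_iff_mem_zpowers.2 hb
    exact ⟨j, i, k, hk, (mul_assoc _ _ _).symm⟩
  have hreduce : ∀ (j i : ℕ), ¬ p ∣ j → ∀ k ∈ frattini G, ∃ m i' : ℕ, ¬ p ∣ m ∧
      ∃ k' ∈ frattini G, (T.y ^ j * T.x ^ i * k) ^ m = T.y * T.x ^ i' * k' := by
    intro j i hj k hk
    let q := QuotientGroup.mk' (frattini G)
    have hq : ∀ v, q v = 1 ↔ v ∈ frattini G := fun v => QuotientGroup.eq_one_iff v
    have hcomm : ∀ a b, Commute (q a) (q b) := fun a b => commutatorElement_eq_one_iff_commute.1 (by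
      rw [← map_commutatorElement]; exact (hq _).2 (PGroups.commutatorElement_mem_frattini hG a b))
    obtain ⟨m, hm⟩ := Nat.exists_mul_mod_eq_one_of_coprime ((hp.coprime_iff_not_dvd.2 hj).symm) hp.one_lt
    have hm' : ¬ p ∣ m := fun h => by
      obtain ⟨t, rfl⟩ := h
      rw [show j * (p * t) = p * (j * t) by ring, Nat.mul_mod_right] at hm
      omega
    refine ⟨m, i * m, hm', _, (hq _).1 ?_, (mul_inv_cancel_left (T.y * T.x ^ (i * m)) _).symm⟩
    obtain ⟨t, ht⟩ : ∃ t, j * m = 1 + p * t := ⟨j * m / p, by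
      have := Nat.div_add_mod (j * m) p; omega⟩
    simp only [map_mul, map_inv, map_pow, (hq k).2 hk, mul_one]
    rw [((hcomm _ _).pow_pow j i).mul_pow, ← pow_mul, ← pow_mul, ht, pow_add, pow_one, pow_mul (q T.y) p,
      show q T.y ^ p = 1 by rw [← map_pow]; exact (hq _).2 (PGroups.pow_mem_frattini hG _), one_pow, mul_one,
      inv_mul_cancel]
  have hexpQ : ∀ g, π g ^ p = 1 := by
    -- some element outside `⟨x⟩Φ` has order `p`
    obtain ⟨v, hvp, hvL⟩ : ∃ v, π v ^ p = 1 ∧ v ∉ Subgroup.zpowers T.x ⊔ frattini G := by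
      by_contra h
      push Not at h
      have hM : Subgroup.closure {v | π v ^ p = 1} = ⊤ := by
        refine T.top_of_char (fun k hk => Subgroup.subset_closure ?_) (fun α v hv => ?_) (Subgroup.subset_closure hxp)
        · show π k ^ p = 1
          rw [← one_mul k, hcoset 1 k hk, map_one, one_pow]
        · have hle : Subgroup.closure {v | π v ^ p = 1} ≤ (Subgroup.closure {v | π v ^ p = 1}).comap α.toMonoidHom := by
            rw [Subgroup.closure_le]
            intro v (hv : π v ^ p = 1)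
            refine Subgroup.subset_closure ?_
            show π (α v) ^ p = 1
            rw [← map_pow, ← map_pow α]
            rw [← map_pow] at hv
            exact (hπ _).2 (hDi α _ ((hπ _).1 hv))
          exact hle hv
      have hLt : Subgroup.zpowers T.x ⊔ frattini G = ⊤ :=
        top_le_iff.1 (hM.ge.trans ((Subgroup.closure_le _).2 h))
      obtain ⟨i, hi⟩ := Subgroup.mem_zpowers_iff.1 ((frattini_nongenerating hLt).ge (Subgroup.mem_top T.y))
      have h1 := (T.indep (-i) 1 (by rw [zpow_one, ← hi, ← zpow_add, neg_add_cancel, zpow_zero]; exact one_mem _)).2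
      have := Int.le_of_dvd one_pos h1
      omega
    obtain ⟨j, i, k, hk, rfl⟩ := hL v
    have hj : ¬ p ∣ j := by
      rintro ⟨t, rfl⟩
      refine hvL (mul_mem (mul_mem ?_ (Subgroup.mem_sup_left (pow_mem (Subgroup.mem_zpowers _) i)))
        (Subgroup.mem_sup_right hk))
      rw [pow_mul]
      exact pow_mem (Subgroup.mem_sup_right (PGroups.pow_mem_frattini hG T.y)) t
    obtain ⟨m, i0, -, k', hk', he⟩ := hreduce j i hj k hk
    have h0 : π (T.y * T.x ^ i0) ^ p = 1 := by
      rw [← hcoset _ k' hk', ← he, map_pow, ← pow_mul, mul_comm, pow_mul, hvp, one_pow]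
    have hall : ∀ s, π (T.y * T.x ^ (i0 + s)) ^ p = 1 := by
      intro s
      induction s with
      | zero => exact h0
      | succ s ih =>
        have h1 := congrArg f ih
        rw [map_one, map_pow, hf, map_mul θ, map_pow θ, hθy] at h1
        have h2 : (T.y * T.x ^ (i0 + s + 1))⁻¹ * (T.y * T.x * θ T.x ^ (i0 + s)) ∈ frattini G := by
          refine (QuotientGroup.eq_one_iff _).1 ?_
          show QuotientGroup.mk' (frattini G) _ = 1
          rw [show θ T.x = T.x * (T.x⁻¹ * θ T.x) by rw [mul_inv_cancel_left]]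
          simp only [map_mul, map_inv, map_pow,
            show QuotientGroup.mk' (frattini G) (T.x⁻¹ * θ T.x) = 1 from
              (QuotientGroup.eq_one_iff _).2 (psi_le G hθx), mul_one]
          rw [pow_succ']
          group
        rw [← mul_inv_cancel_left (T.y * T.x ^ (i0 + s + 1)) (T.y * T.x * θ T.x ^ (i0 + s)), hcoset _ _ h2] at h1
        exact h1
    intro g
    obtain ⟨j, i, k, hk, rfl⟩ := hL g
    rw [hcoset _ _ hk]
    by_cases hj : p ∣ j
    · obtain ⟨t, rfl⟩ := hj
      have h1 : T.x ^ i * ((T.x ^ i)⁻¹ * (T.y ^ (p * t) * T.x ^ i)) = T.y ^ (p * t) * T.x ^ i := mul_inv_cancel_left _ _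
      rw [← h1, hcoset _ _ (by
        have := frattini_normal_mem (T.x ^ i)⁻¹ (pow_mem (PGroups.pow_mem_frattini hG T.y) t)
        rwa [inv_inv, ← pow_mul, mul_assoc] at this), map_pow, ← pow_mul, mul_comm, pow_mul, hxp, one_pow]
    · obtain ⟨m, i', hm, k', hk', he⟩ := hreduce j i hj 1 (one_mem _)
      rw [mul_one] at he
      have hper : ∀ t, π (T.y * T.x ^ (i' + p * t)) ^ p = π (T.y * T.x ^ i') ^ p := fun t => by
        rw [pow_add, ← mul_assoc, hcoset _ _ (by rw [pow_mul]; exact pow_mem (PGroups.pow_mem_frattini hG _) t)]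
      have h1 : π (T.y * T.x ^ i') ^ p = 1 := by
        have hle : i0 ≤ i' + p * i0 := (Nat.le_mul_of_pos_left _ hp.pos).trans (Nat.le_add_left _ _)
        rw [← hper i0, ← Nat.add_sub_cancel' hle]
        exact hall _
      have h2 : (π (T.y ^ j * T.x ^ i) ^ p) ^ m = 1 := by
        rw [← pow_mul, mul_comm, pow_mul, ← map_pow π _ m, he, hcoset _ _ hk', h1]
      have h3 : (π (T.y ^ j * T.x ^ i) ^ p) ^ p = 1 := by
        rw [← map_pow π _ p]; exact expC _ (T.pow_mem_psi hp5 hG _)
      have h4 := pow_gcd_eq_one.2 ⟨h2, h3⟩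
      rwa [(Nat.Coprime.symm (hp.coprime_iff_not_dvd.2 hm)).gcd_eq_one, pow_one] at h4
  -- the layer below vanishes
  have hD : D = ⊥ := by
    refine eq_bot_of_eq_layer hG hDi ?_
    set D2 := EssentialRankThree.layer p ⊤ D
    haveI : D2.Normal := layer_normal hDi
    by_contra hDD
    obtain ⟨d, hd, hdn⟩ := SetLike.not_le_iff_exists.1 hDD
    let π2 := QuotientGroup.mk' D2
    have hπ2 : ∀ v, π2 v = 1 ↔ v ∈ D2 := fun v => QuotientGroup.eq_one_iff v
    have cen2 : ∀ c ∈ D, ∀ w, Commute (π2 c) w := by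
      intro c hc w
      obtain ⟨w, rfl⟩ := QuotientGroup.mk'_surjective D2 w
      refine commutatorElement_eq_one_iff_commute.1 ?_
      rw [← map_commutatorElement]
      exact (hπ2 _).2 (comm_mem_layer hc (Subgroup.mem_top w))
    have expD : ∀ c ∈ D, π2 c ^ p = 1 := fun c hc => by
      rw [← map_pow]; exact (hπ2 _).2 (pow_mem_layer hc)
    have powD : ∀ g, g ^ p ∈ D := fun g => (hπ _).1 (by rw [map_pow]; exact hexpQ g)
    have comD : ∀ c ∈ psi p G, ∀ g, c * g * c⁻¹ * g⁻¹ ∈ D := fun c hc g => comm_mem_layer hc (Subgroup.mem_top g)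
    have comK : ∀ c ∈ psi p G, ∀ k ∈ frattini G, Commute (π2 c) (π2 k) := by
      intro c hc
      let ch : G →* G ⧸ D2 := MonoidHom.mk' (fun g => π2 (c * g * c⁻¹ * g⁻¹)) fun g h => by
        rw [show c * (g * h) * c⁻¹ * (g * h)⁻¹ = (c * g * c⁻¹ * g⁻¹) * (g * (c * h * c⁻¹ * h⁻¹) * g⁻¹) by group,
          map_mul, map_mul π2 (g * _), map_mul π2 g, map_inv, ← (cen2 _ (comD c hc h) (π2 g)).eq,
          mul_inv_cancel_right]
      intro k hk
      have h1 : ch k = 1 := commutator_le_ker ch (fun a b => cen2 _ (comD c hc a) _) (T.frattini_le_commutator hp5 hG hk)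
      refine commutatorElement_eq_one_iff_commute.1 ?_
      rw [← map_commutatorElement]
      exact h1
    have comΦ : ∀ a ∈ frattini G, ∀ b ∈ frattini G, Commute (π2 a) (π2 b) := by
      intro a ha b hb
      obtain ⟨n, c, hc, rfl⟩ := T.exists_zc hp5 hG ha
      obtain ⟨n', c', hc', rfl⟩ := T.exists_zc hp5 hG hb
      have hz := fun c hc => comK c hc T.z (T.z_mem hG)
      simp only [map_mul, map_pow]
      exact ((((Commute.refl _).pow_pow n n').mul_right ((hz c' hc').symm.pow_left n))).mul_left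
        (((hz c hc).pow_right n').mul_right (comK c hc c' (psi_le G hc')))
    have expa : ∀ g, π2 (T.z⁻¹ * g * T.z * g⁻¹) ^ p = 1 ∧
        π2 ((T.z⁻¹ * g * T.z * g⁻¹)⁻¹ * g * (T.z⁻¹ * g * T.z * g⁻¹) * g⁻¹) ^ p = 1 := by
      intro g
      have ha : T.z⁻¹ * g * T.z * g⁻¹ ∈ psi p G := by
        have := comC _ (inv_mem (T.z_mem hG)) g
        rwa [inv_inv] at this
      set a := T.z⁻¹ * g * T.z * g⁻¹ with hadef
      have hl : a⁻¹ * g * a * g⁻¹ ∈ D := by
        have := comD _ (inv_mem ha) g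
        rwa [inv_inv] at this
      refine ⟨?_, expD _ hl⟩
      have hza := comK a ha T.z (T.z_mem hG)
      have h := conj_pow_formula (x := π2 g) (y := π2 T.z) (z := π2 a) (a := π2 (a⁻¹ * g * a * g⁻¹)) (l := 1)
        (by rw [hza.eq, hadef]; simp only [map_mul, map_inv]; group)
        (by simp only [map_mul, map_inv]; group)
        (by rw [mul_one, ← (cen2 _ hl (π2 g)).eq, mul_inv_cancel_right])
        (by group) (cen2 _ hl _).symm (Commute.one_right _) (Commute.one_right _) p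
      rw [← map_pow π2 g, (cen2 _ (powD g) (π2 T.z)).eq, mul_inv_cancel_right, one_pow, mul_one,
        pow_choose_eq_one (expD _ hl) two_ne_zero (by omega), mul_one] at h
      exact right_eq_mul.1 h
    have expZ : π2 T.z ^ p = 1 := by
      obtain ⟨h1, h2⟩ := expa T.x
      have ha : T.z⁻¹ * T.x * T.z * T.x⁻¹ ∈ psi p G := by
        have := comC _ (inv_mem (T.z_mem hG)) T.x
        rwa [inv_inv] at this
      set a := T.z⁻¹ * T.x * T.z * T.x⁻¹ with hadef
      have hl : a⁻¹ * T.x * a * T.x⁻¹ ∈ D := by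
        have := comD _ (inv_mem ha) T.x
        rwa [inv_inv] at this
      have h := conj_pow_formula (x := π2 T.x) (y := π2 T.y) (z := π2 T.z) (a := π2 a)
        (l := π2 (a⁻¹ * T.x * a * T.x⁻¹))
        (by simp only [z, map_mul, map_inv]; group)
        (by rw [hadef]; simp only [map_mul, map_inv]; group)
        (by simp only [map_mul, map_inv]; group)
        (by rw [← (cen2 _ hl (π2 T.x)).eq, mul_inv_cancel_right])
        (comK a ha _ (T.z_mem hG)).symm (cen2 _ hl _).symm (cen2 _ hl _).symm p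
      rw [← map_pow π2 T.x, (cen2 _ (powD T.x) (π2 T.y)).eq, mul_inv_cancel_right,
        pow_choose_eq_one h1 two_ne_zero (by omega), pow_choose_eq_one h2 three_ne_zero (by omega), mul_one,
        mul_one] at h
      exact right_eq_mul.1 h
    have expb : ∀ g, π2 (T.z * g * T.z⁻¹ * g⁻¹) ^ p = 1 := fun g => by
      have h1 := (expa g).1
      have ha : T.z⁻¹ * g * T.z * g⁻¹ ∈ psi p G := by
        have := comC _ (inv_mem (T.z_mem hG)) g
        rwa [inv_inv] at this
      have hza := comK _ ha T.z (T.z_mem hG)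
      rw [show T.z * g * T.z⁻¹ * g⁻¹ = T.z * (T.z⁻¹ * g * T.z * g⁻¹)⁻¹ * T.z⁻¹ by group, map_mul, map_mul, map_inv,
        map_inv, ← hza.inv_left.eq, mul_inv_cancel_right, inv_pow, h1, inv_one]
    let b : Fin 4 → G := ![T.z, T.z * T.x * T.z⁻¹ * T.x⁻¹, T.z * T.y * T.z⁻¹ * T.y⁻¹, d]
    have hb : ∀ i, b i ∈ frattini G := by
      intro i; fin_cases i
      · exact T.z_mem hG
      · exact psi_le G (comC _ (T.z_mem hG) T.x)
      · exact psi_le G (comC _ (T.z_mem hG) T.y)
      · exact psi_le G (hDC hd)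
    have hbp : ∀ i, π2 (b i) ^ p = 1 := by
      intro i; fin_cases i
      · exact expZ
      · exact expb T.x
      · exact expb T.y
      · exact expD d hd
    refine rank_false (S := (⊤ : Subgroup G)) (K := D2)
      (sectional_of_injective (⊤ : Subgroup G).subtype Subtype.val_injective hsr) le_top
      ((layer_le_self hDi).trans (hDC.trans (psi_le G)))
      (fun h _ k hk => Subgroup.Normal.conj_mem inferInstance k hk h) b hb
      (fun i => (hπ2 _).1 (by rw [map_pow]; exact hbp i))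
      (fun i j => (hπ2 _).1 (by
        have h := (comΦ _ (hb i) _ (hb j))
        rw [← commutatorElement_eq_one_iff_commute, ← map_commutatorElement] at h
        exact h)) fun e he => ?_
    simp only [b, Matrix.cons_val_zero, Matrix.cons_val_one, Matrix.cons_val_two, Matrix.cons_val_three,
      Matrix.head_cons, Matrix.tail_cons] at he
    have hQ := (hπ _).2 (layer_le_self hDi he)
    simp only [map_mul, map_zpow] at hQ
    rw [(hπ d).2 hd, one_zpow, mul_one] at hQ
    have hdvd : ∀ {Q : Type u} [Group Q] {v : Q} (k : ℤ), v ^ p = 1 → (p : ℤ) ∣ k → v ^ k = 1 := by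
      rintro Q _ v k hv ⟨t, rfl⟩
      rw [zpow_mul, zpow_natCast, hv, one_zpow]
    have h0 : (p : ℤ) ∣ e 0 := by
      by_contra h
      obtain ⟨u, v, huv⟩ := ((Nat.prime_iff_prime_int.1 hp).coprime_iff_not_dvd.2 h)
      refine hzC ?_
      have hz0 : T.z ^ e 0 ∈ psi p G := by
        have h1 : π (T.z ^ e 0 * ((T.z * T.x * T.z⁻¹ * T.x⁻¹) ^ e 1 * (T.z * T.y * T.z⁻¹ * T.y⁻¹) ^ e 2)) = 1 := by
          simp only [map_mul, map_zpow] at hQ ⊢
          rwa [← mul_assoc]
        exact (mul_mem_cancel_right (mul_mem (zpow_mem (comC _ (T.z_mem hG) T.x) _)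
          (zpow_mem (comC _ (T.z_mem hG) T.y) _))).1 (hDC ((hπ _).1 h1))
      rw [← zpow_one T.z, ← huv, zpow_add, mul_comm u, zpow_mul, zpow_natCast, mul_comm v, zpow_mul]
      exact mul_mem (zpow_mem (pow_mem_layer (T.z_mem hG)) u) (zpow_mem hz0 v)
    have h12 : (p : ℤ) ∣ e 1 ∧ (p : ℤ) ∣ e 2 := by
      refine T.indep _ _ (zh_ker _ ?_)
      rw [map_mul, map_zpow, map_zpow, zh_apply, zh_apply]
      simp only [map_mul] at hQ ⊢
      rwa [hdvd (e 0) hZp h0, one_mul] at hQ
    have h3 : (p : ℤ) ∣ e 3 := by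
      have h := (hπ2 _).2 he
      simp only [map_mul, map_zpow] at h
      rw [hdvd _ expZ h0, hdvd _ (by simpa using expb T.x) h12.1, hdvd _ (by simpa using expb T.y) h12.2, one_mul,
        one_mul, one_mul] at h
      have ho : orderOf (π2 d) = p := orderOf_eq_prime (expD d hd) fun h' => hdn ((hπ2 d).1 h')
      rw [← ho]
      exact orderOf_dvd_iff_zpow_eq_one.2 h
    intro i
    fin_cases i
    exacts [h0, h12.1, h12.2, h3]
  have hinj : ∀ v, π v = 1 ↔ v = 1 := fun v => by rw [hπ, hD, Subgroup.mem_bot]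
  have hcentral : ∀ c ∈ psi p G, ∀ g, Commute c g := fun c hc g => by
    refine commutatorElement_eq_one_iff_commute.1 ((hinj _).1 ?_)
    rw [map_commutatorElement]
    exact commutatorElement_eq_one_iff_commute.2 (cen c hc _)
  refine ⟨fun g => (hinj _).1 (by rw [map_pow]; exact hexpQ g), hcentral, ?_, ?_⟩
  · refine ⟨T.z * T.y * T.z⁻¹ * T.y⁻¹, comC _ (T.z_mem hG) T.y, fun h => T.x_not_mem (zh_ker _ ?_)⟩
    have h1 : θ (T.z * T.y * T.z⁻¹ * T.y⁻¹) = T.z * T.y * T.z⁻¹ * T.y⁻¹ := by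
      rw [hθr, MulAut.mul_apply, MulAut.conj_apply, ← (hcentral _ (comC _ (T.z_mem hG) T.y) r).eq,
        mul_inv_cancel_right, h]
    have h2 := congrArg π h1
    rw [← hf, ← zh_apply, hfz, hθy, map_mul, mul_eq_left] at h2
    exact h2
  · obtain ⟨a, ha⟩ := IsPGroup.iff_card.1 (hG.to_subgroup (psi p G))
    obtain ⟨b, hb⟩ := IsPGroup.iff_card.1 (hG.to_subgroup (frattini G))
    have hlt : psi p G < frattini G := lt_of_le_of_ne (psi_le G) fun h => hzC (h ▸ T.z_mem hG)
    have ha1 : a ≠ 0 := fun h => hC (Subgroup.eq_bot_of_card_eq _ (by rw [ha, h, pow_zero]))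
    have hab : a < b := by
      rw [← Nat.pow_lt_pow_iff_right hp.one_lt, ← ha, ← hb]
      exact Set.Finite.card_lt_card (Set.toFinite _) hlt
    rw [← (frattini G).card_mul_index, hb, T.idx, ← pow_add]
    exact Nat.pow_le_pow_right hp.pos (by omega)

end Mover

end Cfsg.Agent.Lib.SectionalThree
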